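import Mathlib
import Cfsg.Agent.ParSys.Gal

/-!
# Linear functionals on the stabilisers of chambers (THEOREM W, bb #12324)

A chamber system whose panels have exactly three chambers and whose residues of rank two are generalised polygons, with a
group `G` of automorphisms.  `lam A i c g = 0` if `g` fixes all `i`-neighbours of `c`, and `1` otherwise.
-/

set_option autoImplicit false

namespace Cfsg.Agent.ParSys.Wt

open Cfsg.Agent.ParSys Cfsg.Agent.ParSys.Free

variable {C I G : Type*} [Group G] [MulAction G C] {A : I → C → C → Prop}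

open Classical in
/-- the action of `g` on the `i`-panel of `c` -/
noncomputable def lam (A : I → C → C → Prop) (i : I) (c : C) (g : G) : ZMod 2 :=
  if ∀ d, A i c d → g • d = d then 0 else 1

theorem lam_eq_zero {i : I} {c : C} {g : G} : lam A i c g = 0 ↔ ∀ d, A i c d → g • d = d := by
  unfold lam
  split_ifs with h
  · simpa using h
  · simpa using h

theorem lam_eq_one {i : I} {c : C} {g : G} : lam A i c g = 1 ↔ ¬ ∀ d, A i c d → g • d = d := by
  unfold lam
  split_ifs with h
  · simpa using h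
  · simpa using h

theorem lam_eq_of_iff {i j : I} {c d : C} {g h : G}
    (H : (∀ x, A i c x → g • x = x) ↔ (∀ x, A j d x → h • x = x)) : lam A i c g = lam A j d h := by
  unfold lam
  by_cases h1 : ∀ x, A i c x → g • x = x
  · rw [if_pos h1, if_pos (H.1 h1)]
  · rw [if_neg h1, if_neg (fun h2 => h1 (H.2 h2))]

/-- a chamber system with three chambers in every panel and a group of automorphisms -/
structure CS (G : Type*) [Group G] {C : Type*} [MulAction G C] {I : Type*} (A : I → C → C → Prop)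
    (m : I → I → ℕ) : Prop where
  cham : Cham A m
  two : ∀ i c, Nat.card {d // A i c d} = 2
  act : ∀ (g : G) i c d, A i c d → A i (g • c) (g • d)
  symm : ∀ i j, m i j = m j i

variable {m : I → I → ℕ}

namespace CS

variable (h : CS G A m)
include h

theorem act_iff (g : G) (i : I) (c d : C) : A i (g • c) (g • d) ↔ A i c d :=
  ⟨fun h1 => by simpa using h.act g⁻¹ i _ _ h1, h.act g i c d⟩

theorem exists_two (i : I) (c : C) : ∃ d e, d ≠ e ∧ A i c d ∧ A i c e ∧ ∀ x, A i c x → x = d ∨ x = e := by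
  have h1 := h.two i c
  rw [Nat.card_eq_two_iff] at h1
  obtain ⟨⟨d, hd⟩, ⟨e, he⟩, hne, huniv⟩ := h1
  refine ⟨d, e, fun h2 => hne (Subtype.ext h2), hd, he, fun x hx => ?_⟩
  have : (⟨x, hx⟩ : {d // A i c d}) ∈ ({⟨d, hd⟩, ⟨e, he⟩} : Set {d // A i c d}) := by rw [huniv]; trivial
  rcases this with h2 | h2
  · exact Or.inl (congrArg Subtype.val h2)
  · exact Or.inr (congrArg Subtype.val h2)

/-- the other neighbour -/
theorem exists_other {i : I} {c d : C} (hd : A i c d) : ∃ e, e ≠ d ∧ A i c e ∧ ∀ x, A i c x → x = d ∨ x = e := by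
  obtain ⟨a, b, hab, ha, hb, hx⟩ := h.exists_two i c
  rcases hx d hd with rfl | rfl
  · exact ⟨b, hab.symm, hb, hx⟩
  · exact ⟨a, hab, ha, fun x hx' => (hx x hx').symm⟩

/-- if one neighbour is fixed, all are -/
theorem lam_zero_of_fix {i : I} {c d : C} {g : G} (hc : g • c = c) (hd : A i c d) (hgd : g • d = d) :
    lam A i c g = 0 := by
  obtain ⟨e, hne, he, hx⟩ := h.exists_other hd
  rw [lam_eq_zero]
  intro x hx'
  rcases hx x hx' with rfl | rfl
  · exact hgd
  · have h1 := h.act g i c x hx'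
    rw [hc] at h1
    rcases hx _ h1 with h2 | h2
    · exfalso
      apply hne
      have : g • x = g • d := by rw [h2, hgd]
      exact smul_left_cancel g this
    · exact h2

omit h in
theorem lam_one_of_ne {i : I} {c d : C} {g : G} (hd : A i c d) (hgd : g • d ≠ d) : lam A i c g = 1 := by
  rw [lam_eq_one]
  exact fun h1 => hgd (h1 d hd)

/-- if `g` moves the panel it moves every neighbour -/
theorem ne_of_lam_one {i : I} {c d : C} {g : G} (hc : g • c = c) (h1 : lam A i c g = 1) (hd : A i c d) :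
    g • d ≠ d := by
  intro h2
  rw [h.lam_zero_of_fix hc hd h2] at h1
  exact absurd h1 (by decide)

theorem fix_iff {i : I} {c d : C} {g : G} (hc : g • c = c) (hd : A i c d) : g • d = d ↔ lam A i c g = 0 :=
  ⟨h.lam_zero_of_fix hc hd, fun h1 => lam_eq_zero.1 h1 d hd⟩

theorem lam_one_eq {i : I} {c d e : C} {g : G} (hc : g • c = c) (h1 : lam A i c g = 1) (hd : A i c d)
    (he : A i c e) (hne : d ≠ e) : g • d = e := by
  obtain ⟨e', hne', he', hx⟩ := h.exists_other hd
  have h2 := h.act g i c d hd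
  rw [hc] at h2
  rcases hx _ h2 with h3 | h3
  · exact absurd h3 (h.ne_of_lam_one hc h1 hd)
  · rcases hx _ he with h4 | h4
    · exact absurd h4.symm hne
    · rw [h3, h4]

omit h in
theorem lam_one {i : I} {c : C} : lam A i c (1 : G) = 0 := lam_eq_zero.2 fun d _ => one_smul G d

theorem lam_mul {i : I} {c : C} {g k : G} (hg : g • c = c) (hk : k • c = c) :
    lam A i c (g * k) = lam A i c g + lam A i c k := by
  obtain ⟨d, e, hne, hd, he, hx⟩ := h.exists_two i c
  have hgk : (g * k) • c = c := by rw [mul_smul, hk, hg]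
  have z2 : ∀ a : ZMod 2, a = 0 ∨ a = 1 := by decide
  rcases z2 (lam A i c g) with h1 | h1 <;> rcases z2 (lam A i c k) with h2 | h2 <;> rw [h1, h2]
  · refine h.lam_zero_of_fix hgk hd ?_
    rw [mul_smul, (h.fix_iff hk hd).2 h2, (h.fix_iff hg hd).2 h1]
  · refine lam_one_of_ne hd ?_
    rw [mul_smul, h.lam_one_eq hk h2 hd he hne, (h.fix_iff hg he).2 h1]
    exact hne.symm
  · refine lam_one_of_ne hd ?_
    rw [mul_smul, (h.fix_iff hk hd).2 h2, h.lam_one_eq hg h1 hd he hne]
    exact hne.symm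
  · have : (1 : ZMod 2) + 1 = 0 := by decide
    rw [this]
    refine h.lam_zero_of_fix hgk hd ?_
    rw [mul_smul, h.lam_one_eq hk h2 hd he hne, h.lam_one_eq hg h1 he hd hne.symm]

theorem lam_inv {i : I} {c : C} {g : G} (hg : g • c = c) : lam A i c g⁻¹ = lam A i c g := by
  have hg' : g⁻¹ • c = c := by rw [inv_smul_eq_iff, hg]
  have h1 := h.lam_mul (i := i) hg hg'
  rw [mul_inv_cancel, lam_one] at h1
  have z2 : ∀ a b : ZMod 2, 0 = a + b → b = a := by decide
  exact z2 _ _ h1

/-- equivariance -/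
theorem lam_smul {i : I} {c : C} {g k : G} : lam A i (k • c) g = lam A i c (k⁻¹ * g * k) := by
  apply lam_eq_of_iff
  constructor
  · intro h1 x hx
    have h2 := h1 (k • x) (h.act k i c x hx)
    rw [mul_smul, mul_smul, h2, inv_smul_smul]
  · intro h1 x hx
    have h2 : A i c (k⁻¹ • x) := by
      have := h.act k⁻¹ i _ _ hx
      rwa [inv_smul_smul] at this
    have h3 := h1 _ h2
    rw [mul_smul, mul_smul, smul_inv_smul, inv_smul_eq_iff, smul_inv_smul] at h3
    exact h3

/-! ### galleries of length at most three -/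

omit h in
theorem gal1 {i : I} {c x : C} {l : List C} : IsGal A [i] c l ∧ l.getLastD c = x ↔ l = [x] ∧ A i c x := by
  constructor
  · rintro ⟨h1, h2⟩
    obtain ⟨d, l', rfl, h3, h4⟩ := isGal_cons_iff.1 h1
    rw [isGal_nil_iff] at h4
    subst h4
    simp at h2
    subst h2
    exact ⟨rfl, h3⟩
  · rintro ⟨rfl, h1⟩
    exact ⟨⟨h1, trivial⟩, rfl⟩

/-- `m = 2`: completing a square -/
theorem square {i j : I} (hij : i ≠ j) (hm : m i j = 2) {c d e : C} (h1 : A i c d) (h2 : A j d e) :
    ∃! x, A j c x ∧ A i x e := by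
  have h3 := h.cham.gp i j hij c [d, e] (by rw [hm]; exact ⟨h1, h2, trivial⟩)
  obtain ⟨l, ⟨h4, h5⟩, h6⟩ := h3
  rw [hm] at h4
  obtain ⟨x, l', rfl, h7, h8⟩ := isGal_cons_iff.1 h4
  obtain ⟨y, l'', rfl, h9, h10⟩ := isGal_cons_iff.1 h8
  obtain rfl := isGal_nil_iff.1 h10
  simp only [List.getLastD_cons, List.getLastD_nil] at h5
  subst h5
  refine ⟨x, ⟨h7, h9⟩, ?_⟩
  rintro z ⟨hz1, hz2⟩
  have h11 := h6 [z, y] ⟨by rw [hm]; exact ⟨hz1, hz2, trivial⟩, rfl⟩
  exact (List.cons.inj h11).1

/-- `m = 3`: completing a hexagon -/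
theorem hexagon {i j : I} (hij : i ≠ j) (hm : m i j = 3) {c d e f : C} (h1 : A i c d) (h2 : A j d e)
    (h3 : A i e f) : ∃ x y, (A j c x ∧ A i x y ∧ A j y f) ∧ ∀ x' y', A j c x' → A i x' y' → A j y' f →
      x' = x ∧ y' = y := by
  have h4 := h.cham.gp i j hij c [d, e, f] (by rw [hm]; exact ⟨h1, h2, h3, trivial⟩)
  obtain ⟨l, ⟨h5, h6⟩, h7⟩ := h4
  rw [hm] at h5
  obtain ⟨x, l', rfl, h8, h9⟩ := isGal_cons_iff.1 h5
  obtain ⟨y, l'', rfl, h10, h11⟩ := isGal_cons_iff.1 h9
  obtain ⟨z, l''', rfl, h12, h13⟩ := isGal_cons_iff.1 h11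
  obtain rfl := isGal_nil_iff.1 h13
  simp only [List.getLastD_cons, List.getLastD_nil] at h6
  subst h6
  refine ⟨x, y, ⟨h8, h10, h12⟩, ?_⟩
  intro x' y' h14 h15 h16
  have h17 := h7 [x', y', z] ⟨by rw [hm]; exact ⟨h14, h15, h16, trivial⟩, rfl⟩
  have h18 := List.cons.inj h17
  exact ⟨h18.1, (List.cons.inj h18.2).1⟩

/-- in a digon the two adjacencies are disjoint -/
theorem not_adj_two {i j : I} (hij : i ≠ j) (hm : m i j = 2) {c d : C} (h1 : A i c d) (h2 : A j c d) : False := by
  -- c -i- d -j- c' with c' the third chamber of the j-panel of c, d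
  obtain ⟨e, hne, he, -⟩ := h.exists_other (i := j) (c := d) (d := c) (h.cham.symm h2)
  -- c -i- d -j- e ; squares: c -j- x -i- e
  obtain ⟨x, ⟨hx1, hx2⟩, huniq⟩ := h.square hij hm h1 he
  -- also c -i- d -j- c : c -j- x' -i- c
  obtain ⟨y, ⟨hy1, hy2⟩, huniq'⟩ := h.square hij hm h1 (h.cham.symm h2)
  -- d is such a y
  have hyd : d = y := huniq' d ⟨h2, h.cham.symm h1⟩
  -- y' : the other neighbour of c in the panel; use galleries j i from c ending in e
  -- c -j- e (same j-panel), so c -j- e, and e -i- x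
  have hce : A j c e := h.cham.trans (h.cham.symm h2) he (Ne.symm hne)
  -- gallery j i : c -j- x -i- e ; the other order: unique gallery i j from c to e is d, e
  -- gallery c -i- d -j- e.  From e: e -i- x -j- c, e -i- ? -j- c
  have hji := h.symm i j
  have hxe : A i e x := h.cham.symm hx2
  have hxc : A j x c := h.cham.symm hx1
  -- gallery of type i j from e to c : x, c.  unique gallery of type j i from e to c
  obtain ⟨z, ⟨hz1, hz2⟩, hzu⟩ := h.square hij hm hxe hxc
  have hzd : d = z := hzu d ⟨h.cham.symm he, h.cham.symm h1⟩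
  -- gallery of type j i from d to ...: x ≠ c
  -- consider d -j- e -i- x : of type j i ; d -i- c -j- x.
  -- and x is j-adjacent to c, so x is in the j-panel {c, d, e} (or equals one of them)
  by_cases hxd : x = d
  · subst hxd
    -- d -i- e and d -j- e, c -i- d: c -i- e
    have hie : A i c e := by
      refine h.cham.trans (h.cham.symm h1) hx2 ?_
      exact Ne.symm hne
    -- c -i- e -j- d : square, c -j- ? -i- d unique: e? c -j- e, e -i- d
    -- c is both i- and j-adjacent to d and e. gallery i j : c, d, e; gallery of type i j: c, e, d;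
    -- c -i- d -j- c; type j i galleries from c to c : (d, c) and (e, c)
    have := huniq' e ⟨hce, h.cham.symm hie⟩
    rw [← hyd] at this
    exact h.cham.ne he this.symm
  · by_cases hxe' : x = e
    · exact h.cham.ne hx2 hxe'
    · -- x is j-adjacent to c, different from d, e: contradiction with three chambers
      obtain ⟨d', hd', -, hall⟩ := h.exists_other (i := j) (c := c) (d := d) h2
      rcases hall e hce with h5 | h5
      · exact h.cham.ne he h5.symm
      · rcases hall x hx1 with h6 | h6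
        · exact hxd h6
        · exact hxe' (h6.trans h5.symm)

/-- in a generalised triangle the two adjacencies are disjoint -/
theorem not_adj_three {i j : I} (hij : i ≠ j) (hm : m i j = 3) {c d : C} (h1 : A i c d) (h2 : A j c d) : False := by
  obtain ⟨e, hne, he, -⟩ := h.exists_other h1
  have hed : A i e d := h.cham.symm (h.cham.trans h1 he hne.symm)
  have hec := h.cham.symm he
  obtain ⟨x, y, ⟨h3, h4, h5⟩, -⟩ := h.hexagon hij hm hec h2 (h.cham.symm hed)
  have hm' : m j i = 3 := by rw [h.symm]; exact hm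
  obtain ⟨a, b, -, hu⟩ := h.hexagon hij.symm hm' h3 h4 h5
  have e1 := hu c d hec h2 (h.cham.symm hed)
  have e2 := hu d c hed (h.cham.symm h2) he
  exact h.cham.ne h1 (e1.1.trans e2.1.symm)

theorem not_adj {i j : I} (hij : i ≠ j) (hm : m i j = 2 ∨ m i j = 3) {c d : C} (h1 : A i c d) (h2 : A j c d) :
    False := by
  rcases hm with hm | hm
  · exact h.not_adj_two hij hm h1 h2
  · exact h.not_adj_three hij hm h1 h2

/-- no closed galleries of length four in a generalised triangle -/
theorem no_four {i j : I} (hij : i ≠ j) (hm : m i j = 3) {w x k v : C} (h1 : A i w x) (h2 : A j x k)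
    (h3 : A i k v) (h4 : A j v w) : False := by
  have hm' : m j i = 3 := by rw [h.symm]; exact hm
  obtain ⟨u, hu1, hu2, -⟩ := h.exists_other h4
  obtain ⟨t, ht1, ht2, -⟩ := h.exists_other h2
  have huv : A j u v := h.cham.symm hu2
  have huw : A j u w := h.cham.symm (h.cham.trans h4 hu2 hu1.symm)
  have hkt : A j k t := h.cham.trans h2 ht2 ht1.symm
  obtain ⟨a, b, ⟨h5, h6, h7⟩, -⟩ := h.hexagon hij.symm hm' huw h1 ht2
  obtain ⟨a', b', -, hun⟩ := h.hexagon hij hm h5 h6 h7
  have e1 := hun w x huw h1 ht2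
  have e2 := hun v k huv (h.cham.symm h3) hkt
  exact h.cham.ne h4 (e2.1.trans e1.1.symm)

/-! ### Parallel panels -/

theorem par2 {i j : I} (hij : i ≠ j) (hm : m i j = 2) {c d : C} (hcd : A i c d) {g : G} (hc : g • c = c)
    (hd : g • d = d) : lam A j c g = lam A j d g := by
  have hm' : m j i = 2 := by rw [h.symm]; exact hm
  have key : ∀ c d : C, A i c d → g • c = c → g • d = d → lam A j c g = 0 → lam A j d g = 0 := by
    intro c d hcd hc hd h0
    obtain ⟨x, hx⟩ := h.cham.ex j c
    have hgx := lam_eq_zero.1 h0 x hx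
    obtain ⟨y, ⟨hy1, hy2⟩, hyu⟩ := h.square hij.symm hm' (h.cham.symm hx) hcd
    have h1 := h.act g i x y hy1
    have h2 := h.act g j y d hy2
    rw [hgx] at h1
    rw [hd] at h2
    exact h.lam_zero_of_fix hd (h.cham.symm hy2) (hyu _ ⟨h1, h2⟩)
  have z2 : ∀ a b : ZMod 2, (a = 0 → b = 0) → (b = 0 → a = 0) → a = b := by decide
  exact z2 _ _ (key c d hcd hc hd) (key d c (h.cham.symm hcd) hd hc)

theorem par3 {i j : I} (hij : i ≠ j) (hm : m i j = 3) {c d e : C} (hcd : A i c d) (hde : A j d e) {g : G}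
    (hc : g • c = c) (hd : g • d = d) (he : g • e = e) : lam A j c g = lam A i e g := by
  have key : ∀ (i j : I) (c d e : C), i ≠ j → m i j = 3 → A i c d → A j d e → g • c = c → g • d = d → g • e = e →
      lam A j c g = 0 → lam A i e g = 0 := by
    intro i j c d e hij hm hcd hde hc hd he h0
    have hm' : m j i = 3 := by rw [h.symm]; exact hm
    obtain ⟨x, hx⟩ := h.cham.ex j c
    have hgx := lam_eq_zero.1 h0 x hx
    obtain ⟨y, z, ⟨h1, h2, h3⟩, hu⟩ := h.hexagon hij.symm hm' (h.cham.symm hx) hcd hde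
    have h1' := h.act g i x y h1
    have h2' := h.act g j y z h2
    have h3' := h.act g i z e h3
    rw [hgx] at h1'
    rw [he] at h3'
    exact h.lam_zero_of_fix he (h.cham.symm h3) (hu _ _ h1' h2' h3').2
  have hm' : m j i = 3 := by rw [h.symm]; exact hm
  have z2 : ∀ a b : ZMod 2, (a = 0 → b = 0) → (b = 0 → a = 0) → a = b := by decide
  exact z2 _ _ (key i j c d e hij hm hcd hde hc hd he)
    (key j i e d c hij.symm hm' (h.cham.symm hde) (h.cham.symm hcd) he hd hc)

/-! ### The Fano relation -/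

omit h in
/-- the relation between the points on three lines through a point, cut out by a further line -/
def Tr (A : I → C → C → Prop) (i j : I) (e f k z : C) : Prop :=
  ∃ u v w, A i f u ∧ A j u v ∧ A i v k ∧ A j u w ∧ A j v w ∧ A i w z ∧ A j z e

theorem third {i : I} {c d e x : C} (h1 : A i c d) (h2 : A i c e) (hne : d ≠ e) (h3 : A i c x) (h4 : x ≠ d) : x = e := by
  obtain ⟨e', hne', he', hx⟩ := h.exists_other h1
  have h5 := (hx e h2).resolve_left hne.symm
  have h6 := (hx x h3).resolve_left h4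
  rw [h6, h5]

theorem tr_exists {i j : I} (hij : i ≠ j) (hm : m i j = 3) {c d e f k : C} (hcd : A i c d) (hce : A i c e)
    (hde : d ≠ e) (hf : A j c f) (hk : A j d k) : ∃ z, Tr A i j e f k z := by
  have hm' : m j i = 3 := by rw [h.symm]; exact hm
  obtain ⟨u, v, ⟨h1, h2, h3⟩, -⟩ := h.hexagon hij.symm hm' (h.cham.symm hf) hcd hk
  obtain ⟨w, hw1, hw2, -⟩ := h.exists_other h2
  have hvw : A j v w := h.cham.trans h2 hw2 hw1.symm
  obtain ⟨z, y, ⟨h4, h5, h6⟩, -⟩ := h.hexagon hij.symm hm' (h.cham.symm hw2) (h.cham.symm h1) (h.cham.symm hf)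
  have hyd : y ≠ d := by
    rintro rfl
    by_cases hzk : z = k
    · subst hzk
      exact h.not_adj_three hij hm (h.cham.trans (h.cham.symm h3) (h.cham.symm h4) (h.cham.ne hvw)) hvw
    · have hzk' : A j z k := h.cham.trans (h.cham.symm h5) hk hzk
      exact h.no_four hij hm h4 hzk' (h.cham.symm h3) hvw
  have hye : y = e := h.third hcd hce hde (h.cham.symm h6) hyd
  subst hye
  exact ⟨z, u, v, w, h1, h2, h3, hw2, hvw, h4, h5⟩

theorem tr_unique {i j : I} (hij : i ≠ j) (hm : m i j = 3) {c d e f k z z' : C} (hcd : A i c d) (hce : A i c e)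
    (hf : A j c f) (hk : A j d k) (h1 : Tr A i j e f k z) (h2 : Tr A i j e f k z') : z = z' := by
  have hm' : m j i = 3 := by rw [h.symm]; exact hm
  obtain ⟨u, v, w, a1, a2, a3, a4, a5, a6, a7⟩ := h1
  obtain ⟨u', v', w', b1, b2, b3, b4, b5, b6, b7⟩ := h2
  obtain ⟨p, q, -, hu⟩ := h.hexagon hij.symm hm' (h.cham.symm hf) hcd hk
  obtain ⟨rfl, rfl⟩ := hu u v a1 a2 a3
  obtain ⟨rfl, rfl⟩ := hu u' v' b1 b2 b3
  have hw : w = w' := by
    refine h.third a2 b4 ?_ a4 (h.cham.ne a5).symm
    exact h.cham.ne b5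
  subst hw
  obtain ⟨p, q, -, hu'⟩ := h.hexagon hij.symm hm' (h.cham.symm a4) (h.cham.symm a1) (h.cham.symm hf)
  have e1 := hu' z e a6 a7 (h.cham.symm hce)
  have e2 := hu' z' e b6 b7 (h.cham.symm hce)
  rw [e1.1, e2.1]

theorem tr_left {i j : I} (hij : i ≠ j) (hm : m i j = 3) {c d e f f' k z : C} (hde : A i d e)
    (hf : A j c f) (hf' : A j c f') (hk : A j d k) (h1 : Tr A i j e f k z) (h2 : Tr A i j e f' k z) : f = f' := by
  have hm' : m j i = 3 := by rw [h.symm]; exact hm
  obtain ⟨u, v, w, a1, a2, a3, a4, a5, a6, a7⟩ := h1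
  obtain ⟨u', v', w', b1, b2, b3, b4, b5, b6, b7⟩ := h2
  obtain ⟨p, q, -, hu⟩ := h.hexagon hij.symm hm' a7 (h.cham.symm hde) hk
  have e1 := hu w v (h.cham.symm a6) (h.cham.symm a5) a3
  have e2 := hu w' v' (h.cham.symm b6) (h.cham.symm b5) b3
  have hw : w = w' := e1.1.trans e2.1.symm
  have hv : v = v' := e1.2.trans e2.2.symm
  subst hw
  subst hv
  have huu : u = u' := h.third a5 (h.cham.symm b2) (h.cham.ne (h.cham.symm b4)) (h.cham.symm a2) (h.cham.ne a4)
  subst huu
  by_contra hne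
  exact h.not_adj_three hij hm (h.cham.trans (h.cham.symm a1) (h.cham.symm b1) hne) (h.cham.trans hf hf' hne)

theorem tr_right {i j : I} (hij : i ≠ j) (hm : m i j = 3) {c d e f k k' z : C} (hce : A i c e)
    (hf : A j c f) (hk : A j d k) (hk' : A j d k') (h1 : Tr A i j e f k z) (h2 : Tr A i j e f k' z) : k = k' := by
  obtain ⟨u, v, w, a1, a2, a3, a4, a5, a6, a7⟩ := h1
  obtain ⟨u', v', w', b1, b2, b3, b4, b5, b6, b7⟩ := h2
  refine h.tr_left (e := e) (z := z) (k := f) (c := d) (d := c) hij hm hce hk hk' hf ?_ ?_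
  · exact ⟨v, u, w, h.cham.symm a3, h.cham.symm a2, h.cham.symm a1, a5, a4, a6, a7⟩
  · exact ⟨v', u', w', h.cham.symm b3, h.cham.symm b2, h.cham.symm b1, b5, b4, b6, b7⟩

theorem tr_smul {i j : I} {e f k z : C} (g : G) (h1 : Tr A i j e f k z) :
    Tr A i j (g • e) (g • f) (g • k) (g • z) := by
  obtain ⟨u, v, w, a1, a2, a3, a4, a5, a6, a7⟩ := h1
  exact ⟨g • u, g • v, g • w, h.act g _ _ _ a1, h.act g _ _ _ a2, h.act g _ _ _ a3, h.act g _ _ _ a4,
    h.act g _ _ _ a5, h.act g _ _ _ a6, h.act g _ _ _ a7⟩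

theorem fano_aux {i j : I} (hij : i ≠ j) (hm : m i j = 3) {c d e : C} (hcd : A i c d) (hce : A i c e) (hne : d ≠ e)
    {g : G} (hc : g • c = c) (hd : g • d = d) (he : g • e = e) (heq : lam A j c g = lam A j d g) :
    lam A j e g = 0 := by
  have hde : A i d e := h.cham.trans hcd hce hne
  obtain ⟨f, f', hff, hf, hf', hfx⟩ := h.exists_two j c
  obtain ⟨k, k', hkk, hk, hk', hkx⟩ := h.exists_two j d
  obtain ⟨z, hz⟩ := h.tr_exists hij hm hcd hce hne hf hk
  have hze : A j e z := by
    obtain ⟨u, v, w, a1, a2, a3, a4, a5, a6, a7⟩ := hz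
    exact h.cham.symm a7
  have hgz := h.tr_smul g hz
  rw [he] at hgz
  have z2 : ∀ a : ZMod 2, a = 0 ∨ a = 1 := by decide
  refine h.lam_zero_of_fix he hze ?_
  rcases z2 (lam A j c g) with h0 | h0
  · rw [lam_eq_zero.1 h0 f hf, lam_eq_zero.1 (heq ▸ h0) k hk] at hgz
    exact (h.tr_unique hij hm hcd hce hf hk hz hgz).symm
  · rw [h.lam_one_eq hc h0 hf hf' hff, h.lam_one_eq hd (heq ▸ h0) hk hk' hkk] at hgz
    obtain ⟨z1, hz1⟩ := h.tr_exists hij hm hcd hce hne hf' hk
    obtain ⟨z2', hz2⟩ := h.tr_exists hij hm hcd hce hne hf' hk'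
    have n1 : z1 ≠ z := by
      rintro rfl
      exact hff (h.tr_left hij hm hde hf hf' hk hz hz1)
    have n2 : z2' ≠ z1 := by
      rintro rfl
      exact hkk (h.tr_right hij hm hce hf' hk hk' hz1 hz2)
    have a1 : A j e z1 := by
      obtain ⟨u, v, w, a1, a2, a3, a4, a5, a6, a7⟩ := hz1
      exact h.cham.symm a7
    have a2 : A j e z2' := by
      obtain ⟨u, v, w, a1, a2, a3, a4, a5, a6, a7⟩ := hz2
      exact h.cham.symm a7
    have e2 : z2' = z := h.third a1 hze n1 a2 n2
    rw [e2] at hz2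
    exact (h.tr_unique hij hm hcd hce hf' hk' hz2 hgz).symm

/-- **FANO** -/
theorem fano {i j : I} (hij : i ≠ j) (hm : m i j = 3) {c d e : C} (hcd : A i c d) (hce : A i c e) (hne : d ≠ e)
    {g : G} (hc : g • c = c) (hd : g • d = d) (he : g • e = e) :
    lam A j c g + lam A j d g + lam A j e g = 0 := by
  have h1 := h.fano_aux hij hm hcd hce hne hc hd he
  have h2 := h.fano_aux hij hm hce hcd hne.symm hc he hd
  have hde : A i d e := h.cham.trans hcd hce hne
  have h3 := h.fano_aux hij hm hde (h.cham.symm hcd) (h.cham.ne hce).symm hd he hc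
  have z2 : ∀ a b c : ZMod 2, (a = b → c = 0) → (a = c → b = 0) → (b = c → a = 0) → a + b + c = 0 := by decide
  exact z2 _ _ _ h1 h2 h3

end CS

end Cfsg.Agent.ParSys.Wt
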