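import Mathlib
import Cfsg.Agent.ParSys.Wt.Lam
import Cfsg.Agent.ParSys.Free

/-!
# Galleries in honest residues (THEOREM W, bb #12324)

`Gl cs A w x y` : there is a gallery of reduced type `w` from `x` to `y`.  `Hon J` : the stabiliser of every chamber `x` is
transitive on the galleries of every reduced type `f` with letters in `J` which start in `x`.  Then the `J`-residues
behave like buildings: `Hon.uniq`, `Hon.mid`, `Hon.opp_fix`.
-/

set_option autoImplicit false
set_option linter.unusedSectionVars false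

namespace Cfsg.Agent.ParSys.Wt

open Cfsg.Agent.ParSys Cfsg.Agent.ParSys.Free Cfsg.Agent.Tits.Core

variable {C I G : Type*} [Group G] [MulAction G C] {A : I → C → C → Prop}
  {M : CoxeterMatrix I} {W : Type*} [Group W]

/-- there is a gallery of reduced type `w` from `x` to `y` -/
def Gl (cs : CoxeterSystem M W) (A : I → C → C → Prop) (w : W) (x y : C) : Prop :=
  ∃ f, cs.IsReduced f ∧ cs.wordProd f = w ∧ FG A id f x y

/-- a chamber system of type `M` with three chambers in every panel -/
structure Sy (G : Type*) [Group G] {C : Type*} [MulAction G C] (cs : CoxeterSystem M W) (A : I → C → C → Prop) :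
    Prop extends CS G A (fun i j => M i j) where
  tr : ∀ x y : C, ∃ g : G, g • x = y

variable {cs : CoxeterSystem M W}

namespace Sy

variable (h : Sy G cs A)
include h

theorem br {f f' : List I} (hb : Br (fun i j => M i j) f f') {x y : C} (hf : FG A id f x y) : FG A id f' x y :=
  FG.br h.cham (fun _ _ _ h => h) hb hf

theorem gl_iff [Finite I] [Finite W] {f : List I} (hf : cs.IsReduced f) {x y : C} :
    Gl cs A (cs.wordProd f) x y ↔ FG A id f x y := by
  constructor
  · rintro ⟨f', hf', he, h1⟩
    exact h.br (br_of_reduced cs hf' hf he) h1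
  · intro h1
    exact ⟨f, hf, rfl, h1⟩

omit h in
theorem gl_one {x y : C} : Gl cs A 1 x y ↔ x = y := by
  constructor
  · rintro ⟨f, hf, he, h1⟩
    have : f = [] := by
      have h2 := hf.eq
      rw [he, cs.length_one] at h2
      exact List.length_eq_zero_iff.1 h2.symm
    subst this
    exact (fg_nil.1 h1).2
  · rintro rfl
    exact ⟨[], by simp [CoxeterSystem.IsReduced], rfl, fg_nil.2 ⟨rfl, rfl⟩⟩

omit h in
theorem gl_adj {i : I} {x y : C} (h1 : A i x y) : Gl cs A (cs.simple i) x y := by
  refine ⟨[i], ?_, cs.wordProd_singleton i, fg_cons.2 ⟨y, ⟨rfl, h1⟩, fg_nil.2 ⟨rfl, rfl⟩⟩⟩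
  show cs.length (cs.wordProd [i]) = 1
  rw [cs.wordProd_singleton, cs.length_simple]

theorem adj_gl [Finite I] [Finite W] {i : I} {x y : C} (h1 : Gl cs A (cs.simple i) x y) : A i x y := by
  have hr : cs.IsReduced [i] := by
    show cs.length (cs.wordProd [i]) = 1
    rw [cs.wordProd_singleton, cs.length_simple]
  rw [← cs.wordProd_singleton, h.gl_iff hr] at h1
  obtain ⟨e, ⟨-, h2⟩, h3⟩ := fg_cons.1 h1
  obtain ⟨-, rfl⟩ := fg_nil.1 h3
  exact h2

omit h in
theorem gl_mul {u v : W} (hl : cs.length (u * v) = cs.length u + cs.length v) {x y z : C} (h1 : Gl cs A u x y)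
    (h2 : Gl cs A v y z) : Gl cs A (u * v) x z := by
  obtain ⟨f, hf, rfl, h1⟩ := h1
  obtain ⟨g, hg, rfl, h2⟩ := h2
  refine ⟨f ++ g, ?_, cs.wordProd_append f g, fg_append.2 ⟨y, h1, h2⟩⟩
  show cs.length (cs.wordProd (f ++ g)) = (f ++ g).length
  rw [cs.wordProd_append, hl, hf.eq, hg.eq, List.length_append]

theorem gl_split [Finite I] [Finite W] {u v : W} (hl : cs.length (u * v) = cs.length u + cs.length v) {x z : C}
    (h1 : Gl cs A (u * v) x z) : ∃ y, Gl cs A u x y ∧ Gl cs A v y z := by
  obtain ⟨f, hf, rfl⟩ := cs.exists_isReduced u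
  obtain ⟨g, hg, rfl⟩ := cs.exists_isReduced v
  have hr : cs.IsReduced (f ++ g) := by
    show cs.length (cs.wordProd (f ++ g)) = (f ++ g).length
    rw [cs.wordProd_append, hl, hf.eq, hg.eq, List.length_append]
  rw [← cs.wordProd_append, h.gl_iff hr] at h1
  obtain ⟨y, h2, h3⟩ := fg_append.1 h1
  exact ⟨y, ⟨f, hf, rfl, h2⟩, ⟨g, hg, rfl, h3⟩⟩

omit h in
theorem fg_smul (hA : ∀ (g : G) i c d, A i c d → A i (g • c) (g • d)) (g : G) {f : List I} {x y : C}
    (h1 : FG A id f x y) : FG A id f (g • x) (g • y) := by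
  obtain ⟨-, l, hl, -, rfl⟩ := h1
  exact ⟨rfl, l.map (g • ·), hl.map (hA g), fun _ _ => rfl, getLastD_map (g • ·) x l⟩

theorem gl_smul (g : G) {w : W} {x y : C} (h1 : Gl cs A w x y) : Gl cs A w (g • x) (g • y) := by
  obtain ⟨f, hf, rfl, h1⟩ := h1
  exact ⟨f, hf, rfl, fg_smul h.act g h1⟩

theorem gl_exists (w : W) (x : C) : ∃ y, Gl cs A w x y := by
  obtain ⟨f, hf, rfl⟩ := cs.exists_isReduced w
  obtain ⟨l, hl⟩ := exists_isGal h.cham.ex f x
  exact ⟨_, f, hf, rfl, rfl, l, hl, fun _ _ => rfl, rfl⟩

theorem fg_reverse {f : List I} {x y : C} (h1 : FG A id f x y) : FG A id f.reverse y x := by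
  induction f generalizing x with
  | nil =>
    obtain ⟨-, rfl⟩ := fg_nil.1 h1
    exact fg_nil.2 ⟨rfl, rfl⟩
  | cons i f ih =>
    obtain ⟨e, ⟨-, h2⟩, h3⟩ := fg_cons.1 h1
    rw [List.reverse_cons]
    exact fg_snoc.2 ⟨e, ih h3, h.cham.symm h2, rfl⟩

theorem gl_inv {w : W} {x y : C} (h1 : Gl cs A w x y) : Gl cs A w⁻¹ y x := by
  obtain ⟨f, hf, rfl, h1⟩ := h1
  exact ⟨f.reverse, hf.reverse, cs.wordProd_reverse f, h.fg_reverse h1⟩

/-- right multiplication by a simple reflection, upwards -/
theorem gl_up {w : W} {i : I} (hl : cs.length w < cs.length (w * cs.simple i)) {x y z : C}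
    (h1 : Gl cs A w x y) (h2 : A i y z) : Gl cs A (w * cs.simple i) x z := by
  refine gl_mul ?_ h1 (gl_adj h2)
  rw [cs.length_simple]
  rcases cs.length_mul_simple w i with h3 | h3 <;> omega

theorem gl_down [Finite I] [Finite W] {w : W} {i : I} (hl : cs.length (w * cs.simple i) < cs.length w) {x z : C}
    (h1 : Gl cs A w x z) : ∃ y, Gl cs A (w * cs.simple i) x y ∧ A i y z := by
  have e : w * cs.simple i * cs.simple i = w := cs.simple_mul_simple_cancel_right i
  rw [← e] at h1
  obtain ⟨y, h2, h3⟩ := h.gl_split (by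
    rw [e, cs.length_simple]
    rcases cs.length_mul_simple w i with h3 | h3 <;> omega) h1
  exact ⟨y, h2, h.adj_gl h3⟩

end Sy

/-- The `J`-residues are honest. -/
def Hon (G : Type*) [Group G] {C : Type*} [MulAction G C] (cs : CoxeterSystem M W) (A : I → C → C → Prop)
    (J : Set I) : Prop :=
  ∀ f : List I, (∀ i ∈ f, i ∈ J) → cs.IsReduced f → ∀ x l l', IsGal A f x l → IsGal A f x l' →
    ∃ g : G, g • x = x ∧ l' = l.map (g • ·)

theorem Hon.mono {J K : Set I} (hJ : Hon G cs A K) (hJK : J ⊆ K) : Hon G cs A J :=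
  fun f hf => hJ f fun i hi => hJK (hf i hi)

namespace Hon

open Cfsg.Agent.Tits.Exchange

variable (h : Sy G cs A) {J : Set I} (hJ : Hon G cs A J)
include h hJ

theorem gl_trans [Finite I] [Finite W] {w : W} (hw : w ∈ WJ cs J) {x y y' : C} (h1 : Gl cs A w x y)
    (h2 : Gl cs A w x y') : ∃ g : G, g • x = x ∧ g • y = y' := by
  obtain ⟨f, hfJ, hf, rfl⟩ := exists_reduced_of_mem_WJ cs hw
  rw [h.gl_iff hf] at h1 h2
  obtain ⟨-, l, hl, -, rfl⟩ := h1
  obtain ⟨-, l', hl', -, rfl⟩ := h2
  obtain ⟨g, hg, rfl⟩ := hJ f hfJ hf x l l' hl hl'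
  refine ⟨g, hg, ?_⟩
  have h3 := getLastD_map (g • ·) x l
  simp only [hg] at h3
  exact h3.symm

omit h hJ in
theorem exists_descent {w : W} (hw : w ∈ WJ cs J) (hne : w ≠ 1) :
    ∃ i ∈ J, cs.length (w * cs.simple i) < cs.length w := by
  obtain ⟨f, hfJ, hf, rfl⟩ := exists_reduced_of_mem_WJ cs hw
  rcases List.eq_nil_or_concat f with rfl | ⟨f, i, rfl⟩
  · exact absurd rfl hne
  · refine ⟨i, hfJ i (by simp), ?_⟩
    have h1 := hf.eq
    rw [List.concat_eq_append, cs.wordProd_append, cs.wordProd_singleton, List.length_append,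
      List.length_singleton] at h1
    rw [List.concat_eq_append, cs.wordProd_append, cs.wordProd_singleton, cs.simple_mul_simple_cancel_right, h1]
    have := cs.length_wordProd_le f
    omega

theorem uniq_aux [Finite I] [Finite W] (n : ℕ) : ∀ (u v : W) (x y : C), cs.length u = n → cs.length u ≤ cs.length v →
    u ∈ WJ cs J → v ∈ WJ cs J → Gl cs A u x y → Gl cs A v x y → u = v := by
  induction n using Nat.strong_induction_on with
  | _ n ih =>
  intro u v x y hn hle hu hv h1 h2
  rcases eq_or_ne u 1 with rfl | hne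
  · obtain rfl := Sy.gl_one.1 h1
    by_contra hne
    -- a left descent of v
    obtain ⟨i, hiJ, hi⟩ := exists_descent (cs := cs) (J := J) (inv_mem hv) (by simpa using Ne.symm hne)
    have hi' : cs.length (cs.simple i * v) < cs.length v := by
      have e : v⁻¹ * cs.simple i = (cs.simple i * v)⁻¹ := by rw [mul_inv_rev, cs.inv_simple]
      rwa [e, cs.length_inv, cs.length_inv] at hi
    have hlen : cs.length v = 1 + cs.length (cs.simple i * v) := by
      rcases cs.length_simple_mul v i with h3 | h3 <;> omega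
    have e : cs.simple i * (cs.simple i * v) = v := cs.simple_mul_simple_cancel_left i
    have h2' : Gl cs A (cs.simple i * (cs.simple i * v)) x x := by rw [e]; exact h2
    obtain ⟨x1, h3, h4⟩ := h.gl_split (by rw [e, cs.length_simple, hlen]) h2'
    have h3' := h.adj_gl h3
    obtain ⟨x2, hx2, h5, -⟩ := h.exists_other (h.cham.symm h3')
    -- from x2 : v-galleries end in x and in x2
    have h6 : Gl cs A v x2 x := by
      have := Sy.gl_mul (cs := cs) (u := cs.simple i) (v := cs.simple i * v)
        (by rw [e, cs.length_simple, hlen]) (Sy.gl_adj (h.cham.symm h5)) h4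
      rwa [e] at this
    obtain ⟨g, hg⟩ := h.tr x x2
    have h7 : Gl cs A v x2 x2 := by
      have := h.gl_smul g h2
      rwa [hg] at this
    obtain ⟨k, hk1, hk2⟩ := gl_trans h hJ hv h7 h6
    exact hx2 (hk1.symm.trans hk2)
  · obtain ⟨i, hiJ, hi⟩ := exists_descent (cs := cs) (J := J) hu hne
    obtain ⟨p, h3, h4⟩ := h.gl_down hi h1
    have hi1 : cs.length u = cs.length (u * cs.simple i) + 1 := by
      rcases cs.length_mul_simple u i with h5 | h5 <;> omega
    have hu' : u * cs.simple i ∈ WJ cs J := mul_mem hu (simple_mem_WJ cs hiJ)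
    have hv' : v * cs.simple i ∈ WJ cs J := mul_mem hv (simple_mem_WJ cs hiJ)
    rcases lt_or_gt_of_ne (cs.length_mul_simple_ne v i) with hlt | hgt
    · obtain ⟨p', h5, h6⟩ := h.gl_down hlt h2
      have hi2 : cs.length v = cs.length (v * cs.simple i) + 1 := by
        rcases cs.length_mul_simple v i with h7 | h7 <;> omega
      by_cases hp : p = p'
      · subst hp
        have := ih _ (by omega) (u * cs.simple i) (v * cs.simple i) x p rfl (by omega) hu' hv' h3 h5
        exact mul_right_cancel this
      · exfalso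
        have h7 : A i p' p := h.cham.trans (h.cham.symm h6) (h.cham.symm h4) (Ne.symm hp)
        have h8 := h.gl_up (by rw [cs.simple_mul_simple_cancel_right]; exact hlt) h5 h7
        rw [cs.simple_mul_simple_cancel_right] at h8
        have := ih _ (by omega) (u * cs.simple i) v x p rfl (by omega) hu' hv h3 h8
        have := congrArg cs.length this
        omega
    · exfalso
      have h5 := h.gl_up hgt h2 (h.cham.symm h4)
      have := ih _ (by omega) (u * cs.simple i) (v * cs.simple i) x p rfl (by omega) hu' hv' h3 h5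
      have := congrArg cs.length this
      omega

/-- the type of a gallery in a residue is determined by its ends -/
theorem uniq [Finite I] [Finite W] {u v : W} (hu : u ∈ WJ cs J) (hv : v ∈ WJ cs J) {x y : C}
    (h1 : Gl cs A u x y) (h2 : Gl cs A v x y) : u = v := by
  rcases le_total (cs.length u) (cs.length v) with hle | hle
  · exact uniq_aux h hJ _ u v x y rfl hle hu hv h1 h2
  · exact (uniq_aux h hJ _ v u x y rfl hle hv hu h2 h1).symm

/-- the gate of a panel -/
theorem gate [Finite I] [Finite W] {w : W} {i : I} (hw : w ∈ WJ cs J) (hi : i ∈ J)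
    (hl : cs.length w < cs.length (w * cs.simple i)) {x p p' z : C} (h1 : Gl cs A w x p) (h2 : Gl cs A w x p')
    (h3 : A i p z) (h4 : A i p' z) : p = p' := by
  by_contra hne
  have h5 : A i p p' := h.cham.trans (h.cham.symm h3) (h.cham.symm h4) hne
  have h6 := h.gl_up hl h1 h5
  have := uniq h hJ hw (mul_mem hw (simple_mem_WJ cs hi)) h2 h6
  exact cs.length_mul_simple_ne w i (congrArg cs.length this).symm

/-- the chambers in the middle of a gallery are determined by the ends -/
theorem mid [Finite I] [Finite W] {u v : W} (hu : u ∈ WJ cs J) (hv : v ∈ WJ cs J)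
    (hl : cs.length (u * v) = cs.length u + cs.length v) {x y y' z : C} (h1 : Gl cs A u x y) (h2 : Gl cs A v y z)
    (h3 : Gl cs A u x y') (h4 : Gl cs A v y' z) : y = y' := by
  induction hn : cs.length v generalizing v z with
  | zero =>
    rw [cs.length_eq_zero_iff] at hn
    subst hn
    rw [Sy.gl_one.1 h2, Sy.gl_one.1 h4]
  | succ n ih =>
    have hne : v ≠ 1 := by
      rintro rfl
      rw [cs.length_one] at hn
      omega
    obtain ⟨i, hiJ, hi⟩ := exists_descent (cs := cs) (J := J) hv hne
    obtain ⟨p, h5, h6⟩ := h.gl_down hi h2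
    obtain ⟨p', h7, h8⟩ := h.gl_down hi h4
    have hi1 : cs.length v = cs.length (v * cs.simple i) + 1 := by
      rcases cs.length_mul_simple v i with h9 | h9 <;> omega
    have hl' : cs.length (u * (v * cs.simple i)) = cs.length u + cs.length (v * cs.simple i) := by
      have h9 := cs.length_mul_le u (v * cs.simple i)
      have h10 := cs.length_mul_simple (u * v) i
      rw [mul_assoc] at h10
      omega
    have hv' : v * cs.simple i ∈ WJ cs J := mul_mem hv (simple_mem_WJ cs hiJ)
    have h9 := Sy.gl_mul hl' h1 h5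
    have h10 := Sy.gl_mul hl' h3 h7
    have e : u * (v * cs.simple i) * cs.simple i = u * v := by
      rw [mul_assoc, cs.simple_mul_simple_cancel_right]
    have hpp : p = p' := gate h hJ (mul_mem hu hv') hiJ (by rw [e]; omega) h9 h10 h6 h8
    subst hpp
    exact ih hv' hl' h5 h7 (by omega)

/-- a group element which fixes the ends fixes the chambers in the middle -/
theorem mid_fix [Finite I] [Finite W] {u v : W} (hu : u ∈ WJ cs J) (hv : v ∈ WJ cs J)
    (hl : cs.length (u * v) = cs.length u + cs.length v) {x y z : C} (h1 : Gl cs A u x y) (h2 : Gl cs A v y z)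
    {g : G} (hx : g • x = x) (hz : g • z = z) : g • y = y := by
  have h3 := h.gl_smul g h1
  have h4 := h.gl_smul g h2
  rw [hx] at h3
  rw [hz] at h4
  exact mid h hJ hu hv hl h3 h4 h1 h2

end Hon

/-- `y` is in the `J`-residue of `x` -/
def InRes (A : I → C → C → Prop) (J : Set I) (x y : C) : Prop :=
  Relation.ReflTransGen (fun a b => ∃ i ∈ J, A i a b) x y

theorem InRes.refl (J : Set I) (x : C) : InRes A J x x := Relation.ReflTransGen.refl

theorem InRes.trans {J : Set I} {x y z : C} (h1 : InRes A J x y) (h2 : InRes A J y z) : InRes A J x z :=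
  Relation.ReflTransGen.trans h1 h2

theorem InRes.mono {J K : Set I} (hJK : J ⊆ K) {x y : C} (h1 : InRes A J x y) : InRes A K x y := by
  induction h1 with
  | refl => exact InRes.refl K _
  | tail _ hbc ih =>
    obtain ⟨i, hi, hab⟩ := hbc
    exact ih.trans (Relation.ReflTransGen.single ⟨i, hJK hi, hab⟩)

theorem InRes.symm (hC : ∀ (i : I) (c d : C), A i c d → A i d c) {J : Set I} {x y : C} (h1 : InRes A J x y) :
    InRes A J y x := by
  induction h1 with
  | refl => exact InRes.refl J _
  | tail _ hbc ih =>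
    obtain ⟨i, hi, hab⟩ := hbc
    exact InRes.trans (Relation.ReflTransGen.single ⟨i, hi, hC _ _ _ hab⟩) ih

theorem Sy.inRes_symm (h : Sy G cs A) {J : Set I} {x y : C} (h1 : InRes A J x y) : InRes A J y x := by
  refine InRes.symm (A := A) ?_ h1
  intro i c d h2
  exact h.cham.symm h2

theorem inRes_of_gl [Finite I] [Finite W] (h : Sy G cs A) {J : Set I} {w : W} (hw : w ∈ WJ cs J) {x y : C}
    (h1 : Gl cs A w x y) : InRes A J x y := by
  obtain ⟨f, hfJ, hf, rfl⟩ := Cfsg.Agent.Tits.Exchange.exists_reduced_of_mem_WJ cs hw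
  rw [h.gl_iff hf] at h1
  clear hf hw
  induction f generalizing x with
  | nil =>
    obtain ⟨-, rfl⟩ := fg_nil.1 h1
    exact InRes.refl J _
  | cons i f ih =>
    obtain ⟨e, ⟨-, h2⟩, h3⟩ := fg_cons.1 h1
    exact InRes.trans (Relation.ReflTransGen.single ⟨i, hfJ i (by simp), h2⟩)
      (ih (fun j hj => hfJ j (by simp [hj])) h3)

namespace Hon

open Cfsg.Agent.Tits.Exchange

variable (h : Sy G cs A) {J : Set I} (hJ : Hon G cs A J)
include h hJ

omit h hJ in
theorem exists_ascent [Finite W] {w : W} (hw : w ∈ WJ cs J) (hne : w ≠ wJ cs J) :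
    ∃ j ∈ J, cs.length w < cs.length (w * cs.simple j) := by
  have hL := isLongest_wJ cs J
  have hne' : wJ cs J * w ≠ 1 := by
    intro h1
    apply hne
    rw [← hL.inv_eq]
    exact (inv_eq_of_mul_eq_one_right h1).symm
  obtain ⟨j, hj, hjd⟩ := exists_descent (cs := cs) (J := J) (mul_mem hL.1 hw) hne'
  refine ⟨j, hj, ?_⟩
  have h7 := (hL.2 _ (mul_mem hw (simple_mem_WJ cs hj))).1
  have h8 := (hL.2 _ hw).1
  rw [← mul_assoc] at h7
  omega

/-- an element which fixes two opposite chambers of a residue fixes the residue -/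
theorem opp_fix [Finite I] [Finite W] {x z y : C} (hz : Gl cs A (wJ cs J) x z) {g : G} (hx : g • x = x)
    (hgz : g • z = z) (hy : InRes A J x y) : g • y = y := by
  have hL := isLongest_wJ cs J
  have key : g • y = y ∧ ∃ z', g • z' = z' ∧ Gl cs A (wJ cs J) y z' := by
    induction hy with
    | refl => exact ⟨hx, z, hgz, hz⟩
    | @tail b c _ hbc ih =>
      obtain ⟨hb, z', hz', h1⟩ := ih
      obtain ⟨i, hi, hbc⟩ := hbc
      have hsi := simple_mem_WJ cs hi
      have hlen := (hL.2 _ hsi).2
      rw [cs.length_simple] at hlen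
      have e : cs.simple i * (cs.simple i * wJ cs J) = wJ cs J := cs.simple_mul_simple_cancel_left i
      have hmem : cs.simple i * wJ cs J ∈ WJ cs J := mul_mem hsi hL.1
      have h1' : Gl cs A (cs.simple i * (cs.simple i * wJ cs J)) b z' := by rw [e]; exact h1
      have hadd : cs.length (cs.simple i * (cs.simple i * wJ cs J)) =
          cs.length (cs.simple i) + cs.length (cs.simple i * wJ cs J) := by
        rw [e, cs.length_simple]; omega
      obtain ⟨x1, h2, h3⟩ := h.gl_split hadd h1'
      have hx1 : g • x1 = x1 := mid_fix h hJ hsi hmem hadd h2 h3 hb hz'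
      have h2' := h.adj_gl h2
      have hc : g • c = c := lam_eq_zero.1 (h.lam_zero_of_fix hb h2' hx1) c hbc
      refine ⟨hc, ?_⟩
      by_cases hcx : c = x1
      · subst hcx
        -- a letter j with s_i w_J s_j = w_J
        obtain ⟨j, hj, hjl⟩ := exists_ascent (cs := cs) hmem (by
          intro h6
          have := congrArg cs.length h6
          omega)
        have e2 : cs.simple i * wJ cs J * cs.simple j = wJ cs J := by
          refine hL.eq_of_length (mul_mem hmem (simple_mem_WJ cs hj)) ?_
          rcases cs.length_mul_simple (cs.simple i * wJ cs J) j with h4 | h4 <;> omega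
        have hadd2 : cs.length (cs.simple i * wJ cs J * cs.simple j) =
            cs.length (cs.simple i * wJ cs J) + cs.length (cs.simple j) := by
          rw [e2, cs.length_simple]; omega
        have h1'' : Gl cs A (cs.simple i * wJ cs J * cs.simple j) b z' := by rw [e2]; exact h1
        obtain ⟨e', h4, h5⟩ := h.gl_split hadd2 h1''
        have he' : g • e' = e' := mid_fix h hJ hmem (simple_mem_WJ cs hj) hadd2 h4 h5 hb hz'
        refine ⟨e', he', ?_⟩
        have := h.gl_up hjl h3 (h.cham.symm (h.adj_gl h5))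
        rwa [e2] at this
      · refine ⟨z', hz', ?_⟩
        have h4 : A i c x1 := h.cham.trans hbc h2' hcx
        have := Sy.gl_mul hadd (Sy.gl_adj h4) h3
        rwa [e] at this
  exact key.1

end Hon

end Cfsg.Agent.ParSys.Wt
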