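import Mathlib
import Cfsg.Agent.ParSys.Wt.Res
import Cfsg.Agent.ParSys.RankTwo
import Cfsg.Agent.ParSys.Words
import Cfsg.Agent.ParSys.FreeMain
import Cfsg.Agent.Tits.OfBN
import Cfsg.Agent.Tits.Gate
import Cfsg.Agent.Tits.Parabolic
import Cfsg.Agent.S0320

/-!
# Honest residues from (B,N)-pairs (THEOREM W, consumer side)

`ResBN B P K PK φ Q e m` : `φ : PK →* L` is onto, `B` and the `P i` (`i ∈ K`) are the preimages of `Q.B` and of the minimal
parabolics `Q.parabolic {e i}` of a (B,N)-pair `Q` of `L`; the labels of `Q` are given by `m`.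

* `ResBN.hon`  : the `K`-residues of `G ⧸ B` are honest;
* `ResBN.gpp`  : the rank two residues of type `{i, j} ⊆ K` are generalised polygons (`GPp`);
* `sy`         : `Sy G cs (adj B P)` from `GP` and `|P i : B| = 3`;
* `ResBN.of_index`, `lab_of_simply_laced` : adapters for the hypotheses.
-/

set_option autoImplicit false

namespace Cfsg.Agent.ParSys.Wt.HonBN

open Cfsg.Agent.ParSys Cfsg.Agent.ParSys.Free Cfsg.Agent.ParSys.RankTwo Cfsg.Agent.Tits.Core
  Cfsg.Agent.Tits.OfBN Cfsg.Agent.LieExceptional.BNPairCore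

/-! ### Galleries of reduced type in a building -/

section Bldg

variable {I W C : Type*} [Group W] {M : CoxeterMatrix I} {cs : CoxeterSystem M W} (Δ : Bldg cs C)

/-- adjacency in a building -/
def dadj (i : I) (x y : C) : Prop := Δ.δ x y = cs.simple i

theorem reduced_tail {i : I} {f : List I} (hf : cs.IsReduced (i :: f)) : cs.IsReduced f := by
  have := hf.drop 1
  simpa using this

theorem length_cons_red {i : I} {f : List I} (hf : cs.IsReduced (i :: f)) :
    cs.length (cs.simple i * cs.wordProd f) = 1 + cs.length (cs.wordProd f) := by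
  have h1 := hf.eq
  have h2 := (reduced_tail hf).eq
  rw [cs.wordProd_cons, List.length_cons] at h1
  omega

theorem δ_gal {f : List I} (hf : cs.IsReduced f) {x : C} {l : List C} (hl : IsGal (dadj Δ) f x l) :
    Δ.δ x (l.getLastD x) = cs.wordProd f := by
  induction f generalizing x l with
  | nil =>
    rw [isGal_nil_iff.1 hl]
    exact Δ.δ_self x
  | cons i f ih =>
    obtain ⟨d, l', rfl, h1, h2⟩ := isGal_cons_iff.1 hl
    have h3 := ih (reduced_tail hf) h2
    rw [List.getLastD_cons, cs.wordProd_cons]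
    exact Δ.δ_mul_of h1 h3 (by rw [cs.length_simple]; exact length_cons_red hf)

/-- a gallery of reduced type is determined by its ends -/
theorem gal_unique {f : List I} (hf : cs.IsReduced f) {x : C} {l l' : List C} (hl : IsGal (dadj Δ) f x l)
    (hl' : IsGal (dadj Δ) f x l') (he : l.getLastD x = l'.getLastD x) : l = l' := by
  induction f generalizing x l l' with
  | nil => rw [isGal_nil_iff.1 hl, isGal_nil_iff.1 hl']
  | cons i f ih =>
    obtain ⟨d, k, rfl, h1, h2⟩ := isGal_cons_iff.1 hl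
    obtain ⟨d', k', rfl, h1', h2'⟩ := isGal_cons_iff.1 hl'
    rw [List.getLastD_cons, List.getLastD_cons] at he
    have hr := reduced_tail hf
    have e1 := δ_gal Δ hr h2
    have e2 := δ_gal Δ hr h2'
    have hdd : d = d' := by
      by_contra hne
      have h3 : Δ.δ d' d = cs.simple i :=
        Δ.δ_eq_of_mem_Pan (Δ.mem_Pan_of_δ h1') (Δ.mem_Pan_of_δ h1) (Ne.symm hne)
      have h4 := Δ.δ_mul_of h3 e1 (by rw [cs.length_simple]; exact length_cons_red hf)
      rw [he, e2] at h4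
      have h5 := congrArg cs.length h4
      rw [length_cons_red hf] at h5
      omega
    subst hdd
    rw [ih hr h2 h2' he]

theorem exists_gal {f : List I} (hf : cs.IsReduced f) {x y : C} (h : Δ.δ x y = cs.wordProd f) :
    ∃ l, IsGal (dadj Δ) f x l ∧ l.getLastD x = y := by
  induction f generalizing x with
  | nil => exact ⟨[], by simp, Δ.eq_of_δ_eq_one h⟩
  | cons i f ih =>
    obtain ⟨z, h1, h2⟩ := Δ.exists_step y x i
    have h3 : Δ.δ z y = cs.wordProd f := by
      rw [Δ.symm y z, h2, Δ.symm x y, h, mul_inv_rev, inv_inv, cs.inv_simple, cs.wordProd_cons,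
        cs.simple_mul_simple_cancel_left]
    obtain ⟨l, hl, hly⟩ := ih (reduced_tail hf) h3
    exact ⟨z :: l, ⟨h1, hl⟩, by rw [List.getLastD_cons, hly]⟩

/-- a group which is transitive on the pairs of chambers at a given distance is transitive on the galleries of
reduced type -/
theorem gal_trans {L : Type*} [Group L] [MulAction L C] (hiso : ∀ (g : L) (x y : C), Δ.δ (g • x) (g • y) = Δ.δ x y)
    (htr : ∀ x y x' y' : C, Δ.δ x y = Δ.δ x' y' → ∃ g : L, g • x = x' ∧ g • y = y') {f : List I}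
    (hf : cs.IsReduced f) {x : C} {l l' : List C} (hl : IsGal (dadj Δ) f x l) (hl' : IsGal (dadj Δ) f x l') :
    ∃ g : L, g • x = x ∧ l' = l.map (g • ·) := by
  obtain ⟨g, hg, hge⟩ := htr x (l.getLastD x) x (l'.getLastD x) ((δ_gal Δ hf hl).trans (δ_gal Δ hf hl').symm)
  refine ⟨g, hg, ?_⟩
  have h3 : IsGal (dadj Δ) f (g • x) (l.map (g • ·)) := hl.map (g := (g • ·)) (fun i c d h => by
    show Δ.δ (g • c) (g • d) = _
    rw [hiso]
    exact h)
  rw [hg] at h3
  refine gal_unique Δ hf hl' h3 ?_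
  have := getLastD_map (g • ·) x l
  simp only [hg] at this
  rw [this, hge]

end Bldg

/-! ### Reduced words -/

/-- a word whose image under a morphism of Coxeter matrices is reduced, is reduced -/
theorem reduced_of_map {I I' W W' : Type*} [Group W] [Group W'] {M : CoxeterMatrix I} {M' : CoxeterMatrix I'}
    (cs : CoxeterSystem M W) (cs' : CoxeterSystem M' W') (r : I' → I) (hr : ∀ a b, M' a b = M (r a) (r b))
    {f : List I'} (hf : cs.IsReduced (f.map r)) : cs'.IsReduced f := by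
  have hlift : M'.IsLiftable fun a => cs.simple (r a) := by
    intro a b
    rw [hr]
    exact cs.simple_mul_simple_pow (r a) (r b)
  let ψ : W' →* W := cs'.lift ⟨_, hlift⟩
  have hψ : ∀ g : List I', ψ (cs'.wordProd g) = cs.wordProd (g.map r) := by
    intro g
    induction g with
    | nil => simp
    | cons a g ih =>
      rw [cs'.wordProd_cons, map_mul, ih, List.map_cons, cs.wordProd_cons]
      congr 1
      exact cs'.lift_apply_simple hlift a
  obtain ⟨g, hg, he⟩ := cs'.exists_isReduced (cs'.wordProd f)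
  have h1 := congrArg ψ he
  rw [hψ, hψ] at h1
  have h2 := hf.eq
  rw [h1, List.length_map] at h2
  have h3 := cs.length_wordProd_le (g.map r)
  rw [List.length_map] at h3
  have h4 := cs'.length_wordProd_le f
  show cs'.length (cs'.wordProd f) = f.length
  rw [he, hg.eq] at h4 ⊢
  omega

/-! ### Galleries and maps -/

theorem getLastD_map' {C C' : Type*} (g : C → C') (c : C) (l : List C) :
    (l.map g).getLastD (g c) = g (l.getLastD c) := by
  induction l generalizing c with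
  | nil => rfl
  | cons d l ih => rw [List.map_cons, List.getLastD_cons, List.getLastD_cons, ih]

theorem isGal_map_iff {C C' I I' : Type*} {A : I → C → C → Prop} {A' : I' → C' → C' → Prop} {r : I' → I}
    {ρ : C' → C} (hA : ∀ s a b, A' s a b ↔ A (r s) (ρ a) (ρ b)) (hex : ∀ s a d, A (r s) (ρ a) d → ∃ b, d = ρ b)
    {f : List I'} {a : C'} {l : List C} :
    IsGal A (f.map r) (ρ a) l ↔ ∃ k, l = k.map ρ ∧ IsGal A' f a k := by
  induction f generalizing a l with
  | nil =>
    rw [List.map_nil, isGal_nil_iff]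
    constructor
    · rintro rfl
      exact ⟨[], rfl, by simp⟩
    · rintro ⟨k, rfl, h⟩
      rw [isGal_nil_iff.1 h]
      rfl
  | cons s f ih =>
    rw [List.map_cons, isGal_cons_iff]
    constructor
    · rintro ⟨d, l', rfl, h1, h2⟩
      obtain ⟨b, rfl⟩ := hex s a d h1
      obtain ⟨k, rfl, h3⟩ := ih.1 h2
      exact ⟨b :: k, rfl, (hA s a b).2 h1, h3⟩
    · rintro ⟨k, rfl, h⟩
      obtain ⟨b, k', rfl, h1, h2⟩ := isGal_cons_iff.1 h
      exact ⟨ρ b, k'.map ρ, rfl, (hA s a b).1 h1, ih.2 ⟨k', rfl, h2⟩⟩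

/-! ### The residue data -/

variable {G : Type*} [Group G] {I : Type*} {B : Subgroup G} {P : I → Subgroup G}

/-- `φ : PK →* L` is onto; `B`, `P i` are the preimages of `Q.B`, `Q.parabolic {e i}`; the labels are given by `m` -/
structure ResBN (B : Subgroup G) (P : I → Subgroup G) (K : Set I) (PK : Subgroup G) {L : Type*} [Group L]
    (φ : ↥PK →* L) (Q : Cfsg.BNPair L) (e : ↥K ≃ ↥Q.S) (m : I → I → ℕ) : Prop where
  le : B ≤ PK
  leP : ∀ i ∈ K, P i ≤ PK
  surj : Function.Surjective φ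
  memB : ∀ x : ↥PK, (x : G) ∈ B ↔ φ x ∈ Q.B
  par : ∀ (i : ↥K) (x : ↥PK), (x : G) ∈ P i ↔ φ x ∈ Q.parabolic {((e i : ↥Q.S) : L)}
  lab : ∀ (i j : ↥K) (n : ℕ), (((e i : ↥Q.S) : L) * ((e j : ↥Q.S) : L)) ^ n ∈ Q.B ↔ m i j ∣ n

/-- the minimal parabolics of a (B,N)-pair -/
theorem mem_parabolic_iff' {L : Type*} [Group L] (Q : Cfsg.BNPair L) {s : L} (hs : s ∈ Q.S) (g : L) :
    g ∈ Q.parabolic {s} ↔ g ∈ Q.B ∨ g ∈ C Q s := by
  have hsub : ({s} : Set L) ⊆ Q.S := Set.singleton_subset_iff.2 hs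
  constructor
  · intro h
    rw [mem_parabolic_iff hsub] at h
    obtain ⟨n, hn, hg⟩ := h
    have hcase : n ∈ Q.B ∨ s⁻¹ * n ∈ Q.B := by
      obtain ⟨k, rfl⟩ := Subgroup.mem_closure_singleton.1 hn
      have hss : s * s ∈ Q.B := Q.sq_mem s hs
      have h2 : ∀ k : ℤ, (s * s) ^ k ∈ Q.B := fun k => zpow_mem hss k
      rcases Int.even_or_odd' k with ⟨j, rfl | rfl⟩
      · left
        have e1 : s ^ (2 * j) = (s * s) ^ j := by rw [zpow_mul, ← pow_two, zpow_ofNat]
        rw [e1]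
        exact h2 j
      · right
        have e1 : s⁻¹ * s ^ (2 * j + 1) = (s * s) ^ j := by
          rw [add_comm, zpow_add, zpow_one, inv_mul_cancel_left, zpow_mul, ← pow_two, zpow_ofNat]
        rw [e1]
        exact h2 j
    rcases hcase with h1 | h1
    · exact Or.inl (mem_B_of_mem_C h1 hg)
    · right
      rwa [C_eq_of_rel h1]
  · rintro (h | h)
    · exact (le_sup_left : Q.B ≤ Q.parabolic {s}) h
    · exact mem_of_mem_C' le_sup_left h ((le_sup_right : Subgroup.closure {s} ≤ Q.parabolic {s})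
        (Subgroup.subset_closure rfl))

theorem map_alt {I' : Type*} (r : I' → I) (a b : I') (k : ℕ) : (alt a b k).map r = alt (r a) (r b) k := by
  induction k generalizing a b with
  | zero => rfl
  | succ k ih => rw [alt_cons, List.map_cons, ih, alt_cons]

theorem exists_word {K : Set I} {f : List I} (hf : ∀ i ∈ f, i ∈ K) : ∃ g : List ↥K, g.map (Subtype.val : ↥K → I) = f := by
  induction f with
  | nil => exact ⟨[], rfl⟩
  | cons i f ih =>
    obtain ⟨g, hg⟩ := ih fun j hj => hf j (by simp [hj])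
    exact ⟨⟨i, hf i (by simp)⟩ :: g, by rw [List.map_cons, hg]⟩

namespace ResBN

variable {K : Set I} {PK : Subgroup G} {L : Type*} [Group L] {φ : ↥PK →* L} {Q : Cfsg.BNPair L}
  {e : ↥K ≃ ↥Q.S} {m : I → I → ℕ}

section basic

variable (h : ResBN B P K PK φ Q e m)
include h

theorem exists_rho (x : G) : ∃ ρ : L ⧸ Q.B → G ⧸ B, ∀ u : ↥PK, ρ ((φ u : L) : L ⧸ Q.B) = ((x * (u : G) : G) : G ⧸ B) := by
  choose σ hσ using h.surj
  refine ⟨fun z => ((x * ((σ z.out : ↥PK) : G) : G) : G ⧸ B), fun u => ?_⟩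
  rw [QuotientGroup.eq]
  have e1 : (x * ((σ ((φ u : L) : L ⧸ Q.B).out : ↥PK) : G))⁻¹ * (x * (u : G)) =
      (((σ ((φ u : L) : L ⧸ Q.B).out)⁻¹ * u : ↥PK) : G) := by
    rw [Subgroup.coe_mul, Subgroup.coe_inv]
    group
  rw [e1, h.memB, map_mul, map_inv, hσ]
  obtain ⟨b, hb⟩ := QuotientGroup.mk_out_eq_mul Q.B (φ u)
  rw [hb]
  have e2 : (φ u * (b : L))⁻¹ * φ u = (b : L)⁻¹ := by group
  rw [e2]
  exact inv_mem b.2

theorem rho_inj {x : G} {ρ : L ⧸ Q.B → G ⧸ B} (hρ : ∀ u : ↥PK, ρ ((φ u : L) : L ⧸ Q.B) = ((x * (u : G) : G) : G ⧸ B)) :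
    Function.Injective ρ := by
  intro a b hab
  induction a using QuotientGroup.induction_on with
  | _ α =>
  induction b using QuotientGroup.induction_on with
  | _ β =>
  obtain ⟨u, rfl⟩ := h.surj α
  obtain ⟨v, rfl⟩ := h.surj β
  rw [hρ, hρ, QuotientGroup.eq] at hab
  rw [QuotientGroup.eq, ← map_inv, ← map_mul, ← h.memB]
  have e1 : (x * (u : G))⁻¹ * (x * (v : G)) = ((u⁻¹ * v : ↥PK) : G) := by
    rw [Subgroup.coe_mul, Subgroup.coe_inv]
    group
  rwa [← e1]

theorem label {M'' : CoxeterMatrix ↥Q.S} [hN : ((Q.B ⊓ Q.N).subgroupOf Q.N).Normal] [Finite L]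
    (cs'' : CoxeterSystem M'' (WP Q))
    (hcs : ∀ s : ↥Q.S, cs''.simple s = QuotientGroup.mk (⟨(s : L), Q.subset s.2⟩ : Q.N)) (i j : ↥K) :
    M'' (e i) (e j) = m i j := by
  classical
  have := Fintype.ofFinite ↥Q.S
  rw [← Cfsg.Agent.LieRecognition.CoxForm.orderOf_eq cs'' (e i) (e j)]
  have key : ∀ n : ℕ, (cs''.simple (e i) * cs''.simple (e j)) ^ n = 1 ↔ m i j ∣ n := by
    intro n
    rw [hcs, hcs, ← h.lab i j n]
    exact Cfsg.Agent.Tits.Parabolic.mk_pow_eq_one_iff Q (e i).2 (e j).2 n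
  refine Nat.dvd_antisymm ?_ ?_
  · rw [orderOf_dvd_iff_pow_eq_one, key]
  · rw [← key]
    exact pow_orderOf_eq_one _

/-- the dictionary for one adjacency -/
theorem adj_iff (hBP : ∀ i, B ≤ P i) {x : G} {ρ : L ⧸ Q.B → G ⧸ B}
    (hρ : ∀ u : ↥PK, ρ ((φ u : L) : L ⧸ Q.B) = ((x * (u : G) : G) : G ⧸ B)) (s : ↥Q.S) (u v : ↥PK) :
    (φ u)⁻¹ * φ v ∈ C Q (s : L) ↔
      adj B P ((e.symm s : ↥K) : I) (ρ ((φ u : L) : L ⧸ Q.B)) (ρ ((φ v : L) : L ⧸ Q.B)) := by
  rw [hρ, hρ, adj_mk hBP]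
  have e1 : (x * (u : G))⁻¹ * (x * (v : G)) = ((u⁻¹ * v : ↥PK) : G) := by
    rw [Subgroup.coe_mul, Subgroup.coe_inv]
    group
  rw [e1, h.par, h.memB, Equiv.apply_symm_apply, mem_parabolic_iff' Q s.2, map_mul, map_inv]
  constructor
  · intro h1
    exact ⟨Or.inr h1, fun h2 => not_mem_B s.2 (mem_of_mem_C le_rfl h1 h2)⟩
  · rintro ⟨h1 | h1, h2⟩
    · exact absurd h1 h2
    · exact h1

theorem adj_ex (hBP : ∀ i, B ≤ P i) {x : G} {ρ : L ⧸ Q.B → G ⧸ B}
    (hρ : ∀ u : ↥PK, ρ ((φ u : L) : L ⧸ Q.B) = ((x * (u : G) : G) : G ⧸ B)) (s : ↥Q.S) (a : L ⧸ Q.B) (d : G ⧸ B)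
    (hd : adj B P ((e.symm s : ↥K) : I) (ρ a) d) : ∃ b, d = ρ b := by
  induction a using QuotientGroup.induction_on with
  | _ α =>
  obtain ⟨u, rfl⟩ := h.surj α
  induction d using QuotientGroup.induction_on with
  | _ z =>
  rw [hρ, adj_mk hBP] at hd
  have hz : (x * (u : G))⁻¹ * z ∈ PK := h.leP _ (e.symm s).2 hd.1
  refine ⟨((φ (u * ⟨_, hz⟩) : L) : L ⧸ Q.B), ?_⟩
  rw [hρ, Subgroup.coe_mul]
  congr 1
  simp only
  group

end basic

section main

variable {M : CoxeterMatrix I} {W : Type*} [Group W]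

/-- **the residue is honest** -/
theorem hon [Finite L] (h : ResBN B P K PK φ Q e (fun i j => M i j)) (cs : CoxeterSystem M W)
    (hBP : ∀ i, B ≤ P i) : Hon G cs (adj B P) K := by
  have := normal_subgroupOf Q
  obtain ⟨M'', cs'', hcs⟩ := S0320.result Q
  let Δ := bldg Q (Equiv.refl ↥Q.S) cs'' hcs
  intro f hf hred x l l' hl hl'
  induction x using QuotientGroup.induction_on with
  | _ x0 =>
  obtain ⟨ρ, hρ⟩ := h.exists_rho x0
  obtain ⟨g, rfl⟩ := exists_word hf
  let r : ↥Q.S → I := fun s => ((e.symm s : ↥K) : I)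
  have hgr : g.map (Subtype.val : ↥K → I) = (g.map e).map r := by
    rw [List.map_map]
    refine List.map_congr_left fun i _ => ?_
    show (i : I) = ((e.symm (e i) : ↥K) : I)
    rw [Equiv.symm_apply_apply]
  rw [hgr] at hred hl hl'
  have hred' : cs''.IsReduced (g.map e) := by
    refine reduced_of_map cs cs'' r (fun a b => ?_) hred
    have := h.label cs'' hcs (e.symm a) (e.symm b)
    rwa [Equiv.apply_symm_apply, Equiv.apply_symm_apply] at this
  have hA : ∀ s a b, dadj Δ s a b ↔ adj B P (r s) (ρ a) (ρ b) := by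
    intro s a b
    induction a using QuotientGroup.induction_on with
    | _ α =>
    induction b using QuotientGroup.induction_on with
    | _ β =>
    obtain ⟨u, rfl⟩ := h.surj α
    obtain ⟨v, rfl⟩ := h.surj β
    rw [← h.adj_iff hBP hρ s u v]
    show dist Q _ _ = _ ↔ _
    rw [dist_mk, hcs, wt_eq_iff]
  have h0 : ((x0 : G) : G ⧸ B) = ρ (((φ 1 : L)) : L ⧸ Q.B) := by
    rw [hρ, Subgroup.coe_one, mul_one]
  rw [h0] at hl hl'
  obtain ⟨k, rfl, hk⟩ := (isGal_map_iff hA (h.adj_ex hBP hρ)).1 hl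
  obtain ⟨k', rfl, hk'⟩ := (isGal_map_iff hA (h.adj_ex hBP hρ)).1 hl'
  obtain ⟨y, hy, rfl⟩ := gal_trans Δ (L := L) (fun g x y => dist_smul Q g x y)
    (fun x y x' y' hxy => Cfsg.Agent.Tits.OfBN.trans Q x y x' y' hxy) hred' hk hk'
  obtain ⟨u, rfl⟩ := h.surj y
  have hact : ∀ a, ρ (φ u • a) = (x0 * (u : G) * x0⁻¹) • ρ a := by
    intro a
    induction a using QuotientGroup.induction_on with
    | _ α =>
    obtain ⟨v, rfl⟩ := h.surj α
    have e1 : φ u • ((φ v : L) : L ⧸ Q.B) = ((φ (u * v) : L) : L ⧸ Q.B) := by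
      rw [map_mul]
      rfl
    rw [e1, hρ, hρ, Subgroup.coe_mul]
    show _ = ((x0 * (u : G) * x0⁻¹ * (x0 * (v : G)) : G) : G ⧸ B)
    congr 1
    group
  refine ⟨x0 * (u : G) * x0⁻¹, ?_, ?_⟩
  · rw [h0, ← hact, hy]
  · rw [List.map_map, List.map_map]
    exact List.map_congr_left fun a _ => hact a

/-- **the residues of rank two are generalised polygons** -/
theorem gpp [Finite L] (h : ResBN B P K PK φ Q e (fun i j => M i j)) (hBP : ∀ i, B ≤ P i) {i j : I}
    (hi : i ∈ K) (hj : j ∈ K) : GPp B P i j (M i j) := by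
  have := normal_subgroupOf Q
  have := Fintype.ofFinite ↥Q.S
  obtain ⟨M'', cs'', hcs⟩ := S0320.result Q
  let Δ := bldg Q (Equiv.refl ↥Q.S) cs'' hcs
  intro c l hl
  induction c using QuotientGroup.induction_on with
  | _ x0 =>
  obtain ⟨ρ, hρ⟩ := h.exists_rho x0
  let r : ↥Q.S → I := fun s => ((e.symm s : ↥K) : I)
  have hA : ∀ s a b, dadj Δ s a b ↔ adj B P (r s) (ρ a) (ρ b) := by
    intro s a b
    induction a using QuotientGroup.induction_on with
    | _ α =>
    induction b using QuotientGroup.induction_on with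
    | _ β =>
    obtain ⟨u, rfl⟩ := h.surj α
    obtain ⟨v, rfl⟩ := h.surj β
    rw [← h.adj_iff hBP hρ s u v]
    show dist Q _ _ = _ ↔ _
    rw [dist_mk, hcs, wt_eq_iff]
  have h0 : ((x0 : G) : G ⧸ B) = ρ (((φ 1 : L)) : L ⧸ Q.B) := by
    rw [hρ, Subgroup.coe_one, mul_one]
  have hinj := h.rho_inj hρ
  set a : ↥Q.S := e ⟨i, hi⟩ with ha
  set b : ↥Q.S := e ⟨j, hj⟩ with hb
  have hra : r a = i := by
    show ((e.symm a : ↥K) : I) = i
    rw [ha, Equiv.symm_apply_apply]
  have hrb : r b = j := by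
    show ((e.symm b : ↥K) : I) = j
    rw [hb, Equiv.symm_apply_apply]
  have hlab : M'' a b = M i j := h.label cs'' hcs ⟨i, hi⟩ ⟨j, hj⟩
  have hab : alt i j (M i j) = (alt a b (M i j)).map r := by rw [map_alt, hra, hrb]
  have hba : alt j i (M i j) = (alt b a (M i j)).map r := by rw [map_alt, hra, hrb]
  have hr1 : cs''.IsReduced (alt a b (M i j)) := Words.isReduced_alt cs'' fun _ => by rw [hlab]
  have hr2 : cs''.IsReduced (alt b a (M i j)) := Words.isReduced_alt cs'' fun _ => by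
    rw [M''.symmetric b a, hlab]
  have hprod : cs''.wordProd (alt a b (M i j)) = cs''.wordProd (alt b a (M i j)) := by
    have h1 := (Cfsg.Agent.LieExceptional.CoxeterExchange.pow_eq_one_iff (σ := cs''.simple) (x := a) (y := b)
      cs''.simple_mul_simple_self (M i j)).1 (by rw [← hlab]; exact cs''.simple_mul_simple_pow a b)
    rw [Free.alt_eq, Free.alt_eq] at h1
    exact h1
  rw [hab, h0] at hl
  obtain ⟨k, rfl, hk⟩ := (isGal_map_iff hA (h.adj_ex hBP hρ)).1 hl
  obtain ⟨k', hk', he⟩ := exists_gal Δ hr2 (x := ((φ 1 : L) : L ⧸ Q.B)) (y := k.getLastD ((φ 1 : L) : L ⧸ Q.B))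
    (by rw [δ_gal Δ hr1 hk, hprod])
  refine ⟨k'.map ρ, ⟨?_, ?_⟩, ?_⟩
  · rw [hba, h0]
    exact (isGal_map_iff hA (h.adj_ex hBP hρ)).2 ⟨k', rfl, hk'⟩
  · rw [h0, getLastD_map', getLastD_map', he]
  · rintro l'' ⟨h1, h2⟩
    rw [hba, h0] at h1
    obtain ⟨k'', rfl, hk''⟩ := (isGal_map_iff hA (h.adj_ex hBP hρ)).1 h1
    rw [h0, getLastD_map', getLastD_map'] at h2
    rw [gal_unique Δ hr2 hk'' hk' ((hinj h2).trans he.symm)]

end main

end ResBN

/-! ### The chamber system -/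

theorem sy [Finite G] {M : CoxeterMatrix I} {W : Type*} [Group W] {cs : CoxeterSystem M W} (hBP : ∀ i, B ≤ P i)
    (h3 : ∀ i, B.relIndex (P i) = 3) (hgp : GP B P (fun i j => M i j)) : Sy G cs (adj B P) where
  cham := cham hBP (fun i => by
    by_contra hcon
    push Not at hcon
    have h1 : P i ≤ B := hcon
    have h2 := Subgroup.relIndex_eq_one.2 h1
    rw [h3 i] at h2
    omega) hgp
  two i c := by
    have := card_adj (B := B) (P := P) hBP i c
    rw [h3 i] at this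
    omega
  act g i c d h := adj_smul g h
  symm i j := M.symmetric i j
  tr x y := MulAction.exists_smul_eq G x y

/-! ### Adapters -/

section adapters

variable {K : Set I} {PK : Subgroup G} {L : Type*} [Group L] {φ : ↥PK →* L} {Q : Cfsg.BNPair L}
  {e : ↥K ≃ ↥Q.S} {m : I → I → ℕ}

theorem par_of_index [Finite G] (hBP : ∀ i, B ≤ P i) {i : I} (h3 : B.relIndex (P i) = 3)
    (hB : ∀ x : ↥PK, (x : G) ∈ B ↔ φ x ∈ Q.B) {s : L} (hs : s ∈ Q.S)
    (hsP : ∃ y : ↥PK, (y : G) ∈ P i ∧ φ y = s) (hφ : Function.Surjective φ) (x : ↥PK) :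
    (x : G) ∈ P i ↔ φ x ∈ Q.parabolic {s} := by
  obtain ⟨y, hy, rfl⟩ := hsP
  constructor
  · intro hx
    rw [mem_parabolic_iff' Q hs]
    by_cases hxB : (x : G) ∈ B
    · exact Or.inl ((hB x).1 hxB)
    · right
      obtain ⟨c, hc, hcs⟩ := exists_mem_C_self (P := Q) hs
      obtain ⟨b, rfl⟩ := hφ c
      have hbB : (b : G) ∈ B := (hB b).2 hc
      have hyB : (y : G) ∉ B := fun h => not_mem_B hs ((hB y).1 h)
      have hyb : (y : G)⁻¹ * (b * y) ∉ B := by
        intro h1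
        have h2 := (hB (y⁻¹ * (b * y))).1 (by simpa using h1)
        rw [map_mul, map_mul, map_inv] at h2
        have h3 : φ y * φ b * φ y ∈ Q.B := by
          have e1 : φ y * φ b * φ y = φ y * φ y * ((φ y)⁻¹ * (φ b * φ y)) := by group
          rw [e1]
          exact mul_mem (Q.sq_mem _ hs) h2
        exact not_mem_B hs (mem_of_mem_C le_rfl hcs h3)
      have h2 := card_adj (B := B) (P := P) hBP i ((1 : G) : G ⧸ B)
      rw [h3] at h2
      have h2' : Nat.card {d // adj B P i ((1 : G) : G ⧸ B) d} = 2 := by omega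
      have hmem : ∀ z : G, z ∈ P i → z ∉ B → adj B P i ((1 : G) : G ⧸ B) (z : G ⧸ B) := by
        intro z hz hzB
        rw [adj_mk hBP]
        simpa using ⟨hz, hzB⟩
      have hbyP : (b : G) * y ∈ P i := mul_mem (hBP i hbB) hy
      have hbyB : (b : G) * y ∉ B := by
        intro h1
        apply hyB
        have := mul_mem (inv_mem hbB) h1
        rwa [inv_mul_cancel_left] at this
      rw [Nat.card_eq_two_iff] at h2'
      obtain ⟨d1, d2, hne, huniv⟩ := h2'
      have hall : ∀ d : {d // adj B P i ((1 : G) : G ⧸ B) d}, d = d1 ∨ d = d2 := fun d => by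
        have : d ∈ ({d1, d2} : Set _) := by rw [huniv]; trivial
        exact this
      have hA := hall ⟨_, hmem y hy hyB⟩
      have hBy := hall ⟨_, hmem (b * y) hbyP hbyB⟩
      have hX := hall ⟨_, hmem x hx hxB⟩
      have hne' : ((y : G) : G ⧸ B) ≠ ((b * y : G) : G ⧸ B) := by
        intro h1
        exact hyb (QuotientGroup.eq.1 h1)
      have hcase : ((y : G) : G ⧸ B) = ((x : G) : G ⧸ B) ∨ ((b * y : G) : G ⧸ B) = ((x : G) : G ⧸ B) := by
        rcases hA with h4 | h4 <;> rcases hBy with h5 | h5 <;> rcases hX with h6 | h6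
        · exact Or.inl (congrArg Subtype.val (h4.trans h6.symm))
        · exact absurd (congrArg Subtype.val (h4.trans h5.symm)) hne'
        · exact Or.inl (congrArg Subtype.val (h4.trans h6.symm))
        · exact Or.inr (congrArg Subtype.val (h5.trans h6.symm))
        · exact Or.inr (congrArg Subtype.val (h5.trans h6.symm))
        · exact Or.inl (congrArg Subtype.val (h4.trans h6.symm))
        · exact absurd (congrArg Subtype.val (h4.trans h5.symm)) hne'
        · exact Or.inl (congrArg Subtype.val (h4.trans h6.symm))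
      rcases hcase with h4 | h4
      · have h5 : (y : G)⁻¹ * x ∈ B := QuotientGroup.eq.1 h4
        have h6 := (hB (y⁻¹ * x)).1 (by simpa using h5)
        have e1 : φ x = φ y * φ (y⁻¹ * x) := by rw [← map_mul, mul_inv_cancel_left]
        rw [e1]
        exact mul_mem_C_right h6 (self_mem_C _)
      · have h5 : ((b : G) * y)⁻¹ * x ∈ B := QuotientGroup.eq.1 h4
        have h6 := (hB ((b * y)⁻¹ * x)).1 (by simpa using h5)
        have e1 : φ x = φ b * (φ y * φ ((b * y)⁻¹ * x)) := by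
          rw [← map_mul, ← map_mul]
          congr 1
          group
        rw [e1]
        exact mul_mem_C_left hc (mul_mem_C_right h6 (self_mem_C _))
  · intro hx
    rw [mem_parabolic_iff' Q hs] at hx
    rcases hx with hx | hx
    · exact hBP i ((hB x).2 hx)
    · obtain ⟨c, hc, d, hd, h1⟩ := mem_C.1 hx
      obtain ⟨b, rfl⟩ := hφ c
      obtain ⟨b', rfl⟩ := hφ d
      have hbB : (b : G) ∈ B := (hB b).2 hc
      have hbB' : (b' : G) ∈ B := (hB b').2 hd
      have h2 : ((b * y * b')⁻¹ * x : ↥PK).1 ∈ B := by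
        rw [hB, map_mul, map_inv, map_mul, map_mul, ← h1, inv_mul_cancel]
        exact one_mem _
      have e1 : (x : G) = ((b : G) * y * b') * ((b * y * b')⁻¹ * x : ↥PK).1 := by
        simp only [Subgroup.coe_mul, Subgroup.coe_inv]
        group
      rw [e1]
      exact mul_mem (mul_mem (mul_mem (hBP i hbB) hy) (hBP i hbB')) (hBP i h2)

theorem lab_of_prime (hm1 : ∀ i, m i i = 1)
    (hM : ∀ i j : ↥K, i ≠ j → (m i j).Prime ∧ (((e i : ↥Q.S) : L) * ((e j : ↥Q.S) : L)) ^ (m i j) ∈ Q.B)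
    (i j : ↥K) (n : ℕ) : (((e i : ↥Q.S) : L) * ((e j : ↥Q.S) : L)) ^ n ∈ Q.B ↔ m i j ∣ n := by
  by_cases hij : i = j
  · subst hij
    rw [hm1]
    exact ⟨fun _ => one_dvd n, fun _ => pow_mem (Q.sq_mem _ (e i).2) n⟩
  obtain ⟨hp, hpow⟩ := hM i j hij
  constructor
  · intro h1
    by_contra hn
    have hcop : (m i j).Coprime n := (Nat.Prime.coprime_iff_not_dvd hp).2 hn
    have h2 : (((e i : ↥Q.S) : L) * ((e j : ↥Q.S) : L)) ∈ Q.B := by
      have hb := Nat.gcd_eq_gcd_ab (m i j) n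
      rw [Nat.Coprime.gcd_eq_one hcop] at hb
      have e1 : (((e i : ↥Q.S) : L) * ((e j : ↥Q.S) : L)) =
          ((((e i : ↥Q.S) : L) * ((e j : ↥Q.S) : L)) ^ (m i j)) ^ (Nat.gcdA (m i j) n) *
          ((((e i : ↥Q.S) : L) * ((e j : ↥Q.S) : L)) ^ n) ^ (Nat.gcdB (m i j) n) := by
        rw [← zpow_natCast, ← zpow_natCast, ← zpow_mul, ← zpow_mul, ← zpow_add, ← hb]
        simp
      rw [e1]
      exact mul_mem (zpow_mem hpow _) (zpow_mem h1 _)
    apply hij
    apply e.injective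
    apply Subtype.ext
    apply Q.inj _ (e i).2 _ (e j).2
    have e2 : ((e i : ↥Q.S) : L)⁻¹ * ((e j : ↥Q.S) : L) =
        (((e i : ↥Q.S) : L) * ((e i : ↥Q.S) : L))⁻¹ * (((e i : ↥Q.S) : L) * ((e j : ↥Q.S) : L)) := by group
    rw [e2]
    exact mul_mem (inv_mem (Q.sq_mem _ (e i).2)) h2
  · rintro ⟨k, rfl⟩
    rw [pow_mul]
    exact pow_mem hpow k

/-- **the residue data from a homomorphism onto a group with a (B,N)-pair**, panels with three chambers, prime labels -/
theorem ResBN.of_hom [Finite G] (hBP : ∀ i, B ≤ P i) (h3 : ∀ i ∈ K, B.relIndex (P i) = 3) (hB : B ≤ PK)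
    (hPK : ∀ i ∈ K, P i ≤ PK) (hφ : Function.Surjective φ) (hmem : ∀ x : ↥PK, (x : G) ∈ B ↔ φ x ∈ Q.B)
    (he : ∀ i : ↥K, ∃ y : ↥PK, (y : G) ∈ P i ∧ φ y = ((e i : ↥Q.S) : L)) (hm1 : ∀ i, m i i = 1)
    (hM : ∀ i j : ↥K, i ≠ j → (m i j).Prime ∧ (((e i : ↥Q.S) : L) * ((e j : ↥Q.S) : L)) ^ (m i j) ∈ Q.B) :
    ResBN B P K PK φ Q e m where
  le := hB
  leP := hPK
  surj := hφ
  memB := hmem
  par i x := par_of_index hBP (h3 i i.2) hmem (e i).2 (he i) hφ x
  lab := lab_of_prime hm1 hM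

/-- the same for a (B,N)-pair of `PK` itself -/
theorem ResBN.of_pair [Finite G] {Q : Cfsg.BNPair ↥PK} {e : ↥K ≃ ↥Q.S} (hBP : ∀ i, B ≤ P i)
    (h3 : ∀ i ∈ K, B.relIndex (P i) = 3) (hB : B ≤ PK) (hPK : ∀ i ∈ K, P i ≤ PK) (hQ : Q.B = B.subgroupOf PK)
    (he : ∀ i : ↥K, (((e i : ↥Q.S) : ↥PK) : G) ∈ P i) (hm1 : ∀ i, m i i = 1)
    (hM : ∀ i j : ↥K, i ≠ j →
      (m i j).Prime ∧ (((e i : ↥Q.S) : ↥PK) * ((e j : ↥Q.S) : ↥PK)) ^ (m i j) ∈ Q.B) :
    ResBN B P K PK (MonoidHom.id ↥PK) Q e m :=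
  ResBN.of_hom hBP h3 hB hPK Function.surjective_id
    (fun x => by rw [hQ, Subgroup.mem_subgroupOf]; rfl) (fun i => ⟨_, he i, rfl⟩) hm1 hM

end adapters

end Cfsg.Agent.ParSys.Wt.HonBN
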