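import Mathlib
import Cfsg.Agent.ParSys.Wt.Res

/-!
# Apartments and root elements of honest residues (THEOREM W, bb #12324)
-/

set_option autoImplicit false
set_option linter.unusedSectionVars false

namespace Cfsg.Agent.ParSys.Wt

open Cfsg.Agent.ParSys Cfsg.Agent.ParSys.Free Cfsg.Agent.Tits.Core Cfsg.Agent.Tits.Exchange

variable {C I G : Type*} [Group G] [MulAction G C] {A : I → C → C → Prop}
  {M : CoxeterMatrix I} {W : Type*} [Group W]

/-- An apartment of the `J`-residue of `c`, with a root element for every `s ∈ J`. -/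
structure Apt (G : Type*) [Group G] {C : Type*} [MulAction G C] (cs : CoxeterSystem M W) (A : I → C → C → Prop)
    (J : Set I) (c : C) (a : W → C) : Prop where
  one : a 1 = c
  adj : ∀ y ∈ WJ cs J, ∀ i ∈ J, A i (a y) (a (y * cs.simple i))
  root : ∀ s ∈ J, ∃ u : G, u • c = c ∧ (∀ y ∈ WJ cs J, cs.length y < cs.length (cs.simple s * y) → u • a y = a y) ∧
    (∀ y ∈ WJ cs J, cs.length (cs.simple s * y) < cs.length y → u • a y ≠ a y)

variable {cs : CoxeterSystem M W}

open Classical in
/-- the apartment spanned by `c` and `d` -/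
noncomputable def ap (cs : CoxeterSystem M W) (A : I → C → C → Prop) (J : Set I) (c d : C) (y : W) : C :=
  if h : ∃ x, Gl cs A y c x ∧ Gl cs A (y⁻¹ * wJ cs J) x d then h.choose else c

section

variable (h : Sy G cs A) {J : Set I} (hJ : Hon G cs A J) [Finite I] [Finite W]
include h hJ

variable {c d : C} (hd : Gl cs A (wJ cs J) c d)
include hd

theorem ap_spec {y : W} (hy : y ∈ WJ cs J) :
    Gl cs A y c (ap cs A J c d y) ∧ Gl cs A (y⁻¹ * wJ cs J) (ap cs A J c d y) d := by
  have hL := isLongest_wJ cs J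
  have h1 : ∃ x, Gl cs A y c x ∧ Gl cs A (y⁻¹ * wJ cs J) x d := by
    apply h.gl_split
    · have := (hL.2 _ (inv_mem hy)).2
      rw [cs.length_inv] at this
      rw [mul_inv_cancel_left]
      omega
    · rwa [mul_inv_cancel_left]
  unfold ap
  rw [dif_pos h1]
  exact h1.choose_spec

theorem ap_unique {y : W} (hy : y ∈ WJ cs J) {x : C} (h1 : Gl cs A y c x) (h2 : Gl cs A (y⁻¹ * wJ cs J) x d) :
    x = ap cs A J c d y := by
  have hL := isLongest_wJ cs J
  obtain ⟨h3, h4⟩ := ap_spec h hJ hd hy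
  refine Hon.mid h hJ hy (mul_mem (inv_mem hy) hL.1) ?_ h1 h2 h3 h4
  have := (hL.2 _ (inv_mem hy)).2
  rw [cs.length_inv] at this
  rw [mul_inv_cancel_left]
  omega

theorem ap_one : ap cs A J c d 1 = c :=
  (ap_unique h hJ hd (one_mem _) (Sy.gl_one.2 rfl) (by rwa [inv_one, one_mul])).symm

theorem ap_wJ : ap cs A J c d (wJ cs J) = d := by
  refine (ap_unique h hJ hd (isLongest_wJ cs J).1 hd ?_).symm
  rw [inv_mul_cancel]
  exact Sy.gl_one.2 rfl

theorem ap_adj {y : W} (hy : y ∈ WJ cs J) {i : I} (hi : i ∈ J) :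
    A i (ap cs A J c d y) (ap cs A J c d (y * cs.simple i)) := by
  have hL := isLongest_wJ cs J
  have key : ∀ y ∈ WJ cs J, cs.length y < cs.length (y * cs.simple i) →
      A i (ap cs A J c d y) (ap cs A J c d (y * cs.simple i)) := by
    intro y hy hl
    obtain ⟨h1, h2⟩ := ap_spec h hJ hd hy
    have hy' : y * cs.simple i ∈ WJ cs J := mul_mem hy (simple_mem_WJ cs hi)
    have e : cs.simple i * ((y * cs.simple i)⁻¹ * wJ cs J) = y⁻¹ * wJ cs J := by
      rw [mul_inv_rev, cs.inv_simple, mul_assoc, cs.simple_mul_simple_cancel_left]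
    rw [← e] at h2
    have l1 := (hL.2 _ (inv_mem hy)).2
    have l2 := (hL.2 _ (inv_mem hy')).2
    rw [cs.length_inv] at l1 l2
    obtain ⟨x, h3, h4⟩ := h.gl_split (by
      rw [e, cs.length_simple]
      rcases cs.length_mul_simple y i with h3 | h3 <;> omega) h2
    have h5 := h.adj_gl h3
    have h6 := h.gl_up hl h1 h5
    rw [← ap_unique h hJ hd hy' h6 h4]
    exact h5
  rcases lt_or_gt_of_ne (cs.length_mul_simple_ne y i) with hl | hl
  · have h1 := key (y * cs.simple i) (mul_mem hy (simple_mem_WJ cs hi)) (by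
      rwa [cs.simple_mul_simple_cancel_right])
    rw [cs.simple_mul_simple_cancel_right] at h1
    exact h.cham.symm h1
  · exact key y hy hl

theorem ap_gl {y z : W} (hy : y ∈ WJ cs J) (hz : z ∈ WJ cs J) :
    Gl cs A z (ap cs A J c d y) (ap cs A J c d (y * z)) := by
  induction hn : cs.length z generalizing z with
  | zero =>
    rw [cs.length_eq_zero_iff] at hn
    subst hn
    rw [mul_one]
    exact Sy.gl_one.2 rfl
  | succ n ih =>
    have hne : z ≠ 1 := by
      rintro rfl
      rw [cs.length_one] at hn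
      omega
    obtain ⟨i, hiJ, hi⟩ := Hon.exists_descent (cs := cs) (J := J) hz hne
    have hi1 : cs.length z = cs.length (z * cs.simple i) + 1 := by
      rcases cs.length_mul_simple z i with h9 | h9 <;> omega
    have hz' : z * cs.simple i ∈ WJ cs J := mul_mem hz (simple_mem_WJ cs hiJ)
    have h1 := ih hz' (by omega)
    have h2 := ap_adj h hJ hd (mul_mem hy hz') hiJ
    have e : y * (z * cs.simple i) * cs.simple i = y * z := by
      rw [mul_assoc, cs.simple_mul_simple_cancel_right]
    rw [e] at h2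
    have h3 := h.gl_up (by rw [cs.simple_mul_simple_cancel_right]; exact hi) h1 h2
    rwa [cs.simple_mul_simple_cancel_right] at h3

theorem ap_inRes {y : W} (hy : y ∈ WJ cs J) : InRes A J c (ap cs A J c d y) :=
  inRes_of_gl h hy (ap_spec h hJ hd hy).1

/-- root elements -/
theorem ap_root {s : I} (hs : s ∈ J) : ∃ u : G, u • c = c ∧
    (∀ y ∈ WJ cs J, cs.length y < cs.length (cs.simple s * y) → u • ap cs A J c d y = ap cs A J c d y) ∧
    (∀ y ∈ WJ cs J, cs.length (cs.simple s * y) < cs.length y → u • ap cs A J c d y ≠ ap cs A J c d y) := by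
  have hL := isLongest_wJ cs J
  have hsW := simple_mem_WJ cs hs
  set w := cs.simple s * wJ cs J with hw
  have hwm : w ∈ WJ cs J := mul_mem hsW hL.1
  have hlen := (hL.2 _ hsW).2
  rw [cs.length_simple, ← hw] at hlen
  obtain ⟨j, hj, hjl⟩ := Hon.exists_ascent (cs := cs) hwm (by
    intro h6
    have := congrArg cs.length h6
    omega)
  have e2 : w * cs.simple j = wJ cs J := by
    refine hL.eq_of_length (mul_mem hwm (simple_mem_WJ cs hj)) ?_
    rcases cs.length_mul_simple w j with h4 | h4 <;> omega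
  set p := ap cs A J c d w with hp
  have h1 : Gl cs A w c p := (ap_spec h hJ hd hwm).1
  have h2 : A j p d := by
    have := ap_adj h hJ hd hwm hj
    rwa [e2, ap_wJ h hJ hd] at this
  obtain ⟨d', hdd, h3, -⟩ := h.exists_other h2
  have h4 : Gl cs A (wJ cs J) c d' := by
    have := h.gl_up hjl h1 h3
    rwa [e2] at this
  obtain ⟨u, hu1, hu2⟩ := Hon.gl_trans h hJ hL.1 hd h4
  have hup : u • p = p := by
    have h5 := h.gl_smul u h1
    rw [hu1] at h5
    have h6 := h.act u j p d h2
    rw [hu2] at h6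
    exact Hon.gate h hJ hwm hj hjl h5 h1 h6 h3
  refine ⟨u, hu1, ?_, ?_⟩
  · intro y hy hly
    obtain ⟨h5, -⟩ := ap_spec h hJ hd hy
    have h6 : Gl cs A (y⁻¹ * w) (ap cs A J c d y) p := by
      have := ap_gl h hJ hd hy (mul_mem (inv_mem hy) hwm)
      rwa [mul_inv_cancel_left] at this
    refine Hon.mid_fix h hJ hy (mul_mem (inv_mem hy) hwm) ?_ h5 h6 hu1 hup
    rw [mul_inv_cancel_left]
    have e3 : y⁻¹ * w = (cs.simple s * y)⁻¹ * wJ cs J := by
      rw [hw, mul_inv_rev, cs.inv_simple, mul_assoc]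
    have l1 := (hL.2 _ (inv_mem (mul_mem hsW hy))).2
    rw [← e3, cs.length_inv] at l1
    rcases cs.length_simple_mul y s with h7 | h7 <;> omega
  · intro y hy hly hfix
    have h5 : Gl cs A (cs.simple s) c (ap cs A J c d (cs.simple s)) := (ap_spec h hJ hd hsW).1
    have h6 : Gl cs A (cs.simple s * y) (ap cs A J c d (cs.simple s)) (ap cs A J c d y) := by
      have := ap_gl h hJ hd hsW (mul_mem hsW hy)
      rwa [cs.simple_mul_simple_cancel_left] at this
    have hadd : cs.length (cs.simple s * (cs.simple s * y)) = cs.length (cs.simple s) + cs.length (cs.simple s * y) := by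
      rw [cs.simple_mul_simple_cancel_left, cs.length_simple]
      rcases cs.length_simple_mul y s with h7 | h7 <;> omega
    have h7 := Hon.mid_fix h hJ hsW (mul_mem hsW hy) hadd h5 h6 hu1 hfix
    have h8 : Gl cs A (wJ cs J) (ap cs A J c d (cs.simple s)) p := ap_gl h hJ hd hsW hL.1
    have h9 : InRes A J (ap cs A J c d (cs.simple s)) d :=
      InRes.trans (h.inRes_symm (ap_inRes h hJ hd hsW)) (inRes_of_gl h hL.1 hd)
    have := Hon.opp_fix h hJ h8 h7 hup h9
    exact hdd (hu2.symm.trans this)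

end

theorem exists_apt (h : Sy G cs A) {J : Set I} (hJ : Hon G cs A J) [Finite I] [Finite W] (c : C) :
    ∃ a : W → C, Apt G cs A J c a ∧ ∀ y ∈ WJ cs J, Gl cs A y c (a y) := by
  obtain ⟨d, hd⟩ := h.gl_exists (wJ cs J) c
  exact ⟨ap cs A J c d, ⟨ap_one h hJ hd, fun y hy i hi => ap_adj h hJ hd hy hi, fun s hs => ap_root h hJ hd hs⟩,
    fun y hy => (ap_spec h hJ hd hy).1⟩

namespace Apt

variable {J : Set I} {c : C} {a : W → C}

theorem inRes (h : Apt G cs A J c a) {y : W} (hy : y ∈ WJ cs J) : InRes A J c (a y) := by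
  obtain ⟨ω, hω, rfl⟩ := exists_word_of_mem_WJ cs hy
  clear hy
  induction ω using List.reverseRecOn with
  | nil =>
    rw [cs.wordProd_nil, h.one]
    exact InRes.refl J c
  | append_singleton f i ih =>
    have h1 := ih fun j hj => hω j (by simp [hj])
    have h2 := h.adj (cs.wordProd f) (wordProd_mem_WJ cs fun j hj => hω j (by simp [hj])) i (hω i (by simp))
    rw [cs.wordProd_append, cs.wordProd_singleton]
    exact h1.trans (Relation.ReflTransGen.single ⟨i, hω i (by simp), h2⟩)

end Apt

end Cfsg.Agent.ParSys.Wt
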