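import Mathlib
import Cfsg.Agent.Tits.Roots
import Cfsg.Agent.Tits.Exchange
import Cfsg.Agent.Tits.RootComb

/-!
# Roots of level one with respect to a node (THEOREM W, bb #12324, piece (2) of bb #12937)

`M` a simply laced Coxeter matrix with finite Coxeter group, `K` a set of nodes, `k ∈ K`, `J = K \ {k}`,
`Psi K k` the roots `β` with support in `K` and `β k = 1`.

* `mem_Psi_iff` (a), `mem_WJ_of_fix` (b), `exists_transport` (c), `pairing_mem`, `exists_down`, `length_lt_of_neg`,
  `length_lt_of_pos` (d), `card_Psi` (e).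
-/

set_option autoImplicit false

namespace Cfsg.Agent.ParSys.Wt.RootComb

open CoxeterSystem Cfsg.Agent.ChevalleyStructure.CoxeterGeom Cfsg.Agent.Tits.Roots Cfsg.Agent.Tits.Core
  Cfsg.Agent.Tits.Exchange Cfsg.Agent.Tits.RootComb

variable {I W : Type*} [Fintype I] [DecidableEq I] [Group W] {M : CoxeterMatrix I}
  (cs : CoxeterSystem M W) {A : I → I → ℤ} (h : IsCartan M A)

/-- simply laced -/
def SL {I : Type*} (M : CoxeterMatrix I) : Prop := ∀ i j, i ≠ j → M i j = 2 ∨ M i j = 3

/-! ### The form of the Cartan matrix -/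

section Form

omit [Fintype I] [DecidableEq I] in
include h in
theorem cartan_symm (hsl : SL M) (i j : I) : A i j = A j i := by
  by_cases hij : i = j
  · rw [hij]
  · rcases h.rel i j hij with ⟨_, h1, h2⟩ | ⟨_, h1, h2⟩ | ⟨h0, _⟩ | ⟨h0, _⟩
    · rw [h1, h2]
    · rw [h1, h2]
    · rcases hsl i j hij with h1 | h1 <;> omega
    · rcases hsl i j hij with h1 | h1 <;> omega

omit [Fintype I] [DecidableEq I] in
include h in
theorem cartan_neg_one {i j : I} (hij : i ≠ j) (h3 : M i j = 3) : A i j = -1 := by
  rcases h.rel i j hij with ⟨h0, _⟩ | ⟨_, h1, _⟩ | ⟨h0, _⟩ | ⟨h0, _⟩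
  · omega
  · exact h1
  · omega
  · omega

omit [Fintype I] [DecidableEq I] in
include h in
theorem label_of_neg_one (hsl : SL M) {i j : I} (hA : A i j = -1) : M i j = 3 := by
  have hij : i ≠ j := by
    rintro rfl
    rw [h.diag] at hA
    omega
  rcases hsl i j hij with h2 | h2
  · rw [cartan_zero h hij h2] at hA
    omega
  · exact h2

/-- the symmetric form attached to a (symmetric) Cartan matrix -/
def bil (A : I → I → ℤ) (x y : I → ℤ) : ℤ := ∑ i, x i * pairing A i y

omit [DecidableEq I] in
theorem bil_add_left (x y z : I → ℤ) : bil A (x + y) z = bil A x z + bil A y z := by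
  simp only [bil, Pi.add_apply, add_mul, Finset.sum_add_distrib]

omit [DecidableEq I] in
theorem bil_smul_left (c : ℤ) (x y : I → ℤ) : bil A (c • x) y = c * bil A x y := by
  simp only [bil, Pi.smul_apply, smul_eq_mul, Finset.mul_sum, mul_assoc]

omit [DecidableEq I] in
theorem bil_add_right (x y z : I → ℤ) : bil A x (y + z) = bil A x y + bil A x z := by
  simp only [bil, pairing_add, mul_add, Finset.sum_add_distrib]

omit [DecidableEq I] in
theorem bil_smul_right (c : ℤ) (x y : I → ℤ) : bil A x (c • y) = c * bil A x y := by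
  simp only [bil, pairing_smul, Finset.mul_sum]
  exact Finset.sum_congr rfl fun i _ => by ring

omit [DecidableEq I] in
theorem bil_neg_left (x y : I → ℤ) : bil A (-x) y = - bil A x y := by
  have := bil_smul_left (A := A) (-1) x y
  rwa [neg_one_smul, neg_one_mul] at this

omit [DecidableEq I] in
theorem bil_neg_right (x y : I → ℤ) : bil A x (-y) = - bil A x y := by
  have := bil_smul_right (A := A) (-1) x y
  rwa [neg_one_smul, neg_one_mul] at this

omit [DecidableEq I] in
theorem bil_sub_left (x y z : I → ℤ) : bil A (x - y) z = bil A x z - bil A y z := by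
  rw [sub_eq_add_neg, bil_add_left, bil_neg_left, sub_eq_add_neg]

omit [DecidableEq I] in
theorem bil_sub_right (x y z : I → ℤ) : bil A x (y - z) = bil A x y - bil A x z := by
  rw [sub_eq_add_neg, bil_add_right, bil_neg_right, sub_eq_add_neg]

omit [DecidableEq I] in
include h in
theorem bil_comm (hsl : SL M) (x y : I → ℤ) : bil A x y = bil A y x := by
  unfold bil pairing
  simp only [Finset.mul_sum]
  rw [Finset.sum_comm]
  refine Finset.sum_congr rfl fun i _ => Finset.sum_congr rfl fun j _ => ?_
  rw [cartan_symm h hsl j i]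
  ring

theorem bil_sr_left (i : I) (y : I → ℤ) : bil A (sr i) y = pairing A i y := by
  unfold bil sr
  rw [Finset.sum_eq_single i]
  · simp
  · intro j _ hj
    simp [hj]
  · intro hi
    exact absurd (Finset.mem_univ i) hi

include h in
theorem bil_sr_right (hsl : SL M) (i : I) (y : I → ℤ) : bil A y (sr i) = pairing A i y := by
  rw [bil_comm h hsl, bil_sr_left]

include h in
theorem bil_sr_self (i : I) : bil A (sr i) (sr i) = 2 := by
  rw [bil_sr_left, sr, pairing_single, h.diag, mul_one]

theorem bil_rep (hsl : SL M) (w : W) (x y : I → ℤ) : bil A (rep cs h w x) (rep cs h w y) = bil A x y := by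
  induction w using cs.simple_induction_left generalizing x y with
  | one => rw [map_one, Module.End.one_apply, Module.End.one_apply]
  | mul_simple_left w i ih =>
    rw [rep_mul_apply, rep_mul_apply, rep_simple_eq, rep_simple_eq, ← ih x y]
    generalize rep cs h w x = x'
    generalize rep cs h w y = y'
    rw [bil_sub_left, bil_sub_right, bil_sub_right, bil_smul_left, bil_smul_left, bil_smul_right,
      bil_smul_right, bil_sr_self h, bil_sr_left, bil_sr_right h hsl]
    ring

include cs h in
theorem bil_pos [Finite W] (hsl : SL M) {x : I → ℤ} (hx : x ≠ 0) : 0 < bil A x x := by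
  classical
  let _ := Fintype.ofFinite W
  set c : I → ℤ := fun i => form cs h (sr i) (sr i) with hc
  have hcpos : ∀ i, 0 < c i := fun i => form_pos cs h (sr_ne_zero i)
  have hcc : ∀ i j, c i ≠ c j → A i j = 0 := by
    intro i j hij
    have h1 := two_form cs h i (sr j)
    have h2 := two_form cs h j (sr i)
    rw [form_comm cs h (sr i) (sr j), h1, sr, sr, pairing_single, pairing_single, cartan_symm h hsl j i,
      mul_one] at h2
    by_contra hne
    exact hij (mul_left_cancel₀ hne h2)
  let xt : ℤ → I → ℤ := fun t i => if c i = t then x i else 0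
  have key : ∀ t, t * bil A (xt t) (xt t) = 2 * form cs h (xt t) (xt t) := by
    intro t
    rw [form_eq_sum, Finset.mul_sum, bil, Finset.mul_sum]
    refine Finset.sum_congr rfl fun i _ => ?_
    have h1 := two_form cs h i (xt t)
    by_cases hi : c i = t
    · calc t * (xt t i * pairing A i (xt t)) = xt t i * (pairing A i (xt t) * c i) := by rw [hi]; ring
        _ = 2 * (xt t i * form cs h (xt t) (sr i)) := by rw [← h1]; ring
    · have : xt t i = 0 := if_neg hi
      rw [this]; ring
  have hsum : bil A x x = ∑ t ∈ Finset.univ.image c, bil A (xt t) (xt t) := by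
    unfold bil
    rw [Finset.sum_comm]
    refine Finset.sum_congr rfl fun i _ => ?_
    rw [Finset.sum_eq_single (c i)]
    · have h1 : xt (c i) i = x i := if_pos rfl
      rw [h1]
      congr 1
      unfold pairing
      refine Finset.sum_congr rfl fun j _ => ?_
      by_cases hj : c j = c i
      · have h2 : xt (c i) j = x j := if_pos hj
        rw [h2]
      · rw [hcc i j (Ne.symm hj), zero_mul, zero_mul]
    · intro t _ ht
      have h1 : xt t i = 0 := if_neg (Ne.symm ht)
      rw [h1, zero_mul]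
    · intro hi
      exact absurd (Finset.mem_image_of_mem c (Finset.mem_univ i)) hi
  have hnn : ∀ t ∈ Finset.univ.image c, 0 ≤ bil A (xt t) (xt t) := by
    intro t ht
    obtain ⟨i, _, rfl⟩ := Finset.mem_image.1 ht
    by_contra hneg
    have h1 := key (c i)
    have h2 := form_nonneg cs h (xt (c i))
    have h3 := mul_neg_of_pos_of_neg (hcpos i) (not_le.1 hneg)
    omega
  obtain ⟨i, hi⟩ : ∃ i, x i ≠ 0 := by
    by_contra hcon
    push Not at hcon
    exact hx (funext hcon)
  rw [hsum]
  refine Finset.sum_pos' hnn ⟨c i, Finset.mem_image_of_mem c (Finset.mem_univ i), ?_⟩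
  have hne : xt (c i) ≠ 0 := by
    intro h0
    have := congrFun h0 i
    have h1 : xt (c i) i = x i := if_pos rfl
    rw [h1] at this
    exact hi this
  have h1 := key (c i)
  have h2 := form_pos cs h hne
  by_contra hneg
  have h3 := mul_nonpos_of_nonneg_of_nonpos (hcpos i).le (not_lt.1 hneg)
  omega

include cs h in
theorem bil_nonneg [Finite W] (hsl : SL M) (x : I → ℤ) : 0 ≤ bil A x x := by
  by_cases hx : x = 0
  · rw [hx]
    simp [bil]
  · exact (bil_pos cs h hsl hx).le

include cs h in
/-- Cauchy-Schwarz -/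
theorem bil_sq_le [Finite W] (hsl : SL M) (x y : I → ℤ) : bil A x y ^ 2 ≤ bil A x x * bil A y y := by
  by_cases hx : x = 0
  · rw [hx]
    simp [bil]
  have h0 := bil_pos cs h hsl hx
  have h1 := bil_nonneg cs h hsl (bil A x x • y - bil A x y • x)
  simp only [bil_sub_left, bil_sub_right, bil_smul_left, bil_smul_right, bil_comm h hsl y x] at h1
  have h2 : 0 ≤ bil A x x * (bil A x x * bil A y y - bil A x y ^ 2) := by
    calc (0 : ℤ) ≤ _ := h1
      _ = _ := by ring
  have h3 := nonneg_of_mul_nonneg_right h2 h0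
  linarith

variable {cs h} in
theorem bil_root (hsl : SL M) {β : I → ℤ} (hβ : IsRoot cs h β) : bil A β β = 2 := by
  obtain ⟨w, i, rfl⟩ := hβ
  rw [bil_rep cs h hsl, bil_sr_self h]

variable {cs h} in
theorem bil_le_one [Finite W] (hsl : SL M) {α β : I → ℤ} (hα : IsRoot cs h α) (hβ : IsRoot cs h β)
    (hne : α ≠ β) : bil A α β ≤ 1 := by
  have h1 := bil_pos cs h hsl (sub_ne_zero.2 hne)
  simp only [bil_sub_left, bil_sub_right, bil_root hsl hα, bil_root hsl hβ, bil_comm h hsl β α] at h1
  omega

variable {cs h} in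
theorem neg_one_le_bil [Finite W] (hsl : SL M) {α β : I → ℤ} (hα : IsRoot cs h α) (hβ : IsRoot cs h β)
    (hne : α ≠ -β) : -1 ≤ bil A α β := by
  have h1 := bil_le_one hsl hα hβ.neg hne
  rw [bil_neg_right] at h1
  omega

/-- a vector that is orthogonal to the other nodes of `K` bounds the coefficient at `k` -/
theorem le_one_of_vec [Finite W] (hsl : SL M) {K : Set I} {k : I} (v : I → ℤ) (d : ℤ) (hd : 0 < d)
    (h0 : ∀ i ∈ K, i ≠ k → pairing A i v = 0) (hk : pairing A k v = d) (hn : bil A v v < 2 * d ^ 2)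
    {β : I → ℤ} (hβ : IsRoot cs h β) (hs : ∀ i, i ∉ K → β i = 0) : β k ≤ 1 := by
  have h1 := bil_sq_le cs h hsl v β
  rw [bil_root hsl hβ] at h1
  have h2 : bil A v β = β k * d := by
    rw [bil_comm h hsl, bil, Finset.sum_eq_single k, hk]
    · intro i _ hi
      by_cases hiK : i ∈ K
      · rw [h0 i hiK hi, mul_zero]
      · rw [hs i hiK, zero_mul]
    · intro hk'
      exact absurd (Finset.mem_univ k) hk'
  rw [h2] at h1
  by_contra hcon
  have h3 : 2 ≤ β k := by omega
  have h4 : 2 * d ≤ β k * d := mul_le_mul_of_nonneg_right h3 hd.le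
  have h5 : (2 * d) ^ 2 ≤ (β k * d) ^ 2 := pow_le_pow_left₀ (by omega) h4 2
  have h6 : (2 * d) ^ 2 = 4 * d ^ 2 := by ring
  omega

end Form

/-! ### Roots of level one -/

/-- the roots with support in `K` and coefficient `1` at `k` -/
def Psi (K : Set I) (k : I) : Set (I → ℤ) := {β | IsRoot cs h β ∧ β k = 1 ∧ ∀ i, i ∉ K → β i = 0}

section Level

variable {cs h}
variable {K : Set I} {k : I}

theorem Psi.nonneg {β : I → ℤ} (hβ : β ∈ Psi cs h K k) : 0 ≤ β := by
  rcases hβ.1.pos_or_neg with h1 | h1
  · exact h1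
  · have := h1 k
    rw [hβ.2.1] at this
    exact absurd this (by simp)

theorem sr_mem_Psi (hk : k ∈ K) : sr k ∈ Psi cs h K k :=
  ⟨isRoot_sr cs h k, sr_self k, fun _ hi => sr_ne (fun hik => hi (hik ▸ hk))⟩

theorem rep_mem_Psi {y : W} (hy : y ∈ WJ cs (K \ {k})) {β : I → ℤ} (hβ : β ∈ Psi cs h K k) :
    rep cs h y β ∈ Psi cs h K k := by
  refine ⟨hβ.1.act y, ?_, fun i hi => ?_⟩
  · rw [rep_apply_of_mem cs h hy β (fun hk => hk.2 rfl)]
    exact hβ.2.1
  · rw [rep_apply_of_mem cs h hy β (fun hi' => hi hi'.1)]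
    exact hβ.2.2 i hi

theorem pairing_le_one [Finite W] (hsl : SL M) {β : I → ℤ} (hβ : IsRoot cs h β) {s : I} (hs : β ≠ sr s) :
    pairing A s β ≤ 1 := by
  rw [← bil_sr_left]
  exact bil_le_one hsl (isRoot_sr cs h s) hβ (Ne.symm hs)

theorem neg_one_le_pairing [Finite W] (hsl : SL M) {β : I → ℤ} (hβ : IsRoot cs h β) {s : I}
    (hs : β ≠ - sr s) : -1 ≤ pairing A s β := by
  rw [← bil_sr_left]
  refine neg_one_le_bil hsl (isRoot_sr cs h s) hβ ?_
  intro h1
  apply hs
  rw [h1, neg_neg]

/-- (d) -/
theorem pairing_mem [Finite W] (hsl : SL M) {β : I → ℤ} (hβ : β ∈ Psi cs h K k) {s : I} (hs : s ≠ k) :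
    pairing A s β = -1 ∨ pairing A s β = 0 ∨ pairing A s β = 1 := by
  have h1 : β ≠ sr s := by
    intro h2
    have := hβ.2.1
    rw [h2, sr_ne (Ne.symm hs)] at this
    omega
  have h2 : β ≠ - sr s := by
    intro h2
    have := hβ.2.1
    rw [h2, Pi.neg_apply, sr_ne (Ne.symm hs)] at this
    omega
  have h3 := pairing_le_one hsl hβ.1 h1
  have h4 := neg_one_le_pairing hsl hβ.1 h2
  omega

theorem sub_eq_rep {β : I → ℤ} {s : I} (hs : pairing A s β = 1) : β - sr s = rep cs h (cs.simple s) β := by
  rw [rep_simple_eq, hs, one_smul]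

/-- (d) -/
theorem exists_down [Finite W] (hsl : SL M) {β : I → ℤ} (hβ : β ∈ Psi cs h K k) (hne : β ≠ sr k) :
    ∃ s ∈ K \ {k}, pairing A s β = 1 ∧ β - sr s ∈ Psi cs h K k := by
  have h0 := Psi.nonneg hβ
  obtain ⟨s, hsK, hsk, hs⟩ : ∃ s, s ∈ K ∧ s ≠ k ∧ 0 < pairing A s β := by
    by_contra hcon
    push Not at hcon
    have h1 := bil_root hsl hβ.1
    unfold bil at h1
    have h2 : ∑ i, β i * pairing A i β ≤ ∑ i, if i = k then pairing A k β else 0 := by
      refine Finset.sum_le_sum fun i _ => ?_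
      by_cases hik : i = k
      · subst hik
        rw [hβ.2.1, one_mul, if_pos rfl]
      · rw [if_neg hik]
        by_cases hiK : i ∈ K
        · exact mul_nonpos_of_nonneg_of_nonpos (h0 i) (hcon i hiK hik)
        · rw [hβ.2.2 i hiK, zero_mul]
    rw [h1, Finset.sum_ite_eq' Finset.univ k, if_pos (Finset.mem_univ k)] at h2
    have h3 := pairing_le_one hsl hβ.1 hne
    omega
  have hs1 : pairing A s β = 1 := by
    rcases pairing_mem hsl hβ hsk with h1 | h1 | h1 <;> omega
  refine ⟨s, ⟨hsK, hsk⟩, hs1, ?_⟩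
  rw [sub_eq_rep (cs := cs) (h := h) hs1]
  exact rep_mem_Psi (simple_mem_WJ cs ⟨hsK, hsk⟩) hβ

theorem ht_sub (β : I → ℤ) (s : I) : ht (β - sr s) = ht β - 1 := by
  unfold ht
  simp only [Pi.sub_apply, Finset.sum_sub_distrib]
  congr 1
  simp [sr, Pi.single_apply]

/-- induction on the height -/
theorem Psi.induction [Finite W] (hsl : SL M) {P : (I → ℤ) → Prop} (hbase : P (sr k))
    (hstep : ∀ β ∈ Psi cs h K k, ∀ s ∈ K \ {k}, pairing A s β = 1 → β - sr s ∈ Psi cs h K k →
      P (β - sr s) → P β) {β : I → ℤ} (hβ : β ∈ Psi cs h K k) : P β := by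
  induction hn : (ht β).toNat using Nat.strong_induction_on generalizing β with
  | _ n ih =>
    by_cases hne : β = sr k
    · rw [hne]; exact hbase
    · obtain ⟨s, hs, hs1, hmem⟩ := exists_down hsl hβ hne
      refine hstep β hβ s hs hs1 hmem (ih _ ?_ hmem rfl)
      have h1 : 0 < ht β := by
        unfold ht
        refine Finset.sum_pos' (fun i _ => Psi.nonneg hβ i) ⟨k, Finset.mem_univ k, ?_⟩
        rw [hβ.2.1]; exact one_pos
      rw [ht_sub]
      omega

/-- (a) -/
theorem mem_Psi_iff [Finite W] (hsl : SL M) (hk : k ∈ K) {β : I → ℤ} :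
    β ∈ Psi cs h K k ↔ ∃ y ∈ WJ cs (K \ {k}), β = rep cs h y (sr k) := by
  constructor
  · intro hβ
    refine Psi.induction (P := fun β => ∃ y ∈ WJ cs (K \ {k}), β = rep cs h y (sr k)) hsl ?_ ?_ hβ
    · exact ⟨1, one_mem _, by rw [map_one, Module.End.one_apply]⟩
    · intro β hβ s hs hs1 _ ⟨y, hy, hyβ⟩
      refine ⟨cs.simple s * y, mul_mem (simple_mem_WJ cs hs) hy, ?_⟩
      rw [rep_mul_apply, ← hyβ, sub_eq_rep (cs := cs) (h := h) hs1, ← rep_mul_apply,
        cs.simple_mul_simple_self, map_one, Module.End.one_apply]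
  · rintro ⟨y, hy, rfl⟩
    exact rep_mem_Psi hy (sr_mem_Psi hk)

omit [DecidableEq I] in
/-- a vector `≤ 0` with coefficient `0` at `k` pairs nonnegatively with `α_k` -/
theorem pairing_nonneg_of_nonpos (h : IsCartan M A) {k : I} {x : I → ℤ} (hx : x ≤ 0) (hk : x k = 0) :
    0 ≤ pairing A k x := by
  unfold pairing
  refine Finset.sum_nonneg fun i _ => ?_
  by_cases hi : i = k
  · rw [hi, hk, mul_zero]
  · exact mul_nonneg_of_nonpos_of_nonpos (cartan_nonpos h (Ne.symm hi)) (hx i)

omit [DecidableEq I] in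
theorem pairing_nonpos_of_nonneg (h : IsCartan M A) {k : I} {x : I → ℤ} (hx : 0 ≤ x) (hk : x k = 0) :
    pairing A k x ≤ 0 := by
  have := pairing_nonneg_of_nonpos h (x := -x) (k := k) (neg_nonpos.2 hx) (by rw [Pi.neg_apply, hk, neg_zero])
  have h1 : pairing A k (-x) = - pairing A k x := by
    have := pairing_smul A k (-1) x
    rwa [neg_one_smul, neg_one_mul] at this
  omega

theorem pairing_rep_inv (hsl : SL M) (y : W) (s : I) :
    pairing A k (rep cs h y⁻¹ (sr s)) = pairing A s (rep cs h y (sr k)) := by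
  rw [← bil_sr_left, ← bil_sr_left, ← bil_rep cs h hsl y (sr k), rep_apply_inv, bil_comm h hsl]

/-- (b) -/
theorem mem_WJ_of_fix (hsl : SL M) {y : W} (hy : y ∈ WJ cs (K \ {k}))
    (hfix : rep cs h y (sr k) = sr k) : y ∈ WJ cs {j | j ∈ K \ {k} ∧ M j k = 2} := by
  induction hn : cs.length y using Nat.strong_induction_on generalizing y with
  | _ n ih =>
    by_cases h1 : y = 1
    · rw [h1]; exact one_mem _
    · obtain ⟨ω, hω, hred, hp⟩ := exists_reduced_of_mem_WJ cs hy
      rcases List.eq_nil_or_concat ω with rfl | ⟨ω', j, rfl⟩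
      · rw [wordProd_nil] at hp
        exact absurd hp.symm h1
      · have hj : j ∈ K \ {k} := hω j (by simp)
        have hlt : cs.length (y * cs.simple j) < cs.length y := by
          have e1 : y * cs.simple j = cs.wordProd ω' := by
            rw [← hp, List.concat_eq_append, wordProd_append, wordProd_singleton,
              cs.simple_mul_simple_cancel_right]
          have e2 := cs.length_wordProd_le ω'
          have e3 := hred.eq
          rw [hp] at e3
          rw [e1, e3]
          simp only [List.concat_eq_append, List.length_append, List.length_singleton]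
          omega
        have h2 : rep cs h y (sr j) ≤ 0 := nonpos_of_lt cs h y j hlt
        have h3 : rep cs h y (sr j) k = 0 := by
          rw [rep_apply_of_mem cs h hy _ (fun hk => hk.2 rfl), sr_ne (Ne.symm hj.2)]
        have h4 := pairing_nonneg_of_nonpos h h2 h3
        have h5 : pairing A k (rep cs h y (sr j)) = A k j := by
          rw [← bil_sr_left, ← hfix, bil_rep cs h hsl, bil_sr_left, sr, pairing_single, mul_one]
        rw [h5] at h4
        have hjk : j ≠ k := hj.2
        have h6 : M j k = 2 := by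
          rcases hsl j k hjk with h7 | h7
          · exact h7
          · have := cartan_neg_one h (Ne.symm hjk) (M.symmetric j k ▸ h7)
            omega
        have h7 : rep cs h (cs.simple j) (sr k) = sr k := by
          rw [rep_simple_eq, sr, pairing_single, cartan_zero h hjk h6, zero_mul, zero_smul, sub_zero]
        have h8 := ih _ (hn ▸ hlt) (y := y * cs.simple j) (mul_mem hy (simple_mem_WJ cs hj))
          (by rw [rep_mul_apply, h7, hfix]) rfl
        have h9 := mul_mem h8 (simple_mem_WJ cs (J := {j | j ∈ K \ {k} ∧ M j k = 2}) (i := j) ⟨hj, h6⟩)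
        rwa [cs.simple_mul_simple_cancel_right] at h9

/-- (c) -/
theorem exists_transport [Finite W] (hsl : SL M) {γ : I → ℤ} (hγ : γ ∈ Psi cs h K k) {s : I}
    (hs : s ∈ K \ {k}) (hp : pairing A s γ = -1) :
    ∃ y ∈ WJ cs (K \ {k}), ∃ a ∈ K \ {k}, M a k = 3 ∧ rep cs h y (sr k) = γ ∧ rep cs h y (sr a) = sr s := by
  refine Psi.induction (P := fun γ => ∀ s ∈ K \ {k}, pairing A s γ = -1 →
    ∃ y ∈ WJ cs (K \ {k}), ∃ a ∈ K \ {k}, M a k = 3 ∧ rep cs h y (sr k) = γ ∧ rep cs h y (sr a) = sr s)
    hsl ?_ ?_ hγ s hs hp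
  · intro s hs hp
    rw [sr, pairing_single, mul_one] at hp
    exact ⟨1, one_mem _, s, hs, label_of_neg_one h hsl hp, by rw [map_one, Module.End.one_apply],
      by rw [map_one, Module.End.one_apply]⟩
  · intro γ hγ t ht ht1 hγ' ih s hs hp
    have hst : t ≠ s := by
      rintro rfl
      omega
    have hback : rep cs h (cs.simple t) (γ - sr t) = γ := by
      rw [sub_eq_rep (cs := cs) (h := h) ht1, ← rep_mul_apply, cs.simple_mul_simple_self, map_one,
        Module.End.one_apply]
    have hsub : ∀ u, pairing A u (γ - sr t) = pairing A u γ - A u t := by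
      intro u
      rw [sub_eq_add_neg, pairing_add]
      have := pairing_smul A u (-1) (sr t)
      rw [neg_one_smul, neg_one_mul] at this
      rw [this, sr, pairing_single, mul_one, sub_eq_add_neg]
    rcases hsl t s hst with h2 | h2
    · have hA : A s t = 0 := cartan_zero h (Ne.symm hst) (M.symmetric t s ▸ h2)
      obtain ⟨y, hy, a, ha, hak, hyk, hya⟩ := ih s hs (by rw [hsub, hA, hp, sub_zero])
      refine ⟨cs.simple t * y, mul_mem (simple_mem_WJ cs ht) hy, a, ha, hak, ?_, ?_⟩
      · rw [rep_mul_apply, hyk, hback]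
      · rw [rep_mul_apply, hya, rep_simple_eq, sr, pairing_single, cartan_zero h hst h2, zero_mul,
          zero_smul, sub_zero]
    · have hA : A s t = -1 := cartan_neg_one h (Ne.symm hst) (M.symmetric t s ▸ h2)
      have hA' : A t s = -1 := cartan_neg_one h hst h2
      obtain ⟨y, hy, a, ha, hak, hyk, hya⟩ := ih t ht (by rw [hsub, h.diag, ht1]; norm_num)
      refine ⟨cs.simple t * (cs.simple s * y), mul_mem (simple_mem_WJ cs ht)
        (mul_mem (simple_mem_WJ cs hs) hy), a, ha, hak, ?_, ?_⟩
      · rw [rep_mul_apply, rep_mul_apply, hyk]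
        have : rep cs h (cs.simple s) (γ - sr t) = γ - sr t := by
          rw [rep_simple_eq, hsub, hp, hA]
          norm_num
        rw [this, hback]
      · rw [rep_mul_apply, rep_mul_apply, hya]
        have e1 : rep cs h (cs.simple s) (sr t) = sr t + sr s := by
          rw [rep_simple_eq, sr, sr, pairing_single, hA, mul_one, neg_one_smul, sub_neg_eq_add]
        have e2 : rep cs h (cs.simple t) (sr s) = sr s + sr t := by
          rw [rep_simple_eq, sr, sr, pairing_single, hA', mul_one, neg_one_smul, sub_neg_eq_add]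
        rw [e1, map_add, rep_simple_sr, e2]
        abel

/-- (d) -/
theorem length_lt_of_neg (hsl : SL M) {y : W} (hy : y ∈ WJ cs (K \ {k})) {s : I} (hs : s ∈ K \ {k})
    (hp : pairing A s (rep cs h y (sr k)) = -1) : cs.length y < cs.length (cs.simple s * y) := by
  have h1 : cs.length y⁻¹ < cs.length (y⁻¹ * cs.simple s) := by
    rw [lt_iff' cs h]
    rcases (((isRoot_sr cs h s).act y⁻¹)).pos_or_neg with h2 | h2
    · exact h2
    · exfalso
      have h3 : rep cs h y⁻¹ (sr s) k = 0 := by
        rw [rep_apply_of_mem cs h (inv_mem hy) _ (fun hk => hk.2 rfl), sr_ne (Ne.symm hs.2)]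
      have h4 := pairing_nonneg_of_nonpos h h2 h3
      rw [pairing_rep_inv hsl, hp] at h4
      omega
  rw [cs.length_inv, ← cs.length_inv (y⁻¹ * cs.simple s), mul_inv_rev, inv_simple, inv_inv] at h1
  exact h1

/-- (d) -/
theorem length_lt_of_pos (hsl : SL M) {y : W} (hy : y ∈ WJ cs (K \ {k})) {s : I} (hs : s ∈ K \ {k})
    (hp : pairing A s (rep cs h y (sr k)) = 1) : cs.length (cs.simple s * y) < cs.length y := by
  have h1 : cs.length (y⁻¹ * cs.simple s) < cs.length y⁻¹ := by
    rw [lt_iff cs h]
    rcases (((isRoot_sr cs h s).act y⁻¹)).pos_or_neg with h2 | h2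
    · exfalso
      have h3 : rep cs h y⁻¹ (sr s) k = 0 := by
        rw [rep_apply_of_mem cs h (inv_mem hy) _ (fun hk => hk.2 rfl), sr_ne (Ne.symm hs.2)]
      have h4 := pairing_nonpos_of_nonneg h h2 h3
      rw [pairing_rep_inv hsl, hp] at h4
      omega
    · exact h2
  rw [cs.length_inv, ← cs.length_inv (y⁻¹ * cs.simple s), mul_inv_rev, inv_simple, inv_inv] at h1
  exact h1

end Level

/-! ### Counting -/

section Count

/-- the positive roots sent to negative roots by `w` -/
def inv (w : W) : Set (I → ℤ) := {β | IsRoot cs h β ∧ 0 ≤ β ∧ rep cs h w β ≤ 0}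

/-- the positive roots with support in `K` -/
def Pos (K : Set I) : Set (I → ℤ) := {β | IsRoot cs h β ∧ 0 ≤ β ∧ ∀ i, i ∉ K → β i = 0}

theorem inv_mul_simple {v : W} {i : I} (hv : cs.length v < cs.length (v * cs.simple i)) :
    inv cs h (v * cs.simple i) = insert (sr i) (rep cs h (cs.simple i) '' inv cs h v) := by
  have hpos : 0 ≤ rep cs h v (sr i) := nonneg_of_lt cs h v i hv
  ext γ
  rw [Set.mem_insert_iff]
  constructor
  · rintro ⟨h1, h2, h3⟩
    by_cases hγ : γ = sr i
    · exact Or.inl hγ
    · refine Or.inr ⟨rep cs h (cs.simple i) γ, ⟨h1.act _, h1.simple_nonneg h2 i hγ, ?_⟩, ?_⟩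
      · rwa [← rep_mul_apply]
      · rw [← rep_mul_apply, cs.simple_mul_simple_self, map_one, Module.End.one_apply]
  · rintro (rfl | ⟨β, ⟨h1, h2, h3⟩, rfl⟩)
    · refine ⟨isRoot_sr cs h i, sr_nonneg i, ?_⟩
      rw [rep_mul_apply, rep_simple_sr, map_neg]
      exact neg_nonpos.2 hpos
    · have hβ : β ≠ sr i := by
        rintro rfl
        exact (isRoot_sr cs h i).act v |>.not_pos_neg hpos h3
      refine ⟨h1.act _, h1.simple_nonneg h2 i hβ, ?_⟩
      rwa [← rep_mul_apply, cs.simple_mul_simple_cancel_right]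

theorem inv_finite_ncard (w : W) : (inv cs h w).Finite ∧ (inv cs h w).ncard = cs.length w := by
  induction hn : cs.length w using Nat.strong_induction_on generalizing w with
  | _ n ih =>
    by_cases h1 : w = 1
    · subst h1
      have : inv cs h (1 : W) = ∅ := by
        ext β
        simp only [Set.mem_empty_iff_false, iff_false]
        rintro ⟨h1, h2, h3⟩
        rw [map_one, Module.End.one_apply] at h3
        exact h1.not_pos_neg h2 h3
      rw [this, Set.ncard_empty]
      rw [cs.length_one] at hn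
      exact ⟨Set.finite_empty, hn⟩
    · obtain ⟨i, hi⟩ := cs.exists_rightDescent_of_ne_one h1
      have hi' : cs.length (w * cs.simple i) < cs.length w := hi
      have hw : w = w * cs.simple i * cs.simple i := by rw [cs.simple_mul_simple_cancel_right]
      have hl := cs.length_mul_simple w i
      obtain ⟨h2, h3⟩ := ih _ (hn ▸ hi') (w * cs.simple i) rfl
      have h4 := inv_mul_simple cs h (v := w * cs.simple i) (i := i) (by rw [← hw]; exact hi')
      rw [← hw] at h4
      have hinj : Function.Injective (rep cs h (cs.simple i)) := rep_injective_apply cs h _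
      have hnot : sr i ∉ rep cs h (cs.simple i) '' inv cs h (w * cs.simple i) := by
        rintro ⟨β, hβ, hβi⟩
        have : β = - sr i := by
          apply hinj
          rw [hβi, map_neg, rep_simple_sr, neg_neg]
        have h5 := hβ.2.1
        rw [this] at h5
        have := h5 i
        rw [Pi.neg_apply, sr_self, Pi.zero_apply] at this
        exact absurd this (by norm_num)
      rw [h4]
      refine ⟨(h2.image _).insert _, ?_⟩
      rw [Set.ncard_insert_of_notMem hnot (h2.image _), Set.ncard_image_of_injective _ hinj, h3]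
      omega

theorem rep_nonpos_of {w : W} {β : I → ℤ} (h0 : 0 ≤ β) (hw : ∀ i, 0 < β i → rep cs h w (sr i) ≤ 0) :
    rep cs h w β ≤ 0 := by
  have hβ : β = ∑ i, β i • sr i := by
    funext b
    rw [Finset.sum_apply]
    simp only [Pi.smul_apply, smul_eq_mul, sr, Pi.single_apply]
    simp
  rw [hβ, map_sum]
  refine Finset.sum_nonpos fun i _ => ?_
  rw [map_smul]
  rcases (h0 i).lt_or_eq with h1 | h1
  · intro b
    rw [Pi.smul_apply, smul_eq_mul]
    exact mul_nonpos_of_nonneg_of_nonpos (h0 i) (hw i h1 b)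
  · rw [← h1]
    simp

theorem Pos_eq_inv (K : Set I) [Finite (WJ cs K)] : Pos cs h K = inv cs h (wJ cs K) := by
  have hL := isLongest_wJ cs K
  ext β
  constructor
  · rintro ⟨h1, h2, h3⟩
    refine ⟨h1, h2, rep_nonpos_of cs h h2 fun i hi => nonpos_of_lt cs h _ i ?_⟩
    have hiK : i ∈ K := by
      by_contra hiK
      rw [h3 i hiK] at hi
      exact absurd hi (by simp)
    have := (hL.2 (cs.simple i) (simple_mem_WJ cs hiK)).1
    rw [cs.length_simple] at this
    omega
  · rintro ⟨h1, h2, h3⟩
    refine ⟨h1, h2, fun i hi => le_antisymm ?_ (h2 i)⟩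
    have := h3 i
    rwa [rep_apply_of_mem cs h hL.1 β hi] at this

theorem ncard_Pos (K : Set I) [Finite (WJ cs K)] : (Pos cs h K).ncard = cs.length (wJ cs K) := by
  rw [Pos_eq_inv, (inv_finite_ncard cs h _).2]

theorem finite_Pos (K : Set I) [Finite (WJ cs K)] : (Pos cs h K).Finite := by
  rw [Pos_eq_inv]
  exact (inv_finite_ncard cs h _).1

/-- (e) -/
theorem card_Psi [Finite W] {K : Set I} {k : I}
    (hK : ∀ β, IsRoot cs h β → 0 ≤ β → (∀ i, i ∉ K → β i = 0) → β k ≤ 1) :
    Nat.card (Psi cs h K k) + cs.length (wJ cs (K \ {k})) = cs.length (wJ cs K) := by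
  have hU : Pos cs h K = Psi cs h K k ∪ Pos cs h (K \ {k}) := by
    ext β
    constructor
    · rintro ⟨h1, h2, h3⟩
      have h4 := hK β h1 h2 h3
      have h5 : 0 ≤ β k := h2 k
      by_cases h6 : β k = 1
      · exact Or.inl ⟨h1, h6, h3⟩
      · refine Or.inr ⟨h1, h2, fun i hi => ?_⟩
        by_cases hik : i = k
        · rw [hik]
          omega
        · exact h3 i (fun hiK => hi ⟨hiK, hik⟩)
    · rintro (hβ | ⟨h1, h2, h3⟩)
      · exact ⟨hβ.1, Psi.nonneg hβ, hβ.2.2⟩
      · exact ⟨h1, h2, fun i hi => h3 i (fun hi' => hi hi'.1)⟩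
  have hD : Disjoint (Psi cs h K k) (Pos cs h (K \ {k})) := by
    rw [Set.disjoint_left]
    intro β h1 h2
    have h3 := h2.2.2 k (fun hk => hk.2 rfl)
    rw [h1.2.1] at h3
    exact absurd h3 (by decide)
  have hF1 := finite_Pos cs h K
  have hF2 := finite_Pos cs h (K \ {k})
  have hF3 : (Psi cs h K k).Finite := hF1.subset (by rw [hU]; exact Set.subset_union_left)
  rw [← ncard_Pos cs h K, ← ncard_Pos cs h (K \ {k}), hU, Set.ncard_union_eq hD hF3 hF2]
  rfl

end Count

end Cfsg.Agent.ParSys.Wt.RootComb
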