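import Mathlib

/-!
# A triangular system over the field with two elements (THEOREM W)
-/

set_option autoImplicit false

namespace Cfsg.Agent.ParSys.Wt.Tri

/-- If for every `β ∈ S` the subspace `V` contains a vector which is `1` at `β` and `0` at all other `β'` of height at most
that of `β`, then `V` contains all vectors with support in `S`. -/
theorem mem_of_tri {P : Type*} [Finite P] (V : Submodule (ZMod 2) (P → ZMod 2)) (ht : P → ℤ) (S : Set P)
    (hV : ∀ β ∈ S, ∃ v ∈ V, v β = 1 ∧ (∀ β', ht β' ≤ ht β → β' ≠ β → v β' = 0) ∧ ∀ β', β' ∉ S → v β' = 0)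
    {φ : P → ZMod 2}
    (hφ : ∀ β, β ∉ S → φ β = 0) : φ ∈ V := by
  classical
  have := Fintype.ofFinite P
  by_contra hcon
  obtain ⟨f, hf1, hf2⟩ := Submodule.exists_dual_map_eq_bot_of_notMem hcon inferInstance
  have hfV : ∀ v ∈ V, f v = 0 := by
    intro v hv
    have : f v ∈ V.map f := Submodule.mem_map_of_mem hv
    rw [hf2] at this
    exact (Submodule.mem_bot _).1 this
  set c : P → ZMod 2 := fun β => f (Pi.single β 1) with hc
  have hfs : ∀ v, f v = ∑ β, v β * c β := by
    intro v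
    conv_lhs => rw [pi_eq_sum_univ' v]
    rw [map_sum]
    refine Finset.sum_congr rfl fun β _ => ?_
    rw [map_smul, smul_eq_mul]
  -- a β in S with c β ≠ 0
  obtain ⟨β0, hβ0S, hβ0⟩ : ∃ β ∈ S, c β ≠ 0 := by
    by_contra hno
    push Not at hno
    apply hf1
    rw [hfs]
    refine Finset.sum_eq_zero fun β _ => ?_
    by_cases hβ : β ∈ S
    · rw [hno β hβ, mul_zero]
    · rw [hφ β hβ, zero_mul]
  obtain ⟨β, hβ, hmax⟩ := Finset.exists_max_image (Finset.univ.filter fun β => β ∈ S ∧ c β ≠ 0) ht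
    ⟨β0, by simp [hβ0S, hβ0]⟩
  simp only [Finset.mem_filter, Finset.mem_univ, true_and] at hβ hmax
  obtain ⟨v, hv, h1, h2, h3⟩ := hV β hβ.1
  apply hβ.2
  have h4 : ∑ β', v β' * c β' = v β * c β := by
    refine Finset.sum_eq_single β (fun β' _ hne => ?_) (fun h => absurd (Finset.mem_univ β) h)
    by_cases hS : β' ∈ S
    · by_cases hc0 : c β' = 0
      · rw [hc0, mul_zero]
      · rw [h2 β' (hmax β' ⟨hS, hc0⟩) hne, zero_mul]
    · rw [h3 β' hS, zero_mul]
  rw [← hfs, hfV v hv, h1, one_mul] at h4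
  exact h4.symm

end Cfsg.Agent.ParSys.Wt.Tri
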