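import Mathlib
import Cfsg.Agent.ParSys.Wt.Apt
import Cfsg.Agent.ParSys.Wt.RootComb
import Cfsg.Agent.ParSys.Wt.Tri

/-!
# THEOREM W, (W2): the functionals `lam k (a y)`, `y ∈ W_J`, on the kernel of an honest residue
-/

set_option autoImplicit false
set_option linter.unusedSectionVars false

namespace Cfsg.Agent.ParSys.Wt.W2

open Cfsg.Agent.ParSys Cfsg.Agent.ParSys.Free Cfsg.Agent.Tits.Core Cfsg.Agent.Tits.Exchange
  Cfsg.Agent.ChevalleyStructure.CoxeterGeom Cfsg.Agent.Tits.Roots Cfsg.Agent.ParSys.Wt.RootComb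

variable {C I G : Type*} [Group G] [MulAction G C] {Ad : I → C → C → Prop}

/-- the kernel of the stabiliser of `c` on the `J`-residue of `c` -/
def Fix (G : Type*) [Group G] {C : Type*} [MulAction G C] {I : Type*} (Ad : I → C → C → Prop) (J : Set I) (c : C) :
    Subgroup G where
  carrier := {g | ∀ x, InRes Ad J c x → g • x = x}
  one_mem' := fun x _ => one_smul G x
  mul_mem' := fun {a b} ha hb x hx => by rw [mul_smul, hb x hx, ha x hx]
  inv_mem' := fun {a} ha x hx => by rw [inv_smul_eq_iff, ha x hx]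

theorem mem_Fix {J : Set I} {c : C} {g : G} : g ∈ Fix G Ad J c ↔ ∀ x, InRes Ad J c x → g • x = x := Iff.rfl

theorem Fix_le {J : Set I} {c : C} {g : G} (hg : g ∈ Fix G Ad J c) : g • c = c := hg c (InRes.refl J c)

theorem Fix_mono {J K : Set I} (hJK : J ⊆ K) (c : C) : Fix G Ad K c ≤ Fix G Ad J c :=
  fun _ hg x hx => hg x (InRes.mono hJK hx)

variable [Fintype I] [DecidableEq I] {M : CoxeterMatrix I} {W : Type*} [Group W] [Finite W]
  {cs : CoxeterSystem M W}

theorem InRes.smul (H : Sy G cs Ad) (g : G) {J : Set I} {x y : C} (hx : InRes Ad J x y) :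
    InRes Ad J (g • x) (g • y) := by
  induction hx with
  | refl => exact InRes.refl J _
  | tail _ hbc ih =>
    obtain ⟨i, hi, hab⟩ := hbc
    exact InRes.trans ih (Relation.ReflTransGen.single ⟨i, hi, H.act g _ _ _ hab⟩)

theorem Fix_conj (H : Sy G cs Ad) {J : Set I} {c : C} {u q : G} (hu : u • c = c) (hq : q ∈ Fix G Ad J c) :
    u⁻¹ * q * u ∈ Fix G Ad J c := by
  intro x hx
  have h1 := InRes.smul H u hx
  rw [hu] at h1
  rw [mul_smul, mul_smul, hq _ h1, inv_smul_smul]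

variable {A : I → I → ℤ} (h : IsCartan M A) (hsl : SL M) (H : Sy G cs Ad) {K : Set I} {k : I} (hk : k ∈ K)
  {c : C} {a : W → C} (ha : Apt G cs Ad (K \ {k}) c a)

include h hsl H ha in
/-- the functional depends only on the root -/
theorem lam_const {y y' : W} (hy : y ∈ WJ cs (K \ {k})) (hy' : y' ∈ WJ cs (K \ {k}))
    (he : rep cs h y (sr k) = rep cs h y' (sr k)) {q : G} (hq : q ∈ Fix G Ad (K \ {k}) c) :
    lam Ad k (a y) q = lam Ad k (a y') q := by
  have h1 : y⁻¹ * y' ∈ WJ cs {j | j ∈ K \ {k} ∧ M j k = 2} := by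
    refine mem_WJ_of_fix (h := h) hsl (mul_mem (inv_mem hy) hy') ?_
    rw [rep_mul_apply, ← he, rep_inv_apply]
  obtain ⟨ω, hω, hp⟩ := exists_word_of_mem_WJ cs h1
  have h2 : y' = y * cs.wordProd ω := by rw [hp, mul_inv_cancel_left]
  rw [h2]
  clear h2 hp h1 he hy'
  induction ω using List.reverseRecOn with
  | nil => rw [cs.wordProd_nil, mul_one]
  | append_singleton f i ih =>
    have hi := hω i (by simp)
    have h3 := ih fun j hj => hω j (by simp [hj])
    have hm : y * cs.wordProd f ∈ WJ cs (K \ {k}) :=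
      mul_mem hy (wordProd_mem_WJ cs fun j hj => (hω j (by simp [hj])).1)
    have h4 := ha.adj _ hm i hi.1
    have hm' : y * cs.wordProd f * cs.simple i ∈ WJ cs (K \ {k}) := mul_mem hm (simple_mem_WJ cs hi.1)
    rw [h3, cs.wordProd_append, cs.wordProd_singleton, ← mul_assoc]
    exact H.par2 (fun hik => hi.1.2 hik) hi.2 h4 (hq _ (ha.inRes hm)) (hq _ (ha.inRes hm'))

include h hsl H ha hk in
/-- the action of a root element, (i): no change -/
theorem root_zero {s : I} {u : G} (hu1 : u • c = c)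
    (hu2 : ∀ y ∈ WJ cs (K \ {k}), cs.length y < cs.length (cs.simple s * y) → u • a y = a y)
    (hs : s ∈ K \ {k}) {y : W} (hy : y ∈ WJ cs (K \ {k})) (hp : pairing A s (rep cs h y (sr k)) ≠ 1) {q : G}
    (hq : q ∈ Fix G Ad (K \ {k}) c) : lam Ad k (a y) (u⁻¹ * q * u) = lam Ad k (a y) q := by
  have hβ : rep cs h y (sr k) ∈ Psi cs h K k := (mem_Psi_iff hsl hk).2 ⟨y, hy, rfl⟩
  have hs' : s ≠ k := hs.2
  obtain ⟨y1, hy1, he, hl⟩ : ∃ y1 ∈ WJ cs (K \ {k}), rep cs h y1 (sr k) = rep cs h y (sr k) ∧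
      cs.length y1 < cs.length (cs.simple s * y1) := by
    rcases pairing_mem hsl hβ hs' with h1 | h1 | h1
    · exact ⟨y, hy, rfl, length_lt_of_neg hsl hy hs h1⟩
    · have h2 : rep cs h (cs.simple s * y) (sr k) = rep cs h y (sr k) := by
        rw [rep_mul_apply, rep_simple_eq, h1, zero_smul, sub_zero]
      rcases lt_or_gt_of_ne (cs.length_simple_mul_ne y s) with hl | hl
      · refine ⟨cs.simple s * y, mul_mem (simple_mem_WJ cs hs) hy, h2, ?_⟩
        rwa [cs.simple_mul_simple_cancel_left]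
      · exact ⟨y, hy, rfl, hl⟩
    · exact absurd h1 hp
  have hq' := Fix_conj H hu1 hq
  rw [lam_const h hsl H ha hy hy1 he.symm hq', lam_const h hsl H ha hy hy1 he.symm hq, ← H.lam_smul,
    hu2 y1 hy1 hl]

include h hsl H ha hk in
/-- the action of a root element, (ii) -/
theorem root_one {s : I} {u : G} (hu1 : u • c = c)
    (hu2 : ∀ y ∈ WJ cs (K \ {k}), cs.length y < cs.length (cs.simple s * y) → u • a y = a y)
    (hu3 : ∀ y ∈ WJ cs (K \ {k}), cs.length (cs.simple s * y) < cs.length y → u • a y ≠ a y)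
    (hs : s ∈ K \ {k}) {y y' : W} (hy : y ∈ WJ cs (K \ {k})) (hp : pairing A s (rep cs h y (sr k)) = 1)
    (hy' : y' ∈ WJ cs (K \ {k})) (he' : rep cs h y' (sr k) = rep cs h y (sr k) - sr s) {q : G}
    (hq : q ∈ Fix G Ad (K \ {k}) c) :
    lam Ad k (a y) (u⁻¹ * q * u) = lam Ad k (a y) q + lam Ad k (a y') q := by
  have hγ : rep cs h y' (sr k) ∈ Psi cs h K k := (mem_Psi_iff hsl hk).2 ⟨y', hy', rfl⟩
  have hpγ : pairing A s (rep cs h y' (sr k)) = -1 := by
    rw [he', sub_eq_add_neg, pairing_add]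
    have h1 := pairing_smul A s (-1) (sr s)
    rw [neg_one_smul, neg_one_mul] at h1
    have h2 : pairing A s (sr s) = 2 := by rw [sr, pairing_single, h.diag, mul_one]
    rw [h1, h2, hp]
    norm_num
  obtain ⟨z, hz, j, hj, hjk, hzk, hzj⟩ := exists_transport hsl hγ hs hpγ
  have hz' : z * cs.simple j ∈ WJ cs (K \ {k}) := mul_mem hz (simple_mem_WJ cs hj)
  have hjk' : j ≠ k := hj.2
  have hβ : rep cs h (z * cs.simple j) (sr k) = rep cs h y (sr k) := by
    rw [rep_mul_apply, rep_simple_eq]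
    have : pairing A j (sr k) = -1 := by
      rw [sr, pairing_single, mul_one]
      exact cartan_neg_one h hjk' hjk
    rw [this, neg_one_smul, sub_neg_eq_add, map_add, hzk, hzj, he', sub_add_cancel]
  have hl1 : cs.length z < cs.length (cs.simple s * z) := length_lt_of_neg hsl hz hs (by rw [hzk]; exact hpγ)
  have hl2 : cs.length (cs.simple s * (z * cs.simple j)) < cs.length (z * cs.simple j) :=
    length_lt_of_pos hsl hz' hs (by rw [hβ]; exact hp)
  have f1 := hu2 z hz hl1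
  have f2 := hu3 _ hz' hl2
  have e1 := ha.adj z hz j hj
  have e2 : Ad j (a z) (u • a (z * cs.simple j)) := by
    have := H.act u _ _ _ e1
    rwa [f1] at this
  have r1 : InRes Ad (K \ {k}) c (a z) := ha.inRes hz
  have r2 : InRes Ad (K \ {k}) c (a (z * cs.simple j)) := ha.inRes hz'
  have r3 : InRes Ad (K \ {k}) c (u • a (z * cs.simple j)) := r1.trans (Relation.ReflTransGen.single ⟨j, hj, e2⟩)
  have h3 := H.fano hjk' hjk e1 e2 (Ne.symm f2) (hq _ r1) (hq _ r2) (hq _ r3)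
  have hq' := Fix_conj H hu1 hq
  rw [lam_const h hsl H ha hy hz' hβ.symm hq', lam_const h hsl H ha hy hz' hβ.symm hq,
    lam_const h hsl H ha hy' hz hzk.symm hq, ← H.lam_smul]
  have z2 : ∀ x y z : ZMod 2, x + y + z = 0 → z = y + x := by decide
  exact z2 _ _ _ h3

/-- the functional of a root -/
noncomputable def lamP (cs : CoxeterSystem M W) (h : IsCartan M A) (Ad : I → C → C → Prop) (K : Set I) (k : I)
    (a : W → C) (β : I → ℤ) (q : G) : ZMod 2 :=
  open Classical in if hβ : ∃ y ∈ WJ cs (K \ {k}), β = rep cs h y (sr k) then lam Ad k (a hβ.choose) q else 0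

include hsl H ha in
theorem lamP_eq {y : W} (hy : y ∈ WJ cs (K \ {k})) {q : G} (hq : q ∈ Fix G Ad (K \ {k}) c) :
    lamP cs h Ad K k a (rep cs h y (sr k)) q = lam Ad k (a y) q := by
  have hβ : ∃ y' ∈ WJ cs (K \ {k}), rep cs h y (sr k) = rep cs h y' (sr k) := ⟨y, hy, rfl⟩
  unfold lamP
  rw [dif_pos hβ]
  exact lam_const h hsl H ha hβ.choose_spec.1 hy hβ.choose_spec.2.symm hq

include hsl H ha hk in
theorem lamP_mul {β : I → ℤ} (hβ : β ∈ Psi cs h K k) {p q : G} (hp : p ∈ Fix G Ad (K \ {k}) c)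
    (hq : q ∈ Fix G Ad (K \ {k}) c) :
    lamP cs h Ad K k a β (p * q) = lamP cs h Ad K k a β p + lamP cs h Ad K k a β q := by
  obtain ⟨y, hy, rfl⟩ := (mem_Psi_iff hsl hk).1 hβ
  rw [lamP_eq h hsl H ha hy hp, lamP_eq h hsl H ha hy hq, lamP_eq h hsl H ha hy (mul_mem hp hq)]
  exact H.lam_mul (hp _ (ha.inRes hy)) (hq _ (ha.inRes hy))

include hsl H ha hk in
theorem lamP_inv {β : I → ℤ} (hβ : β ∈ Psi cs h K k) {q : G} (hq : q ∈ Fix G Ad (K \ {k}) c) :
    lamP cs h Ad K k a β q⁻¹ = lamP cs h Ad K k a β q := by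
  obtain ⟨y, hy, rfl⟩ := (mem_Psi_iff hsl hk).1 hβ
  rw [lamP_eq h hsl H ha hy (inv_mem hq), lamP_eq h hsl H ha hy hq]
  exact H.lam_inv (hq _ (ha.inRes hy))

include hsl H ha hk in
/-- the commutator of `q` with a root element -/
theorem lamP_comm {s : I} (hs : s ∈ K \ {k}) : ∃ u : G, u • c = c ∧ ∀ β ∈ Psi cs h K k, ∀ q ∈ Fix G Ad (K \ {k}) c,
    lamP cs h Ad K k a β (u⁻¹ * q * u * q⁻¹) =
      if pairing A s β = 1 then lamP cs h Ad K k a (β - sr s) q else 0 := by
  obtain ⟨u, hu1, hu2, hu3⟩ := ha.root s hs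
  refine ⟨u, hu1, fun β hβ q hq => ?_⟩
  have hq' := Fix_conj H hu1 hq
  rw [lamP_mul h hsl H hk ha hβ hq' (inv_mem hq), lamP_inv h hsl H hk ha hβ hq]
  have z1 : ∀ x : ZMod 2, x + x = 0 := by decide
  have z2 : ∀ x y : ZMod 2, x + y + x = y := by decide
  by_cases hp : pairing A s β = 1
  · rw [if_pos hp]
    have hγ : β - sr s ∈ Psi cs h K k := by
      rw [sub_eq_rep (cs := cs) (h := h) hp]
      exact rep_mem_Psi (simple_mem_WJ cs hs) hβ
    obtain ⟨y, hy, rfl⟩ := (mem_Psi_iff hsl hk).1 hβ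
    obtain ⟨y', hy', he'⟩ := (mem_Psi_iff hsl hk).1 hγ
    rw [he', lamP_eq h hsl H ha hy hq', lamP_eq h hsl H ha hy hq, lamP_eq h hsl H ha hy' hq,
      root_one h hsl H hk ha hu1 hu2 hu3 hs hy hp hy' he'.symm hq]
    exact z2 _ _
  · rw [if_neg hp]
    obtain ⟨y, hy, rfl⟩ := (mem_Psi_iff hsl hk).1 hβ
    rw [lamP_eq h hsl H ha hy hq', lamP_eq h hsl H ha hy hq, root_zero h hsl H hk ha hu1 hu2 hs hy hp hq]
    exact z1 _

theorem ht_pos {β : I → ℤ} (hβ : β ∈ Psi cs h K k) : 1 ≤ ht β := by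
  have : 0 < ht β := by
    unfold ht
    refine Finset.sum_pos' (fun i _ => Psi.nonneg hβ i) ⟨k, Finset.mem_univ k, ?_⟩
    rw [hβ.2.1]; exact one_pos
  omega

include hsl in
theorem two_le_ht {β : I → ℤ} (hβ : β ∈ Psi cs h K k) (hne : β ≠ sr k) : 2 ≤ ht β := by
  obtain ⟨s, -, -, h2⟩ := exists_down hsl hβ hne
  have h3 := ht_pos h h2
  rw [ht_sub] at h3
  omega

theorem ht_sr : ht (sr k : I → ℤ) = 1 := by
  unfold ht
  simp [sr, Pi.single_apply]

/-- a subgroup of `Fix J c` which contains the dual vectors -/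
structure DV (V : Subgroup G) (cs : CoxeterSystem M W) (h : IsCartan M A) (Ad : I → C → C → Prop) (K : Set I) (k : I)
    (c : C) (a : W → C) (β : I → ℤ) : Prop where
  ex : ∃ q ∈ V, q ∈ Fix G Ad (K \ {k}) c ∧ lamP cs h Ad K k a β q = 1 ∧
    ∀ β' ∈ Psi cs h K k, ht β' ≤ ht β → β' ≠ β → lamP cs h Ad K k a β' q = 0

include hsl H ha hk in
/-- dual vectors: `V` contains the commutators -/
theorem exists_dual {V : Subgroup G} (hV : ∀ u q : G, u • c = c → q ∈ Fix G Ad (K \ {k}) c → u⁻¹ * q * u * q⁻¹ ∈ V)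
    {q0 : G} (hq0 : q0 ∈ Fix G Ad (K \ {k}) c) (hl : lam Ad k c q0 = 1) {β : I → ℤ} (hβ : β ∈ Psi cs h K k)
    (hβV : β ≠ sr k ∨ q0 ∈ V) : DV V cs h Ad K k c a β := by
  -- first with V = ⊤
  have hbase : ∀ q : G, q ∈ Fix G Ad (K \ {k}) c → lamP cs h Ad K k a (sr k) q = lam Ad k c q := by
    intro q hq
    have := lamP_eq h hsl H ha (one_mem _) hq
    rwa [map_one, Module.End.one_apply, ha.one] at this
  have key : DV (⊤ : Subgroup G) cs h Ad K k c a β ∧ (β ≠ sr k → DV V cs h Ad K k c a β) := by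
    refine Psi.induction (P := fun β => DV (⊤ : Subgroup G) cs h Ad K k c a β ∧
      (β ≠ sr k → DV V cs h Ad K k c a β)) hsl ?_ ?_ hβ
    · refine ⟨⟨q0, Subgroup.mem_top _, hq0, ?_, ?_⟩, fun h => absurd rfl h⟩
      · rw [hbase q0 hq0, hl]
      · intro β' hβ' hle hne
        have := two_le_ht h hsl hβ' hne
        rw [ht_sr] at hle
        omega
    · rintro β hβ s hs hs1 hγ ⟨⟨q, -, hq, hq1, hq2⟩, -⟩
      obtain ⟨u, hu, hu'⟩ := lamP_comm h hsl H hk ha hs
      have hmem : u⁻¹ * q * u * q⁻¹ ∈ Fix G Ad (K \ {k}) c := mul_mem (Fix_conj H hu hq) (inv_mem hq)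
      have h1 : lamP cs h Ad K k a β (u⁻¹ * q * u * q⁻¹) = 1 := by
        rw [hu' β hβ q hq, if_pos hs1, hq1]
      have h2 : ∀ β' ∈ Psi cs h K k, ht β' ≤ ht β → β' ≠ β → lamP cs h Ad K k a β' (u⁻¹ * q * u * q⁻¹) = 0 := by
        intro β' hβ' hle hne
        rw [hu' β' hβ' q hq]
        split_ifs with hp
        · refine hq2 _ ?_ ?_ ?_
          · rw [sub_eq_rep (cs := cs) (h := h) hp]
            exact rep_mem_Psi (simple_mem_WJ cs hs) hβ'
          · rw [ht_sub, ht_sub]; omega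
          · intro he
            exact hne (sub_left_injective he)
        · rfl
      exact ⟨⟨_, Subgroup.mem_top _, hmem, h1, h2⟩, fun _ => ⟨_, hV u q hu hq, hmem, h1, h2⟩⟩
  rcases hβV with hne | hq0V
  · exact key.2 hne
  · by_cases hne : β = sr k
    · subst hne
      refine ⟨q0, hq0V, hq0, ?_, ?_⟩
      · rw [hbase q0 hq0, hl]
      · intro β' hβ' hle hne'
        have := two_le_ht h hsl hβ' hne'
        rw [ht_sr] at hle
        omega
    · exact key.2 hne

instance finite_Psi : Finite (Psi cs h K k) := by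
  have h1 := finite_Pos cs h K
  refine Set.Finite.to_subtype (h1.subset ?_)
  intro β hβ
  exact ⟨hβ.1, Psi.nonneg hβ, hβ.2.2⟩

include hsl H ha hk in
/-- **(W2)** all values are taken; those which vanish at `α_k` by commutators -/
theorem exists_of_fun {V : Subgroup G} (hV : ∀ u q : G, u • c = c → q ∈ Fix G Ad (K \ {k}) c → u⁻¹ * q * u * q⁻¹ ∈ V)
    {q0 : G} (hq0 : q0 ∈ Fix G Ad (K \ {k}) c) (hl : lam Ad k c q0 = 1) (φ : Psi cs h K k → ZMod 2)
    (hφ : φ ⟨sr k, sr_mem_Psi hk⟩ = 0 ∨ q0 ∈ V) :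
    ∃ q ∈ V, q ∈ Fix G Ad (K \ {k}) c ∧ ∀ β : Psi cs h K k, lamP cs h Ad K k a β q = φ β := by
  classical
  -- the values taken by V form a subspace
  let U : AddSubgroup (Psi cs h K k → ZMod 2) := {
    carrier := {φ | ∃ q ∈ V, q ∈ Fix G Ad (K \ {k}) c ∧ ∀ β : Psi cs h K k, lamP cs h Ad K k a β q = φ β}
    add_mem' := by
      rintro φ ψ ⟨p, hp1, hp2, hp3⟩ ⟨q, hq1, hq2, hq3⟩
      refine ⟨p * q, mul_mem hp1 hq1, mul_mem hp2 hq2, fun β => ?_⟩
      rw [lamP_mul h hsl H hk ha β.2 hp2 hq2, hp3, hq3]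
      rfl
    zero_mem' := by
      refine ⟨1, one_mem _, one_mem _, fun β => ?_⟩
      obtain ⟨y, hy, he⟩ := (mem_Psi_iff hsl hk).1 β.2
      rw [he, lamP_eq h hsl H ha hy (one_mem _), CS.lam_one]
      rfl
    neg_mem' := by
      rintro φ ⟨q, hq1, hq2, hq3⟩
      refine ⟨q⁻¹, inv_mem hq1, inv_mem hq2, fun β => ?_⟩
      rw [lamP_inv h hsl H hk ha β.2 hq2, hq3]
      have : ∀ x : ZMod 2, x = -x := by decide
      exact this _ }
  let V' : Submodule (ZMod 2) (Psi cs h K k → ZMod 2) := AddSubgroup.toZModSubmodule 2 U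
  let S : Set (Psi cs h K k) := {β | (β : I → ℤ) ≠ sr k ∨ q0 ∈ V}
  have hmain : φ ∈ V' := by
    refine Tri.mem_of_tri V' (fun β => ht (β : I → ℤ)) S ?_ ?_
    · rintro β hβ
      obtain ⟨q, hq1, hq2, hq3, hq4⟩ := exists_dual h hsl H hk ha hV hq0 hl β.2 hβ
      refine ⟨fun β => lamP cs h Ad K k a β q, ?_, hq3, ?_, ?_⟩
      · exact ⟨q, hq1, hq2, fun _ => rfl⟩
      · intro β' hle hne
        exact hq4 β' β'.2 hle (fun he => hne (Subtype.ext he))
      · intro β' hβ'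
        simp only [S, Set.mem_ofPred_eq, not_or, not_not] at hβ'
        have hβ0 : (β : I → ℤ) ≠ sr k := by
          rcases hβ with h1 | h1
          · exact h1
          · exact absurd h1 hβ'.2
        refine hq4 β' β'.2 ?_ ?_
        · rw [hβ'.1, ht_sr]
          exact ht_pos h β.2
        · rw [hβ'.1]
          exact fun he => hβ0 he.symm
    · intro β hβ
      simp only [S, Set.mem_ofPred_eq, not_or, not_not] at hβ
      rcases hφ with h1 | h1
      · have : β = ⟨sr k, sr_mem_Psi hk⟩ := Subtype.ext hβ.1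
        rw [this, h1]
      · exact absurd h1 hβ.2
  exact hmain

end Cfsg.Agent.ParSys.Wt.W2
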