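import Mathlib
import Cfsg.Agent.ParSys.Wt.W2
import Cfsg.Agent.ParSys.FreeTrans

/-!
# THEOREM W: orders of the stabilisers
-/

set_option autoImplicit false
set_option linter.unusedSectionVars false

namespace Cfsg.Agent.ParSys.Wt.Count

open Cfsg.Agent.ParSys Cfsg.Agent.ParSys.Free Cfsg.Agent.Tits.Core Cfsg.Agent.Tits.Exchange
  Cfsg.Agent.ChevalleyStructure.CoxeterGeom Cfsg.Agent.Tits.Roots Cfsg.Agent.ParSys.Wt.RootComb
  Cfsg.Agent.ParSys.Wt.W2

variable {C I G : Type*} [Group G] [Finite G] [MulAction G C] [Finite C] {Ad : I → C → C → Prop}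
  [Fintype I] [DecidableEq I] {M : CoxeterMatrix I} {W : Type*} [Group W] [Finite W]
  {cs : CoxeterSystem M W}

theorem card_gal_two (H : Sy G cs Ad) (f : List I) (c : C) : Nat.card {l // IsGal Ad f c l} = 2 ^ f.length := by
  rw [card_gal (q := fun _ => 2) (fun i c => H.two i c)]
  simp

theorem exists_word (J : Set I) : ∃ f : List I, (∀ i ∈ f, i ∈ J) ∧ cs.IsReduced f ∧ cs.wordProd f = wJ cs J ∧
    f.length = cs.length (wJ cs J) := by
  obtain ⟨f, h1, h2, h3⟩ := exists_reduced_of_mem_WJ cs (isLongest_wJ cs J).1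
  exact ⟨f, h1, h2, h3, by rw [← h3]; exact h2.eq.symm⟩

theorem map_smul_smul (g k : G) (l : List C) : (l.map (k • ·)).map (g • ·) = l.map ((g * k) • ·) := by
  rw [List.map_map]
  congr 1
  funext x
  simp [mul_smul]

theorem map_smul_eq_self {g : G} {l : List C} (h : ∀ x ∈ l, g • x = x) : l.map (g • ·) = l := by
  conv_rhs => rw [← List.map_id l]
  exact List.map_congr_left fun x hx => h x hx

theorem fix_of_map_eq {g : G} {l : List C} (h : l.map (g • ·) = l) : ∀ x ∈ l, g • x = x := by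
  intro x hx
  obtain ⟨n, hn, rfl⟩ := List.getElem_of_mem hx
  have h6 : (l.map (g • ·))[n]'(by simpa using hn) = l[n] := by simp only [h]
  rwa [List.getElem_map] at h6

theorem map_inv_mul {g k : G} {l : List C} (h : l.map (g • ·) = l.map (k • ·)) : l.map ((k⁻¹ * g) • ·) = l := by
  rw [← map_smul_smul, h, map_smul_smul, inv_mul_cancel]
  simp

/-- a gallery of `J`-type stays in the residue -/
theorem inRes_of_mem {J : Set I} {f : List I} (hf : ∀ i ∈ f, i ∈ J) {c : C} {l : List C} (hl : IsGal Ad f c l) :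
    ∀ x ∈ l, InRes Ad J c x := by
  induction f generalizing c l with
  | nil =>
    rw [isGal_nil_iff] at hl
    subst hl
    intro x hx
    exact absurd hx (by simp)
  | cons i f ih =>
    obtain ⟨d, l', rfl, h1, h2⟩ := isGal_cons_iff.1 hl
    have h3 : InRes Ad J c d := Relation.ReflTransGen.single ⟨i, hf i (by simp), h1⟩
    intro x hx
    rcases List.mem_cons.1 hx with rfl | hx
    · exact h3
    · exact h3.trans (ih (fun j hj => hf j (by simp [hj])) h2 x hx)

variable (H : Sy G cs Ad) {J : Set I} (hJ : Hon G cs Ad J) (c : C)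
include H hJ

/-- (C1) -/
theorem card_ge : 2 ^ cs.length (wJ cs J) * Nat.card (Fix G Ad J c) ≤ Nat.card (MulAction.stabilizer G c) := by
  classical
  obtain ⟨f, h1, h2, h3, h4⟩ := exists_word (cs := cs) J
  obtain ⟨l0, hl0⟩ := exists_isGal H.cham.ex f c
  have hfin := finite_gal (A := Ad) f c
  rw [← h4, ← card_gal_two H f c, ← Nat.card_prod]
  have key : ∀ l : {l // IsGal Ad f c l}, ∃ g : G, g • c = c ∧ (l : List C) = l0.map (g • ·) := fun l =>
    hJ f h1 h2 c l0 l hl0 l.2
  choose g hg1 hg2 using key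
  have hQ : ∀ q : Fix G Ad J c, l0.map ((q : G) • ·) = l0 := fun q =>
    map_smul_eq_self fun x hx => q.2 x (inRes_of_mem h1 hl0 x hx)
  refine Nat.card_le_card_of_injective (fun x : {l // IsGal Ad f c l} × Fix G Ad J c =>
    (⟨g x.1 * x.2, by
      rw [MulAction.mem_stabilizer_iff, mul_smul, Fix_le x.2.2, hg1]⟩ : MulAction.stabilizer G c)) ?_
  rintro ⟨l, q⟩ ⟨l', q'⟩ he
  have he' : g l * q = g l' * q' := congrArg Subtype.val he
  have e1 : (l : List C) = l' := by
    have h5 : l0.map ((g l * (q : G)) • ·) = l0.map ((g l' * (q' : G)) • ·) := by rw [he']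
    rw [← map_smul_smul, ← map_smul_smul, hQ, hQ, ← hg2, ← hg2] at h5
    exact h5
  have e2 : l = l' := Subtype.ext e1
  subst e2
  have e3 : q = q' := Subtype.ext (mul_left_cancel he')
  rw [e3]

/-- (C2) -/
theorem card_le : Nat.card (MulAction.stabilizer G c) ≤ 2 ^ cs.length (wJ cs J) * Nat.card (Fix G Ad J c) := by
  classical
  obtain ⟨f, h1, h2, h3, h4⟩ := exists_word (cs := cs) J
  obtain ⟨l0, hl0⟩ := exists_isGal H.cham.ex f c
  have hfin := finite_gal (A := Ad) f c
  rw [← h4, ← card_gal_two H f c, ← Nat.card_prod]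
  have key : ∀ l : {l // IsGal Ad f c l}, ∃ g : G, g • c = c ∧ (l : List C) = l0.map (g • ·) := fun l =>
    hJ f h1 h2 c l0 l hl0 l.2
  choose g hg1 hg2 using key
  have hgal : ∀ u : MulAction.stabilizer G c, IsGal Ad f c (l0.map ((u : G) • ·)) := by
    intro u
    have := hl0.map (H.act (u : G))
    have hu : (u : G) • c = c := u.2
    rwa [hu] at this
  have hmem : ∀ u : MulAction.stabilizer G c, (g ⟨_, hgal u⟩)⁻¹ * u ∈ Fix G Ad J c := by
    intro u
    have e1 : l0.map (((g ⟨_, hgal u⟩)⁻¹ * u) • ·) = l0 := map_inv_mul (hg2 ⟨_, hgal u⟩)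
    have hc : ((g ⟨_, hgal u⟩)⁻¹ * u) • c = c := by
      have hu : (u : G) • c = c := u.2
      rw [mul_smul, hu, inv_smul_eq_iff, hg1]
    have hGl : Gl cs Ad (wJ cs J) c (l0.getLastD c) :=
      ⟨f, h2, h3, rfl, l0, hl0, fun _ _ => rfl, rfl⟩
    have hend : ((g ⟨_, hgal u⟩)⁻¹ * u) • l0.getLastD c = l0.getLastD c :=
      fix_getLastD (g := fun x => ((g ⟨_, hgal u⟩)⁻¹ * (u : G)) • x) hc (fix_of_map_eq e1)
    intro x hx
    exact Hon.opp_fix H hJ hGl hc hend hx
  refine Nat.card_le_card_of_injective (fun u : MulAction.stabilizer G c =>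
    ((⟨_, hgal u⟩, ⟨_, hmem u⟩) : {l // IsGal Ad f c l} × Fix G Ad J c)) ?_
  intro u v he
  have e1 := congrArg Prod.fst he
  have e2 := congrArg (fun x : {l // IsGal Ad f c l} × Fix G Ad J c => (x.2 : G)) he
  simp only at e1 e2
  rw [e1] at e2
  exact Subtype.ext (mul_left_cancel e2)

end Cfsg.Agent.ParSys.Wt.Count
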