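import Mathlib
import Cfsg.Agent.ParSys.Gal

/-!
# THEOREM W, the degenerate case (W1), abstract part

`q` acts on a simply laced chamber system whose diagram has no triangles and no quadrangles; `Mv i c` : `q` fixes `c` but
not all chambers of the `i`-panel of `c`.  If `q` never moves exactly one panel of a fixed chamber, and if `q` fixes all the
chambers of the residue of type `I - m0`, `m0` a leaf, then `q` fixes all chambers.
-/

set_option autoImplicit false

namespace Cfsg.Agent.ParSys.Wt.DegCore

open Cfsg.Agent.ParSys Cfsg.Agent.ParSys.Free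

variable {C I : Type*} {A : I → C → C → Prop} {m : I → I → ℕ}

/-- the ball of radius `n` around `R` -/
def Bl (A : I → C → C → Prop) (R : C → Prop) : ℕ → C → Prop
  | 0, x => R x
  | n + 1, x => Bl A R n x ∨ ∃ y i, Bl A R n y ∧ A i y x

theorem Bl.succ {R : C → Prop} {n : ℕ} {x : C} (h : Bl A R n x) : Bl A R (n + 1) x := Or.inl h

theorem Bl.adj {R : C → Prop} {n : ℕ} {x y : C} {i : I} (h : Bl A R n x) (hi : A i x y) : Bl A R (n + 1) y :=
  Or.inr ⟨x, i, h, hi⟩

/-- the data -/
structure Hyp (A : I → C → C → Prop) (m : I → I → ℕ) (q : C → C) (Mv : I → C → Prop) (m0 : I) (R : C → Prop) :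
    Prop where
  cham : Cham A m
  diag : ∀ i, m i i ≠ 3
  laced : ∀ i j, i ≠ j → m i j = 2 ∨ m i j = 3
  symm : ∀ i j, m i j = m j i
  leaf : ∀ i j, m m0 i = 3 → m m0 j = 3 → i = j
  tri : ∀ i j k, m i j = 3 → m j k = 3 → m i k = 3 → False
  quad : ∀ i j k l, i ≠ k → j ≠ l → m i j = 3 → m i l = 3 → m k j = 3 → m k l = 3 → False
  mv : ∀ i c, q c = c → (∀ d, A i c d → q d = d) → ¬ Mv i c
  mv' : ∀ i c, q c = c → ¬ Mv i c → ∀ d, A i c d → q d = d
  p2 : ∀ i j c d, m i j = 2 → A i c d → q c = c → q d = d → Mv j d → Mv j c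
  p3 : ∀ i j c d e, m i j = 3 → A i c d → A j d e → q c = c → q d = d → q e = e → (Mv j c ↔ Mv i e)
  deg : ∀ c, q c = c → ∀ j, Mv j c → ∃ j', j' ≠ j ∧ Mv j' c
  zero : ∀ x, R x → q x = x
  zeroR : ∀ x y i, R x → i ≠ m0 → A i x y → R y

variable {q : C → C} {Mv : I → C → Prop} {m0 : I} {R : C → Prop} (H : Hyp A m q Mv m0 R)
include H

/-- (K1) `e` is `i`-adjacent to a chamber `y` of the smaller ball: only the panels adjacent to `i` can be moved -/
theorem Hyp.k1 {n : ℕ} (hP : ∀ x, Bl A R (n + 1) x → q x = x) {y e : C} {i : I} (hy : Bl A R n y) (hi : A i y e) {j : I}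
    (hj : Mv j e) : m i j = 3 := by
  have hqy : q y = y := hP y hy.succ
  have hqe : q e = e := hP e (hy.adj hi)
  have hij : i ≠ j := by
    rintro rfl
    refine H.mv i e hqe ?_ hj
    intro d hd
    by_cases hdy : d = y
    · rw [hdy]; exact hqy
    · exact hP d (hy.adj (H.cham.trans (H.cham.symm hi) hd (Ne.symm hdy)))
  rcases H.laced i j hij with h2 | h3
  · exfalso
    exact H.mv j y hqy (fun d hd => hP d (hy.adj hd)) (H.p2 i j y e h2 hi hqy hqe hj)
  · exact h3

theorem Hyp.step (n : ℕ) (hP : ∀ x, Bl A R n x → q x = x) : ∀ x, Bl A R (n + 1) x → q x = x := by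
  rintro x (hx | ⟨e, j, he, hj⟩)
  · exact hP x hx
  have hqe : q e = e := hP e he
  by_contra hne
  have hmv : Mv j e := by
    by_contra h
    exact hne (H.mv' j e hqe h x hj)
  obtain ⟨j', hj', hmv'⟩ := H.deg e hqe j hmv
  cases n with
  | zero =>
    -- `e ∈ R` : at most the panel `m0` is moved
    have key : ∀ k, Mv k e → k = m0 := by
      intro k hk
      by_contra hk0
      exact H.mv k e hqe (fun d hd => H.zero d (H.zeroR e d k he hk0 hd)) hk
    exact hj' ((key j' hmv').trans (key j hmv).symm)
  | succ n =>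
    have hfar : ∀ (e : C) (j : I), Bl A R (n + 1) e → Mv j e → ¬ Bl A R n e := by
      intro e j he hj h
      exact H.mv j e (hP e he) (fun d hd => hP d (h.adj hd)) hj
    rcases he with he | ⟨e', i, he', hi⟩
    · exact hfar e j he.succ hmv he
    have h1 : m i j = 3 := H.k1 hP he' hi hmv
    have h1' : m i j' = 3 := H.k1 hP he' hi hmv'
    have hqe' : q e' = e' := hP e' he'.succ
    cases n with
    | zero =>
      by_cases him : i = m0
      · subst him
        exact hj' (H.leaf j' j h1' h1)
      · exact hfar e j (he'.adj hi) hmv (H.zeroR e' e i he' him hi)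
    | succ n =>
      have hfe : ¬ Bl A R (n + 1) e := hfar e j (he'.adj hi) hmv
      rcases he' with he' | ⟨e'', h, he'', hh⟩
      · exact hfe (he'.adj hi)
      have hB' : Bl A R (n + 1) e' := he''.adj hh
      have hqe'' : q e'' = e'' := hP e'' he''.succ.succ
      have hhi : h ≠ i := by
        rintro rfl
        by_cases heq : e'' = e
        · exact hfe (heq ▸ he''.succ)
        · exact hfe (he''.adj (H.cham.trans (H.cham.symm hh) hi heq))
      -- `h` and `i` do not commute
      have h2 : m h i = 3 := by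
        rcases H.laced h i hhi with h2 | h3
        · exfalso
          have hg : IsGal A (alt h i (m h i)) e'' [e', e] := by
            rw [h2]
            exact ⟨hh, hi, trivial⟩
          obtain ⟨l, ⟨hl, hlast⟩, -⟩ := H.cham.gp h i hhi e'' _ hg
          rw [h2] at hl
          obtain ⟨y, l', rfl, hy, hl'⟩ := isGal_cons_iff.1 hl
          obtain ⟨z, l'', rfl, hz, hl''⟩ := isGal_cons_iff.1 hl'
          have hl3 : l'' = [] := isGal_nil_iff.1 hl''
          subst hl3
          have hze : z = e := hlast
          subst hze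
          have h3 := H.k1 hP (he''.adj hy) hz hmv
          have h3' := H.k1 hP (he''.adj hy) hz hmv'
          exact H.quad h j i j' hhi (Ne.symm hj') h3 h3' h1 h1'
        · exact h3
      -- the `h`-panel of `e` is not moved
      have h3 : ¬ Mv h e := by
        rw [← H.p3 h i e'' e' e h2 hh hi hqe'' hqe' hqe]
        exact H.mv i e'' hqe'' fun d hd => hP d (he''.adj hd).succ
      have hhj : h ≠ j := by
        rintro rfl
        exact h3 hmv
      obtain ⟨es, hes⟩ := H.cham.ex j e'
      have hBs : Bl A R (n + 1 + 1) es := hB'.adj hes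
      have hqs : q es = es := hP es hBs
      have h4 : Mv i es := by
        rw [H.p3 j i es e' e (by rw [H.symm]; exact h1) (H.cham.symm hes) hi hqs hqe' hqe]
        exact hmv
      obtain ⟨i', hi', hmvi'⟩ := H.deg es hqs i h4
      have h5 : m j i = 3 := by rw [H.symm]; exact h1
      have h5' : m j i' = 3 := H.k1 hP hB' hes hmvi'
      have hfs : ¬ Bl A R (n + 1) es := hfar es i hBs h4
      rcases H.laced h j hhj with h6 | h6
      · have hg : IsGal A (alt h j (m h j)) e'' [e', es] := by
          rw [h6]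
          exact ⟨hh, hes, trivial⟩
        obtain ⟨l, ⟨hl, hlast⟩, -⟩ := H.cham.gp h j hhj e'' _ hg
        rw [h6] at hl
        obtain ⟨y, l', rfl, hy, hl'⟩ := isGal_cons_iff.1 hl
        obtain ⟨z, l'', rfl, hz, hl''⟩ := isGal_cons_iff.1 hl'
        have hl3 : l'' = [] := isGal_nil_iff.1 hl''
        subst hl3
        have hze : z = es := hlast
        subst hze
        have h7 := H.k1 hP (he''.adj hy) hz h4
        have h7' := H.k1 hP (he''.adj hy) hz hmvi'
        exact H.quad h i j i' hhj (Ne.symm hi') h7 h7' h5 h5'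
      · exact H.tri h i j h2 h1 h6

theorem Hyp.fix (n : ℕ) : ∀ x, Bl A R n x → q x = x := by
  induction n with
  | zero => exact H.zero
  | succ n ih => exact H.step n ih

/-- every chamber which can be reached from `R` is fixed -/
theorem Hyp.main {x y : C} (hx : R x) (h : Relation.ReflTransGen (fun c d => ∃ i, A i c d) x y) : q y = y := by
  have key : ∃ n, Bl A R n y := by
    induction h with
    | refl => exact ⟨0, hx⟩
    | tail _ h ih =>
      obtain ⟨n, hn⟩ := ih
      obtain ⟨i, hi⟩ := h
      exact ⟨n + 1, hn.adj hi⟩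
  obtain ⟨n, hn⟩ := key
  exact H.fix n y hn

end Cfsg.Agent.ParSys.Wt.DegCore
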