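import Mathlib
import Cfsg.Agent.ParSys.Wt.Lam
import Cfsg.Agent.ParSys.Wt.DegCore

/-!
# THEOREM W, (W1): the degenerate case

`g` satisfies the weight relation at every fixed chamber and fixes the residue of type `I - m0` of `c0`, `m0` a leaf of a
simply laced diagram without triangles and quadrangles; then `g` fixes every chamber of the connected component of `c0`.
-/

set_option autoImplicit false

namespace Cfsg.Agent.ParSys.Wt.Deg

open Cfsg.Agent.ParSys Cfsg.Agent.ParSys.Free Cfsg.Agent.ParSys.Wt

variable {C I G : Type*} [Group G] [MulAction G C] {A : I → C → C → Prop} {m : I → I → ℕ}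

/-- a simply laced diagram without triangles and quadrangles -/
structure Dia (m : I → I → ℕ) : Prop where
  diag : ∀ i, m i i ≠ 3
  laced : ∀ i j, i ≠ j → m i j = 2 ∨ m i j = 3
  tri : ∀ i j k, m i j = 3 → m j k = 3 → m i k = 3 → False
  quad : ∀ i j k l, i ≠ k → j ≠ l → m i j = 3 → m i l = 3 → m k j = 3 → m k l = 3 → False

/-- if the weights of the panels of `c` add up to zero, `g` does not move exactly one panel -/
theorem exists_other_panel [Fintype I] {c : C} {g : G} (hs : ∑ i, lam A i c g = 0) {j : I} (hj : lam A j c g = 1) :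
    ∃ j', j' ≠ j ∧ lam A j' c g = 1 := by
  classical
  by_contra hno
  push Not at hno
  have h2 : ∑ i, lam A i c g = lam A j c g := by
    refine Finset.sum_eq_single j (fun i _ hi => ?_) (fun h => absurd (Finset.mem_univ j) h)
    have z2 : ∀ a : ZMod 2, a ≠ 1 → a = 0 := by decide
    exact z2 _ (hno i hi)
  rw [h2, hj] at hs
  exact absurd hs (by decide)

/-- **(W1)** -/
theorem fix_all [Fintype I] (h : CS G A m) (hD : Dia m) {m0 : I} (leaf : ∀ i j, m m0 i = 3 → m m0 j = 3 → i = j)
    {g : G} (deg : ∀ c, g • c = c → ∑ i, lam A i c g = 0) {c0 : C}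
    (zero : ∀ x, Relation.ReflTransGen (fun c d => ∃ i, i ≠ m0 ∧ A i c d) c0 x → g • x = x) {x : C}
    (hx : Relation.ReflTransGen (fun c d => ∃ i, A i c d) c0 x) : g • x = x := by
  have H : DegCore.Hyp A m (fun c => g • c) (fun i c => lam A i c g = 1) m0
      (Relation.ReflTransGen (fun c d => ∃ i, i ≠ m0 ∧ A i c d) c0) := {
    cham := h.cham
    diag := hD.diag
    laced := hD.laced
    symm := h.symm
    leaf := leaf
    tri := hD.tri
    quad := hD.quad
    mv := fun i c _ h1 h2 => by
      rw [lam_eq_zero.2 h1] at h2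
      exact absurd h2 (by decide)
    mv' := fun i c _ h1 => by
      have z2 : ∀ a : ZMod 2, a ≠ 1 → a = 0 := by decide
      exact lam_eq_zero.1 (z2 _ h1)
    p2 := fun i j c d hm hcd hc hd h1 => by
      have hij : i ≠ j := by
        rintro rfl
        obtain ⟨e, he⟩ := h.cham.ex i c
        refine h.ne_of_lam_one hd h1 (h.cham.symm hcd) hc
      show lam A j c g = 1
      rw [h.par2 hij hm hcd hc hd]
      exact h1
    p3 := fun i j c d e hm hcd hde hc hd he => by
      have hij : i ≠ j := by
        rintro rfl
        exact hD.diag i hm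
      show lam A j c g = 1 ↔ lam A i e g = 1
      rw [h.par3 hij hm hcd hde hc hd he]
    deg := fun c hc j hj => exists_other_panel (deg c hc) hj
    zero := zero
    zeroR := fun x y i hx hi hxy => hx.tail ⟨i, hi, hxy⟩ }
  exact H.main Relation.ReflTransGen.refl hx

end Cfsg.Agent.ParSys.Wt.Deg
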