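import Mathlib
import Cfsg.Agent.ParSys.Wt.RootComb
import Cfsg.Agent.LieRecognition.CoxClass

/-!
# Multiplicity free nodes (THEOREM W, piece (2) (f) of bb #12937)

In a finite simply laced irreducible root system every proper set `K ≠ ∅` of nodes contains a node `k` such that all
positive roots with support in `K` have coefficient at most `1` at `k`; the same for `K` the set of all nodes unless
the type is `E₈`.
-/

set_option autoImplicit false

namespace Cfsg.Agent.ParSys.Wt.RootComb

open CoxeterSystem Cfsg.Agent.ChevalleyStructure.CoxeterGeom Cfsg.Agent.Tits.Roots Cfsg.Agent.Tits.Core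
  Cfsg.Agent.LieRecognition.CoxClass

variable {I W : Type*} [Fintype I] [DecidableEq I] [Group W] {M : CoxeterMatrix I}
  (cs : CoxeterSystem M W) {A : I → I → ℤ} (h : IsCartan M A)

/-- all positive roots with support in `K` have coefficient at most `1` at `k` -/
def MFree (K : Set I) (k : I) : Prop :=
  ∀ β, IsRoot cs h β → 0 ≤ β → (∀ i, i ∉ K → β i = 0) → β k ≤ 1

/-- the Cartan integer of a label -/
def car (c : ℕ) : ℤ := if c = 1 then 2 else if c = 3 then -1 else 0

omit [Fintype I] [DecidableEq I] in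
include h in
theorem cartan_eq_car (hsl : SL M) (i j : I) : A i j = car (M i j) := by
  by_cases hij : i = j
  · subst hij
    rw [h.diag, M.diagonal]
    rfl
  · rcases hsl i j hij with h2 | h2
    · rw [cartan_zero h hij h2, h2]
      rfl
    · rw [cartan_neg_one h hij h2, h2]
      rfl

include h in
omit [DecidableEq I] in
theorem pairing_lab (hsl : SL M) {n : ℕ} {v : Fin n ≃ I} {m : ℕ → ℕ → ℕ} (hv : Lab M v m) (x : Fin n → ℤ)
    (i : Fin n) : pairing A (v i) (fun j => x (v.symm j)) = ∑ j : Fin n, car (m i j) * x j := by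
  unfold pairing
  rw [← Equiv.sum_comp v]
  refine Finset.sum_congr rfl fun j _ => ?_
  rw [cartan_eq_car h hsl, hv i j]
  simp only [Equiv.symm_apply_apply]

theorem mfree_of_table [Finite W] (hsl : SL M) {n : ℕ} {v : Fin n ≃ I} {m : ℕ → ℕ → ℕ} (hv : Lab M v m)
    {K : Set I} (k : Fin n) (x : Fin n → ℤ) (d : ℤ) (hd : 0 < d)
    (h0 : ∀ i, v i ∈ K → i ≠ k → ∑ j : Fin n, car (m i j) * x j = 0) (hk : ∑ j : Fin n, car (m k j) * x j = d)
    (hn : ∑ i, x i * ∑ j : Fin n, car (m i j) * x j < 2 * d ^ 2) : MFree cs h K (v k) := by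
  intro β hβ _ hs
  refine le_one_of_vec cs h hsl (fun j => x (v.symm j)) d hd ?_ ?_ ?_ hβ hs
  · intro i hi hik
    obtain ⟨i, rfl⟩ := v.surjective i
    rw [pairing_lab h hsl hv]
    exact h0 i hi (fun h1 => hik (by rw [h1]))
  · rw [pairing_lab h hsl hv, hk]
  · unfold bil
    rw [← Equiv.sum_comp v]
    simp only [Equiv.symm_apply_apply, pairing_lab h hsl hv]
    exact hn

/-- the version with a list of nodes outside `K` -/
theorem mfree_of_list [Finite W] (hsl : SL M) {n : ℕ} {v : Fin n ≃ I} {m : ℕ → ℕ → ℕ} (hv : Lab M v m)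
    {K : Set I} (k : Fin n) (x : Fin n → ℤ) (d : ℤ) (hd : 0 < d) (L : List (Fin n)) (hL : ∀ i ∈ L, v i ∉ K)
    (h0 : ∀ i, i ∉ L → i ≠ k → ∑ j : Fin n, car (m i j) * x j = 0) (hk : ∑ j : Fin n, car (m k j) * x j = d)
    (hn : ∑ i, x i * ∑ j : Fin n, car (m i j) * x j < 2 * d ^ 2) : MFree cs h K (v k) :=
  mfree_of_table cs h hsl hv k x d hd (fun i hi hik => h0 i (fun hiL => hL i hiL hi) hik) hk hn

/-! ### Type `A_n` -/

theorem sum_A {n i : ℕ} (hi : i < n) (g : ℕ → ℤ) :
    ∑ j : Fin n, car (mA i j) * g j =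
      2 * g i - (if i + 1 < n then g (i + 1) else 0) - (if 0 < i then g (i - 1) else 0) := by
  rw [Fin.sum_univ_eq_sum_range (fun j => car (mA i j) * g j)]
  have key : ∀ j ∈ Finset.range n, car (mA i j) * g j = (if j = i then 2 * g i else 0) -
      (if j = i + 1 then g (i + 1) else 0) - (if j = i - 1 then (if 0 < i then g (i - 1) else 0) else 0) := by
    intro j _
    unfold mA car
    by_cases h1 : j = i
    · subst h1
      by_cases h2 : 0 < j
      · have h3 : ¬ j = j - 1 := by omega
        simp [h3]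
      · have h3 : j = 0 := by omega
        simp [h3]
    · by_cases h2 : j = i + 1
      · subst h2
        have h3 : ¬ i + 1 = i - 1 := by omega
        simp [h3]
      · by_cases h3 : j + 1 = i
        · subst h3
          have h4 : ¬ j = j + 1 + 1 := by omega
          have h5 : ¬ j + 1 + 1 = j := by omega
          simp [h4, h5]
        · have h4 : ¬ i = j := fun h => h1 h.symm
          have h5 : ¬ i + 1 = j := fun h => h2 h.symm
          by_cases h6 : j = i - 1
          · have h7 : ¬ 0 < i := by omega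
            simp [h1, h2, h3, h4, h5, h7]
          · simp [h1, h2, h3, h4, h5, h6]
  rw [Finset.sum_congr rfl key, Finset.sum_sub_distrib, Finset.sum_sub_distrib, Finset.sum_ite_eq',
    Finset.sum_ite_eq', Finset.sum_ite_eq', if_pos (Finset.mem_range.2 hi),
    if_pos (Finset.mem_range.2 (by omega : i - 1 < n))]
  simp only [Finset.mem_range]

omit [Fintype I] [DecidableEq I] in
/-- the node of smallest label in a nonempty set -/
theorem exists_min_lab {n : ℕ} (v : Fin n ≃ I) {K : Set I} (hK : K.Nonempty) :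
    ∃ k : Fin n, v k ∈ K ∧ ∀ i, v i ∈ K → k ≤ i := by
  classical
  obtain ⟨a, ha⟩ := hK
  obtain ⟨k, hk, hmin⟩ := (Finset.univ.filter fun i : Fin n => v i ∈ K).exists_min_image id
    ⟨v.symm a, by simp [ha]⟩
  exact ⟨k, (Finset.mem_filter.1 hk).2, fun i hi => hmin i (Finset.mem_filter.2 ⟨Finset.mem_univ i, hi⟩)⟩

theorem mfree_A [Finite W] (hsl : SL M) {n : ℕ} {v : Fin n ≃ I} (hv : Lab M v mA) {K : Set I}
    (hK : K.Nonempty) : ∃ k ∈ K, MFree cs h K k := by
  obtain ⟨k, hkK, hmin⟩ := exists_min_lab v hK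
  have hkn := k.2
  refine ⟨v k, hkK, ?_⟩
  let g : ℕ → ℤ := fun i => if (k : ℕ) ≤ i then (n : ℤ) - i else 0
  have hsum : ∀ i : Fin n, k ≤ i → ∑ j : Fin n, car (mA i j) * g j = if i = k then (n : ℤ) - k + 1 else 0 := by
    intro i hki
    rw [sum_A i.2]
    have hki' : (k : ℕ) ≤ i := hki
    have hin := i.2
    by_cases hik : i = k
    · subst hik
      rw [if_pos rfl]
      have g1 : g i = n - i := if_pos le_rfl
      have g2 : g (i + 1) = n - i - 1 := by
        have : g (i + 1) = (n : ℤ) - ((i + 1 : ℕ) : ℤ) := if_pos (by omega)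
        rw [this]; push_cast; ring
      have g3 : (if 0 < (i : ℕ) then g (i - 1) else 0) = 0 := by
        split_ifs with h0
        · exact if_neg (by omega)
        · rfl
      rw [g3, g1, g2]
      split_ifs with h1
      · ring
      · have : (n : ℤ) = i + 1 := by omega
        rw [this]; ring
    · have hne : (i : ℕ) ≠ k := fun h1 => hik (Fin.ext h1)
      rw [if_neg hik]
      have g1 : g i = n - i := if_pos hki'
      have g2 : g (i + 1) = n - i - 1 := by
        have : g (i + 1) = (n : ℤ) - ((i + 1 : ℕ) : ℤ) := if_pos (by omega)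
        rw [this]; push_cast; ring
      have g3 : (if 0 < (i : ℕ) then g (i - 1) else 0) = n - i + 1 := by
        rw [if_pos (by omega)]
        have : g ((i : ℕ) - 1) = (n : ℤ) - (((i : ℕ) - 1 : ℕ) : ℤ) := if_pos (by omega)
        rw [this]; omega
      rw [g3, g1, g2]
      split_ifs with h1
      · ring
      · have : (n : ℤ) = i + 1 := by omega
        rw [this]; ring
  refine mfree_of_table cs h hsl hv k (fun j => g j) ((n : ℤ) - k + 1) (by omega) ?_ ?_ ?_
  · intro i hi hik
    rw [hsum i (hmin i hi), if_neg hik]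
  · rw [hsum k le_rfl, if_pos rfl]
  · have e1 : ∑ i : Fin n, g i * ∑ j : Fin n, car (mA i j) * g j = g k * ((n : ℤ) - k + 1) := by
      rw [Finset.sum_eq_single k, hsum k le_rfl, if_pos rfl]
      · intro i _ hik
        by_cases hki : k ≤ i
        · rw [hsum i hki, if_neg hik, mul_zero]
        · have : g i = 0 := if_neg hki
          rw [this, zero_mul]
      · intro h1
        exact absurd (Finset.mem_univ k) h1
    rw [e1]
    have g1 : g k = n - k := if_pos le_rfl
    rw [g1]
    have hd : (0 : ℤ) < (n : ℤ) - k := by omega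
    nlinarith

/-! ### Type `D_n` -/

theorem sum_D {n i : ℕ} (hn : 4 ≤ n) (hi : i < n) (g : ℕ → ℤ) :
    ∑ j : Fin n, car (mD n i j) * g j =
      2 * g i - (if i + 2 < n then g (i + 1) else 0) - (if 0 < i ∧ i + 1 < n then g (i - 1) else 0)
        - (if i + 3 = n then g (n - 1) else 0) - (if i + 1 = n then g (n - 3) else 0) := by
  rw [Fin.sum_univ_eq_sum_range (fun j => car (mD n i j) * g j)]
  have key : ∀ j ∈ Finset.range n, car (mD n i j) * g j = (if j = i then 2 * g i else 0) -
      (if j = i + 1 then (if i + 2 < n then g (i + 1) else 0) else 0) -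
      (if j = i - 1 then (if 0 < i ∧ i + 1 < n then g (i - 1) else 0) else 0) -
      (if j = n - 1 then (if i + 3 = n then g (n - 1) else 0) else 0) -
      (if j = n - 3 then (if i + 1 = n then g (n - 3) else 0) else 0) := by
    intro j hj
    have hj := Finset.mem_range.1 hj
    unfold mD car
    by_cases h1 : j = i
    · subst h1
      have c1 : (if j = j + 1 then (if j + 2 < n then g (j + 1) else 0) else 0) = 0 := if_neg (by omega)
      have c2 : (if j = j - 1 then (if 0 < j ∧ j + 1 < n then g (j - 1) else 0) else 0) = 0 := by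
        split_ifs <;> first | rfl | omega
      have c3 : (if j = n - 1 then (if j + 3 = n then g (n - 1) else 0) else 0) = 0 := by
        split_ifs <;> first | rfl | omega
      have c4 : (if j = n - 3 then (if j + 1 = n then g (n - 3) else 0) else 0) = 0 := by
        split_ifs <;> first | rfl | omega
      rw [c1, c2, c3, c4]
      simp
    · have hij : ¬ i = j := fun h => h1 h.symm
      rw [if_neg hij, if_neg h1]
      by_cases h2 : (i + 1 = j ∧ j + 1 < n) ∨ (j + 1 = i ∧ i + 1 < n) ∨ (i + 3 = n ∧ j + 1 = n) ∨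
          (j + 3 = n ∧ i + 1 = n)
      · rw [if_pos h2]
        rcases h2 with ⟨h3, h4⟩ | ⟨h3, h4⟩ | ⟨h3, h4⟩ | ⟨h3, h4⟩
        · subst h3
          have c2 : (if i + 1 = i - 1 then (if 0 < i ∧ i + 1 < n then g (i - 1) else 0) else 0) = 0 :=
            if_neg (by omega)
          have c3 : (if i + 1 = n - 1 then (if i + 3 = n then g (n - 1) else 0) else 0) = 0 := by
            split_ifs <;> first | rfl | omega
          have c4 : (if i + 1 = n - 3 then (if i + 1 = n then g (n - 3) else 0) else 0) = 0 := by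
            split_ifs <;> first | rfl | omega
          have c1 : (if i + 1 = i + 1 then (if i + 2 < n then g (i + 1) else 0) else 0) = g (i + 1) := by
            rw [if_pos rfl, if_pos (by omega)]
          rw [c1, c2, c3, c4]
          simp
        · subst h3
          have c1 : (if j = j + 1 + 1 then (if j + 1 + 2 < n then g (j + 1 + 1) else 0) else 0) = 0 :=
            if_neg (by omega)
          have c3 : (if j = n - 1 then (if j + 1 + 3 = n then g (n - 1) else 0) else 0) = 0 := by
            split_ifs <;> first | rfl | omega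
          have c4 : (if j = n - 3 then (if j + 1 + 1 = n then g (n - 3) else 0) else 0) = 0 := by
            split_ifs <;> first | rfl | omega
          have c2 : (if j = j + 1 - 1 then (if 0 < j + 1 ∧ j + 1 + 1 < n then g (j + 1 - 1) else 0) else 0) =
              g j := by
            rw [if_pos (by omega), if_pos (by omega), Nat.add_sub_cancel]
          rw [c1, c2, c3, c4]
          simp
        · have c1 : (if j = i + 1 then (if i + 2 < n then g (i + 1) else 0) else 0) = 0 :=
            if_neg (by omega)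
          have c2 : (if j = i - 1 then (if 0 < i ∧ i + 1 < n then g (i - 1) else 0) else 0) = 0 := by
            split_ifs <;> first | rfl | omega
          have c4 : (if j = n - 3 then (if i + 1 = n then g (n - 3) else 0) else 0) = 0 := by
            split_ifs <;> first | rfl | omega
          have e : j = n - 1 := by omega
          rw [c1, c2, c4, if_pos e, if_pos h3, e]
          simp
        · have c1 : (if j = i + 1 then (if i + 2 < n then g (i + 1) else 0) else 0) = 0 := by
            split_ifs <;> first | rfl | omega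
          have c2 : (if j = i - 1 then (if 0 < i ∧ i + 1 < n then g (i - 1) else 0) else 0) = 0 := by
            split_ifs <;> first | rfl | omega
          have c3 : (if j = n - 1 then (if i + 3 = n then g (n - 1) else 0) else 0) = 0 := by
            split_ifs <;> first | rfl | omega
          have e : j = n - 3 := by omega
          rw [c1, c2, c3, if_pos e, if_pos h4, e]
          simp
      · rw [if_neg h2]
        have c1 : (if j = i + 1 then (if i + 2 < n then g (i + 1) else 0) else 0) = 0 := by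
          split_ifs <;> first | rfl | omega
        have c2 : (if j = i - 1 then (if 0 < i ∧ i + 1 < n then g (i - 1) else 0) else 0) = 0 := by
          split_ifs <;> first | rfl | omega
        have c3 : (if j = n - 1 then (if i + 3 = n then g (n - 1) else 0) else 0) = 0 := by
          split_ifs <;> first | rfl | omega
        have c4 : (if j = n - 3 then (if i + 1 = n then g (n - 3) else 0) else 0) = 0 := by
          split_ifs <;> first | rfl | omega
        rw [c1, c2, c3, c4]
        simp
  rw [Finset.sum_congr rfl key, Finset.sum_sub_distrib, Finset.sum_sub_distrib, Finset.sum_sub_distrib,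
    Finset.sum_sub_distrib, Finset.sum_ite_eq', Finset.sum_ite_eq', Finset.sum_ite_eq', Finset.sum_ite_eq',
    Finset.sum_ite_eq', if_pos (Finset.mem_range.2 hi), if_pos (Finset.mem_range.2 (by omega : i - 1 < n)),
    if_pos (Finset.mem_range.2 (by omega : n - 1 < n)), if_pos (Finset.mem_range.2 (by omega : n - 3 < n))]
  congr 3
  simp only [Finset.mem_range]
  split_ifs <;> first | rfl | omega

theorem mfree_D [Finite W] (hsl : SL M) {n : ℕ} (hn4 : 4 ≤ n) {v : Fin n ≃ I} (hv : Lab M v (mD n)) {K : Set I}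
    (hK : K.Nonempty) : ∃ k ∈ K, MFree cs h K k := by
  obtain ⟨k, hkK, hmin⟩ := exists_min_lab v hK
  have hkn := k.2
  refine ⟨v k, hkK, ?_⟩
  by_cases hk3 : (k : ℕ) + 3 ≤ n
  · let g : ℕ → ℤ := fun i => if (k : ℕ) ≤ i then (if i + 3 ≤ n then 2 else 1) else 0
    have g0 : ∀ i, ¬ (k : ℕ) ≤ i → g i = 0 := fun i hi => if_neg hi
    have g2 : ∀ i, (k : ℕ) ≤ i → i + 3 ≤ n → g i = 2 := fun i hi hi' => by
      show (if (k : ℕ) ≤ i then (if i + 3 ≤ n then (2 : ℤ) else 1) else 0) = 2
      rw [if_pos hi, if_pos hi']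
    have g1 : ∀ i, (k : ℕ) ≤ i → ¬ i + 3 ≤ n → g i = 1 := fun i hi hi' => by
      show (if (k : ℕ) ≤ i then (if i + 3 ≤ n then (2 : ℤ) else 1) else 0) = 1
      rw [if_pos hi, if_neg hi']
    have hsum : ∀ i : Fin n, k ≤ i → ∑ j : Fin n, car (mD n i j) * g j = if i = k then 2 else 0 := by
      intro i hki
      rw [sum_D hn4 i.2]
      have hki' : (k : ℕ) ≤ i := hki
      have hin := i.2
      -- the last nodes
      by_cases e1 : (i : ℕ) + 1 = n
      · have hik : i ≠ k := by
          intro h1
          have : (i : ℕ) = k := congrArg Fin.val h1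
          omega
        rw [if_neg (by omega), if_neg (by omega), if_neg (by omega), if_pos e1, if_neg hik,
          g1 i hki' (by omega), g2 (n - 3) (by omega) (by omega)]
        norm_num
      by_cases e2 : (i : ℕ) + 2 = n
      · have hik : i ≠ k := by
          intro h1
          have : (i : ℕ) = k := congrArg Fin.val h1
          omega
        rw [if_neg (by omega), if_pos (by omega), if_neg (by omega), if_neg e1, if_neg hik,
          g1 i hki' (by omega), g2 (i - 1) (by omega) (by omega)]
        norm_num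
      by_cases e3 : (i : ℕ) + 3 = n
      · rw [if_pos (by omega), if_pos e3, if_neg e1, g2 i hki' (by omega), g1 (i + 1) (by omega) (by omega),
          g1 (n - 1) (by omega) (by omega)]
        by_cases hik : i = k
        · have : (i : ℕ) = k := congrArg Fin.val hik
          rw [if_pos hik]
          have c : (if 0 < (i : ℕ) ∧ (i : ℕ) + 1 < n then g (i - 1) else 0) = 0 := by
            split_ifs with c1
            · exact g0 _ (by omega)
            · rfl
          rw [c]
          norm_num
        · have : (i : ℕ) ≠ k := fun h1 => hik (Fin.ext h1)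
          rw [if_neg hik, if_pos (by omega), g2 (i - 1) (by omega) (by omega)]
          norm_num
      · rw [if_pos (by omega), if_neg e3, if_neg e1, g2 i hki' (by omega), g2 (i + 1) (by omega) (by omega)]
        by_cases hik : i = k
        · have : (i : ℕ) = k := congrArg Fin.val hik
          rw [if_pos hik]
          have c : (if 0 < (i : ℕ) ∧ (i : ℕ) + 1 < n then g (i - 1) else 0) = 0 := by
            split_ifs with c1
            · exact g0 _ (by omega)
            · rfl
          rw [c]
          norm_num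
        · have : (i : ℕ) ≠ k := fun h1 => hik (Fin.ext h1)
          rw [if_neg hik, if_pos (by omega), g2 (i - 1) (by omega) (by omega)]
          norm_num
    refine mfree_of_table cs h hsl hv k (fun j => g j) 2 (by norm_num) ?_ ?_ ?_
    · intro i hi hik
      rw [hsum i (hmin i hi), if_neg hik]
    · rw [hsum k le_rfl, if_pos rfl]
    · have e1 : ∑ i : Fin n, g i * ∑ j : Fin n, car (mD n i j) * g j = g k * 2 := by
        rw [Finset.sum_eq_single k, hsum k le_rfl, if_pos rfl]
        · intro i _ hik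
          by_cases hki : k ≤ i
          · rw [hsum i hki, if_neg hik, mul_zero]
          · rw [g0 i hki, zero_mul]
        · intro h1
          exact absurd (Finset.mem_univ k) h1
      rw [e1, g2 k le_rfl hk3]
      norm_num
  · -- the last two nodes are not joined
    let g : ℕ → ℤ := fun i => if i = (k : ℕ) then 1 else 0
    have gk : g k = 1 := if_pos rfl
    have g0 : ∀ i, i ≠ (k : ℕ) → g i = 0 := fun i hi => if_neg hi
    have hsum : ∀ i : Fin n, k ≤ i → ∑ j : Fin n, car (mD n i j) * g j = if i = k then 2 else 0 := by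
      intro i hki
      rw [sum_D hn4 i.2]
      have hki' : (k : ℕ) ≤ i := hki
      have hin := i.2
      rw [if_neg (by omega : ¬ (i : ℕ) + 2 < n), if_neg (by omega : ¬ (i : ℕ) + 3 = n)]
      have c2 : (if 0 < (i : ℕ) ∧ (i : ℕ) + 1 < n then g (i - 1) else 0) = 0 := by
        split_ifs with c1
        · exact g0 _ (by omega)
        · rfl
      have c4 : (if (i : ℕ) + 1 = n then g (n - 3) else 0) = 0 := by
        split_ifs with c1
        · exact g0 _ (by omega)
        · rfl
      rw [c2, c4]
      by_cases hik : i = k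
      · rw [if_pos hik, hik, gk]
        norm_num
      · have : (i : ℕ) ≠ k := fun h1 => hik (Fin.ext h1)
        rw [if_neg hik, g0 i this]
        norm_num
    refine mfree_of_table cs h hsl hv k (fun j => g j) 2 (by norm_num) ?_ ?_ ?_
    · intro i hi hik
      rw [hsum i (hmin i hi), if_neg hik]
    · rw [hsum k le_rfl, if_pos rfl]
    · have e1 : ∑ i : Fin n, g i * ∑ j : Fin n, car (mD n i j) * g j = g k * 2 := by
        rw [Finset.sum_eq_single k, hsum k le_rfl, if_pos rfl]
        · intro i _ hik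
          have : (i : ℕ) ≠ k := fun h1 => hik (Fin.ext h1)
          rw [g0 i this, zero_mul]
        · intro h1
          exact absurd (Finset.mem_univ k) h1
      rw [e1, gk]
      norm_num

/-! ### Types `E₆`, `E₇`, `E₈` -/

theorem mfree_E6 [Finite W] (hsl : SL M) {v : Fin 6 ≃ I} (hv : Lab M v (mE 6)) {K : Set I}
    (hK : K.Nonempty) : ∃ k ∈ K, MFree cs h K k := by
  by_cases h4 : v 4 ∈ K
  · exact ⟨_, h4, mfree_of_list cs h hsl hv 4 ![2, 4, 6, 5, 4, 3] 3 (by norm_num) [] (by simp)
      (by decide +kernel) (by decide +kernel) (by decide +kernel)⟩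
  by_cases h3 : v 3 ∈ K
  · exact ⟨_, h3, mfree_of_list cs h hsl hv 3 ![2, 4, 6, 5, 0, 3] 4 (by norm_num) [4] (by simp [h4])
      (by decide +kernel) (by decide +kernel) (by decide +kernel)⟩
  by_cases h2 : v 2 ∈ K
  · exact ⟨_, h2, mfree_of_list cs h hsl hv 2 ![2, 4, 6, 0, 0, 3] 5 (by norm_num) [4, 3] (by simp [h4, h3])
      (by decide +kernel) (by decide +kernel) (by decide +kernel)⟩
  by_cases h1 : v 1 ∈ K
  · exact ⟨_, h1, mfree_of_list cs h hsl hv 1 ![1, 2, 0, 0, 0, 0] 3 (by norm_num) [4, 3, 2] (by simp [h4, h3, h2])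
      (by decide +kernel) (by decide +kernel) (by decide +kernel)⟩
  by_cases h0 : v 0 ∈ K
  · exact ⟨_, h0, mfree_of_list cs h hsl hv 0 ![1, 0, 0, 0, 0, 0] 2 (by norm_num) [4, 3, 2, 1]
      (by simp [h4, h3, h2, h1]) (by decide +kernel) (by decide +kernel) (by decide +kernel)⟩
  by_cases h5 : v 5 ∈ K
  · exact ⟨_, h5, mfree_of_list cs h hsl hv 5 ![0, 0, 0, 0, 0, 1] 2 (by norm_num) [4, 3, 2, 1, 0]
      (by simp [h4, h3, h2, h1, h0]) (by decide +kernel) (by decide +kernel) (by decide +kernel)⟩
  exfalso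
  obtain ⟨a, ha⟩ := hK
  obtain ⟨i, rfl⟩ := v.surjective a
  fin_cases i
  · exact h0 ha
  · exact h1 ha
  · exact h2 ha
  · exact h3 ha
  · exact h4 ha
  · exact h5 ha

theorem mfree_E7 [Finite W] (hsl : SL M) {v : Fin 7 ≃ I} (hv : Lab M v (mE 7)) {K : Set I}
    (hK : K.Nonempty) : ∃ k ∈ K, MFree cs h K k := by
  by_cases h5 : v 5 ∈ K
  · exact ⟨_, h5, mfree_of_list cs h hsl hv 5 ![2, 4, 6, 5, 4, 3, 3] 2 (by norm_num) [] (by simp)
      (by decide +kernel) (by decide +kernel) (by decide +kernel)⟩
  by_cases h4 : v 4 ∈ K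
  · exact ⟨_, h4, mfree_of_list cs h hsl hv 4 ![2, 4, 6, 5, 4, 0, 3] 3 (by norm_num) [5] (by simp [h5])
      (by decide +kernel) (by decide +kernel) (by decide +kernel)⟩
  by_cases h3 : v 3 ∈ K
  · exact ⟨_, h3, mfree_of_list cs h hsl hv 3 ![2, 4, 6, 5, 0, 0, 3] 4 (by norm_num) [5, 4] (by simp [h5, h4])
      (by decide +kernel) (by decide +kernel) (by decide +kernel)⟩
  by_cases h2 : v 2 ∈ K
  · exact ⟨_, h2, mfree_of_list cs h hsl hv 2 ![2, 4, 6, 0, 0, 0, 3] 5 (by norm_num) [5, 4, 3]
      (by simp [h5, h4, h3]) (by decide +kernel) (by decide +kernel) (by decide +kernel)⟩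
  by_cases h1 : v 1 ∈ K
  · exact ⟨_, h1, mfree_of_list cs h hsl hv 1 ![1, 2, 0, 0, 0, 0, 0] 3 (by norm_num) [5, 4, 3, 2]
      (by simp [h5, h4, h3, h2]) (by decide +kernel) (by decide +kernel) (by decide +kernel)⟩
  by_cases h0 : v 0 ∈ K
  · exact ⟨_, h0, mfree_of_list cs h hsl hv 0 ![1, 0, 0, 0, 0, 0, 0] 2 (by norm_num) [5, 4, 3, 2, 1]
      (by simp [h5, h4, h3, h2, h1]) (by decide +kernel) (by decide +kernel) (by decide +kernel)⟩
  by_cases h6 : v 6 ∈ K
  · exact ⟨_, h6, mfree_of_list cs h hsl hv 6 ![0, 0, 0, 0, 0, 0, 1] 2 (by norm_num) [5, 4, 3, 2, 1, 0]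
      (by simp [h5, h4, h3, h2, h1, h0]) (by decide +kernel) (by decide +kernel) (by decide +kernel)⟩
  exfalso
  obtain ⟨a, ha⟩ := hK
  obtain ⟨i, rfl⟩ := v.surjective a
  fin_cases i
  · exact h0 ha
  · exact h1 ha
  · exact h2 ha
  · exact h3 ha
  · exact h4 ha
  · exact h5 ha
  · exact h6 ha

theorem mfree_E8 [Finite W] (hsl : SL M) {v : Fin 8 ≃ I} (hv : Lab M v (mE 8)) {K : Set I}
    (hK : K.Nonempty) (hKu : K ≠ Set.univ) : ∃ k ∈ K, MFree cs h K k := by
  by_cases h6 : v 6 ∈ K
  · refine ⟨_, h6, ?_⟩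
    obtain ⟨a, ha⟩ : ∃ a, a ∉ K := by
      by_contra hcon
      push Not at hcon
      exact hKu (Set.eq_univ_of_forall hcon)
    obtain ⟨i, rfl⟩ := v.surjective a
    fin_cases i
    · exact mfree_of_list cs h hsl hv 6 ![0, 1, 2, 2, 2, 2, 2, 1] 2 (by norm_num) [0] (by simpa using ha)
        (by decide +kernel) (by decide +kernel) (by decide +kernel)
    · exact mfree_of_list cs h hsl hv 6 ![0, 0, 2, 3, 4, 5, 6, 1] 7 (by norm_num) [1] (by simpa using ha)
        (by decide +kernel) (by decide +kernel) (by decide +kernel)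
    · exact mfree_of_list cs h hsl hv 6 ![0, 0, 0, 1, 2, 3, 4, 0] 5 (by norm_num) [2] (by simpa using ha)
        (by decide +kernel) (by decide +kernel) (by decide +kernel)
    · exact mfree_of_list cs h hsl hv 6 ![0, 0, 0, 0, 1, 2, 3, 0] 4 (by norm_num) [3] (by simpa using ha)
        (by decide +kernel) (by decide +kernel) (by decide +kernel)
    · exact mfree_of_list cs h hsl hv 6 ![0, 0, 0, 0, 0, 1, 2, 0] 3 (by norm_num) [4] (by simpa using ha)
        (by decide +kernel) (by decide +kernel) (by decide +kernel)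
    · exact mfree_of_list cs h hsl hv 6 ![0, 0, 0, 0, 0, 0, 1, 0] 2 (by norm_num) [5] (by simpa using ha)
        (by decide +kernel) (by decide +kernel) (by decide +kernel)
    · exact absurd h6 ha
    · exact mfree_of_list cs h hsl hv 6 ![1, 2, 3, 4, 5, 6, 7, 0] 8 (by norm_num) [7] (by simpa using ha)
        (by decide +kernel) (by decide +kernel) (by decide +kernel)
  by_cases h5 : v 5 ∈ K
  · exact ⟨_, h5, mfree_of_list cs h hsl hv 5 ![2, 4, 6, 5, 4, 3, 0, 3] 2 (by norm_num) [6] (by simp [h6])
      (by decide +kernel) (by decide +kernel) (by decide +kernel)⟩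
  by_cases h4 : v 4 ∈ K
  · exact ⟨_, h4, mfree_of_list cs h hsl hv 4 ![2, 4, 6, 5, 4, 0, 0, 3] 3 (by norm_num) [6, 5] (by simp [h6, h5])
      (by decide +kernel) (by decide +kernel) (by decide +kernel)⟩
  by_cases h3 : v 3 ∈ K
  · exact ⟨_, h3, mfree_of_list cs h hsl hv 3 ![2, 4, 6, 5, 0, 0, 0, 3] 4 (by norm_num) [6, 5, 4]
      (by simp [h6, h5, h4]) (by decide +kernel) (by decide +kernel) (by decide +kernel)⟩
  by_cases h2 : v 2 ∈ K
  · exact ⟨_, h2, mfree_of_list cs h hsl hv 2 ![2, 4, 6, 0, 0, 0, 0, 3] 5 (by norm_num) [6, 5, 4, 3]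
      (by simp [h6, h5, h4, h3]) (by decide +kernel) (by decide +kernel) (by decide +kernel)⟩
  by_cases h1 : v 1 ∈ K
  · exact ⟨_, h1, mfree_of_list cs h hsl hv 1 ![1, 2, 0, 0, 0, 0, 0, 0] 3 (by norm_num) [6, 5, 4, 3, 2]
      (by simp [h6, h5, h4, h3, h2]) (by decide +kernel) (by decide +kernel) (by decide +kernel)⟩
  by_cases h0 : v 0 ∈ K
  · exact ⟨_, h0, mfree_of_list cs h hsl hv 0 ![1, 0, 0, 0, 0, 0, 0, 0] 2 (by norm_num) [6, 5, 4, 3, 2, 1]
      (by simp [h6, h5, h4, h3, h2, h1]) (by decide +kernel) (by decide +kernel) (by decide +kernel)⟩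
  by_cases h7 : v 7 ∈ K
  · exact ⟨_, h7, mfree_of_list cs h hsl hv 7 ![0, 0, 0, 0, 0, 0, 0, 1] 2 (by norm_num) [6, 5, 4, 3, 2, 1, 0]
      (by simp [h6, h5, h4, h3, h2, h1, h0]) (by decide +kernel) (by decide +kernel) (by decide +kernel)⟩
  exfalso
  obtain ⟨a, ha⟩ := hK
  obtain ⟨i, rfl⟩ := v.surjective a
  fin_cases i
  · exact h0 ha
  · exact h1 ha
  · exact h2 ha
  · exact h3 ha
  · exact h4 ha
  · exact h5 ha
  · exact h6 ha
  · exact h7 ha

/-! ### The general statement -/

theorem not_lab_C {I : Type*} {M : CoxeterMatrix I} (hsl : SL M) {n : ℕ} (hn : 3 ≤ n) {v : Fin n ≃ I}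
    (hv : Lab M v (mC n)) : False := by
  have h1 := hv ⟨n - 2, by omega⟩ ⟨n - 1, by omega⟩
  have h2 : mC n (n - 2) (n - 1) = 4 := by
    unfold mC
    rw [if_neg (by omega), if_pos (by omega), if_pos (by omega)]
  rw [h2] at h1
  have h3 : v ⟨n - 2, by omega⟩ ≠ v ⟨n - 1, by omega⟩ := by
    intro h4
    have := congrArg Fin.val (v.injective h4)
    simp only at this
    omega
  rcases hsl _ _ h3 with h4 | h4 <;> omega

theorem not_lab_F {I : Type*} {M : CoxeterMatrix I} (hsl : SL M) {v : Fin 4 ≃ I} (hv : Lab M v mF) :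
    False := by
  have h1 := hv 1 2
  have h2 : mF ((1 : Fin 4) : ℕ) ((2 : Fin 4) : ℕ) = 4 := by decide
  rw [h2] at h1
  have h3 : v 1 ≠ v 2 := fun h4 => absurd (v.injective h4) (by decide)
  rcases hsl _ _ h3 with h4 | h4 <;> omega

/-- (f) every proper nonempty set of nodes contains a multiplicity free node -/
theorem exists_mfree [Finite W] (hsl : SL M)
    (hconn : ∀ J : Set I, J.Nonempty → Jᶜ.Nonempty → ∃ a ∈ J, ∃ b ∈ Jᶜ, M a b ≠ 2)
    (h3 : 3 ≤ Fintype.card I) {K : Set I} (hK : K.Nonempty) (hKu : K ≠ Set.univ) :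
    ∃ k ∈ K, MFree cs h K k := by
  have h5 : ∀ a b : I, M a b ≠ 5 := by
    intro a b hab
    by_cases hne : a = b
    · subst hne
      rw [M.diagonal] at hab
      omega
    · rcases hsl a b hne with h1 | h1 <;> omega
  rcases classify_coxeter cs h5 hconn h3 with ⟨n, v, hn, hv⟩ | ⟨n, v, hn, hv⟩ | ⟨n, v, hn, hv⟩ | ⟨v, hv⟩ |
    ⟨v, hv⟩ | ⟨v, hv⟩ | ⟨v, hv⟩
  · exact mfree_A cs h hsl hv hK
  · exact (not_lab_C hsl hn hv).elim
  · exact mfree_D cs h hsl hn hv hK
  · exact mfree_E6 cs h hsl hv hK
  · exact mfree_E7 cs h hsl hv hK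
  · exact mfree_E8 cs h hsl hv hK hKu
  · exact (not_lab_F hsl hv).elim

/-- (f) for the set of all nodes, type different from `E₈` -/
theorem exists_mfree' [Finite W] (hsl : SL M)
    (hconn : ∀ J : Set I, J.Nonempty → Jᶜ.Nonempty → ∃ a ∈ J, ∃ b ∈ Jᶜ, M a b ≠ 2)
    (h3 : 3 ≤ Fintype.card I) (h8 : ∀ v : Fin 8 ≃ I, ¬ Lab M v (mE 8)) {K : Set I} (hK : K.Nonempty) :
    ∃ k ∈ K, MFree cs h K k := by
  have h5 : ∀ a b : I, M a b ≠ 5 := by
    intro a b hab
    by_cases hne : a = b
    · subst hne
      rw [M.diagonal] at hab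
      omega
    · rcases hsl a b hne with h1 | h1 <;> omega
  rcases classify_coxeter cs h5 hconn h3 with ⟨n, v, hn, hv⟩ | ⟨n, v, hn, hv⟩ | ⟨n, v, hn, hv⟩ | ⟨v, hv⟩ |
    ⟨v, hv⟩ | ⟨v, hv⟩ | ⟨v, hv⟩
  · exact mfree_A cs h hsl hv hK
  · exact (not_lab_C hsl hn hv).elim
  · exact mfree_D cs h hsl hn hv hK
  · exact mfree_E6 cs h hsl hv hK
  · exact mfree_E7 cs h hsl hv hK
  · exact (h8 v hv).elim
  · exact (not_lab_F hsl hv).elim

end Cfsg.Agent.ParSys.Wt.RootComb
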