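import Mathlib
import Cfsg.Agent.ParSys.Wt.Count
import Cfsg.Agent.ParSys.Wt.MFree
import Cfsg.Agent.ParSys.Wt.Deg

/-!
# THEOREM W: the characters of an honest unipotent group, and nondegeneracy
-/

set_option autoImplicit false
set_option linter.unusedSectionVars false

namespace Cfsg.Agent.ParSys.Wt.Hom

open Cfsg.Agent.ParSys Cfsg.Agent.ParSys.Free Cfsg.Agent.Tits.Core Cfsg.Agent.Tits.Exchange
  Cfsg.Agent.ChevalleyStructure.CoxeterGeom Cfsg.Agent.Tits.Roots Cfsg.Agent.ParSys.Wt.RootComb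
  Cfsg.Agent.ParSys.Wt.W2 Cfsg.Agent.Tits.RootComb

variable {C I G : Type*} [Group G] [Finite G] [MulAction G C] [Finite C] {Ad : I → C → C → Prop}
  [Fintype I] [DecidableEq I] {M : CoxeterMatrix I} {W : Type*} [Group W] [Finite W]
  {cs : CoxeterSystem M W} {A : I → I → ℤ} (h : IsCartan M A)

include h in
theorem length_lt_of_notMem {J : Set I} {k : I} (hk : k ∉ J) {y : W} (hy : y ∈ WJ cs J) :
    cs.length y < cs.length (cs.simple k * y) := by
  have h1 : cs.length y⁻¹ < cs.length (y⁻¹ * cs.simple k) := by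
    rw [lt_iff' cs h]
    rcases (((isRoot_sr cs h k).act y⁻¹)).pos_or_neg with h2 | h2
    · exact h2
    · exfalso
      have h3 : rep cs h y⁻¹ (sr k) k = 1 := by
        rw [rep_apply_of_mem cs h (inv_mem hy) _ hk, sr_self]
      have := h2 k
      rw [h3] at this
      exact absurd this (by simp)
  rw [cs.length_inv, ← cs.length_inv (y⁻¹ * cs.simple k), mul_inv_rev, CoxeterSystem.inv_simple, inv_inv] at h1
  exact h1

variable (H : Sy G cs Ad)

include h H in
/-- root elements at the base chamber -/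
theorem exists_root {K : Set I} (hK : Hon G cs Ad K) (c : C) {k : I} (hk : k ∈ K) :
    ∃ u : G, u ∈ Fix G Ad (K \ {k}) c ∧ lam Ad k c u = 1 ∧ ∀ j ∈ K, j ≠ k → lam Ad j c u = 0 := by
  obtain ⟨a, ha, hgl⟩ := exists_apt H hK c
  obtain ⟨u, hu1, hu2, hu3⟩ := ha.root k hk
  have hJ : Hon G cs Ad (K \ {k}) := hK.mono Set.sdiff_subset
  have hL := isLongest_wJ cs (K \ {k})
  have hLK : wJ cs (K \ {k}) ∈ WJ cs K := WJ_mono cs Set.sdiff_subset hL.1
  refine ⟨u, ?_, ?_, ?_⟩
  · intro x hx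
    refine Hon.opp_fix H hJ (hgl _ hLK) hu1 (hu2 _ hLK ?_) hx
    exact length_lt_of_notMem h (fun hk' => hk'.2 rfl) hL.1
  · have h1 := ha.adj 1 (one_mem _) k hk
    rw [ha.one, one_mul] at h1
    refine CS.lam_one_of_ne h1 (hu3 _ (simple_mem_WJ cs hk) ?_)
    rw [cs.simple_mul_simple_self, cs.length_one, cs.length_simple]
    exact one_pos
  · intro j hj hjk
    have h1 := ha.adj 1 (one_mem _) j hj
    rw [ha.one, one_mul] at h1
    refine H.lam_zero_of_fix hu1 h1 (hu2 _ (simple_mem_WJ cs hj) ?_)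
    exact length_lt_of_notMem (J := {j}) h (fun hk' => hjk (Set.mem_singleton_iff.1 hk').symm)
      (simple_mem_WJ cs (Set.mem_singleton j))

/-- a character of the stabiliser of `c` -/
def IsCh (G : Type*) [Group G] {C : Type*} [MulAction G C] (c : C) (χ : G → ZMod 2) : Prop :=
  ∀ g k : G, g • c = c → k • c = c → χ (g * k) = χ g + χ k

theorem IsCh.one {c : C} {χ : G → ZMod 2} (hχ : IsCh G c χ) : χ 1 = 0 := by
  have h1 := hχ 1 1 (one_smul G c) (one_smul G c)
  rw [one_mul] at h1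
  have : ∀ x : ZMod 2, x = x + x → x = 0 := by decide
  exact this _ h1

theorem IsCh.inv {c : C} {χ : G → ZMod 2} (hχ : IsCh G c χ) {g : G} (hg : g • c = c) : χ g⁻¹ = χ g := by
  have h1 := hχ g g⁻¹ hg (by rw [inv_smul_eq_iff, hg])
  rw [mul_inv_cancel, hχ.one] at h1
  have : ∀ x y : ZMod 2, 0 = x + y → y = x := by decide
  exact this _ _ h1

theorem isCh_lam {cs : CoxeterSystem M W} (H : Sy G cs Ad) (c : C) (i : I) : IsCh G c (lam Ad i c) :=
  fun _ _ hg hk => H.lam_mul hg hk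

variable (hsl : SL M) {K : Set I} {k : I} (hk : k ∈ K) {c : C}

include h hsl H hk in
/-- in a multiplicity free situation the common kernel of the functionals is `Fix K c` -/
theorem ker_eq (hK : Hon G cs Ad K) (hmf : MFree cs h K k) {a : W → C} (ha : Apt G cs Ad (K \ {k}) c a)
    {q : G} (hq : q ∈ Fix G Ad (K \ {k}) c) (hker : ∀ β ∈ Psi cs h K k, lamP cs h Ad K k a β q = 0) :
    q ∈ Fix G Ad K c := by
  classical
  have hJ : Hon G cs Ad (K \ {k}) := hK.mono Set.sdiff_subset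
  obtain ⟨q0, hq0, hq0l, -⟩ := exists_root h H hK c hk
  -- the kernel
  let N : Subgroup G := {
    carrier := {q | q ∈ Fix G Ad (K \ {k}) c ∧ ∀ β ∈ Psi cs h K k, lamP cs h Ad K k a β q = 0}
    one_mem' := by
      refine ⟨one_mem _, fun β hβ => ?_⟩
      obtain ⟨y, hy, he⟩ := (mem_Psi_iff hsl hk).1 hβ
      rw [he, lamP_eq h hsl H ha hy (one_mem _), CS.lam_one]
    mul_mem' := by
      rintro p q ⟨hp1, hp2⟩ ⟨hq1, hq2⟩
      refine ⟨mul_mem hp1 hq1, fun β hβ => ?_⟩
      rw [lamP_mul h hsl H hk ha hβ hp1 hq1, hp2 β hβ, hq2 β hβ, add_zero]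
    inv_mem' := by
      rintro p ⟨hp1, hp2⟩
      refine ⟨inv_mem hp1, fun β hβ => ?_⟩
      rw [lamP_inv h hsl H hk ha hβ hp1, hp2 β hβ] }
  have hle : Fix G Ad K c ≤ N := by
    intro q hq
    have hq' := Fix_mono (G := G) (Ad := Ad) (Set.sdiff_subset : K \ {k} ⊆ K) c hq
    refine ⟨hq', fun β hβ => ?_⟩
    obtain ⟨y, hy, he⟩ := (mem_Psi_iff hsl hk).1 hβ
    rw [he, lamP_eq h hsl H ha hy hq', lam_eq_zero]
    intro d hd
    exact hq d ((InRes.mono Set.sdiff_subset (ha.inRes hy)).trans (Relation.ReflTransGen.single ⟨k, hk, hd⟩))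
  have h1 : 2 ^ Nat.card (Psi cs h K k) * Nat.card N ≤ Nat.card (Fix G Ad (K \ {k}) c) := by
    have key : ∀ φ : Psi cs h K k → ZMod 2, ∃ q ∈ (⊤ : Subgroup G), q ∈ Fix G Ad (K \ {k}) c ∧
        ∀ β : Psi cs h K k, lamP cs h Ad K k a β q = φ β := fun φ =>
      exists_of_fun h hsl H hk ha (fun _ _ _ _ => Subgroup.mem_top _) hq0 hq0l φ (Or.inr (Subgroup.mem_top _))
    choose g _ hg1 hg2 using key
    have e : 2 ^ Nat.card (Psi cs h K k) = Nat.card (Psi cs h K k → ZMod 2) := by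
      rw [Nat.card_fun, Nat.card_zmod]
    rw [e, ← Nat.card_prod]
    refine Nat.card_le_card_of_injective (fun x : (Psi cs h K k → ZMod 2) × N =>
      (⟨g x.1 * x.2, mul_mem (hg1 _) x.2.2.1⟩ : Fix G Ad (K \ {k}) c)) ?_
    rintro ⟨φ, n⟩ ⟨ψ, n'⟩ he
    have he' : g φ * n = g ψ * n' := congrArg Subtype.val he
    have e1 : φ = ψ := by
      funext β
      have h5 : lamP cs h Ad K k a β (g φ * n) = lamP cs h Ad K k a β (g ψ * n') := by rw [he']
      rw [lamP_mul h hsl H hk ha β.2 (hg1 _) n.2.1, lamP_mul h hsl H hk ha β.2 (hg1 _) n'.2.1, hg2, hg2,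
        n.2.2 β β.2, n'.2.2 β β.2, add_zero, add_zero] at h5
      exact h5
    subst e1
    have e3 : n = n' := Subtype.ext (mul_left_cancel he')
    rw [e3]
  have h2 := Count.card_ge H hJ c
  have h3 := Count.card_le H hK c
  have h4 := card_Psi cs h hmf
  have h5 : Nat.card N ≤ Nat.card (Fix G Ad K c) := by
    have h6 : 2 ^ cs.length (wJ cs K) * Nat.card N ≤ 2 ^ cs.length (wJ cs K) * Nat.card (Fix G Ad K c) := by
      calc 2 ^ cs.length (wJ cs K) * Nat.card N
          = 2 ^ cs.length (wJ cs (K \ {k})) * (2 ^ Nat.card (Psi cs h K k) * Nat.card N) := by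
            rw [← h4, pow_add]; ring
        _ ≤ 2 ^ cs.length (wJ cs (K \ {k})) * Nat.card (Fix G Ad (K \ {k}) c) := Nat.mul_le_mul_left _ h1
        _ ≤ Nat.card (MulAction.stabilizer G c) := h2
        _ ≤ _ := h3
    exact Nat.le_of_mul_le_mul_left h6 (by positivity)
  have h6 : Fix G Ad K c = N := Subgroup.eq_of_le_of_card_ge hle h5
  rw [h6]
  exact ⟨hq, hker⟩

include h hsl H in
/-- (M2) -/
theorem ch_eq_zero (hK : Hon G cs Ad K) (hmf : MFree cs h K k) (hk : k ∈ K) {χ : G → ZMod 2} (hχ : IsCh G c χ)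
    (h0 : ∀ g ∈ Fix G Ad K c, χ g = 0) {q : G} (hq : q ∈ Fix G Ad (K \ {k}) c) (hl : lam Ad k c q = 0) :
    χ q = 0 := by
  have hJ : Hon G cs Ad (K \ {k}) := hK.mono Set.sdiff_subset
  obtain ⟨q0, hq0, hq0l, -⟩ := exists_root h H hK c hk
  obtain ⟨a, ha, -⟩ := exists_apt H hJ c
  let V : Subgroup G := {
    carrier := {g | g • c = c ∧ χ g = 0}
    one_mem' := ⟨one_smul G c, hχ.one⟩
    mul_mem' := by
      rintro p q ⟨hp1, hp2⟩ ⟨hq1, hq2⟩
      exact ⟨by rw [mul_smul, hq1, hp1], by rw [hχ p q hp1 hq1, hp2, hq2, add_zero]⟩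
    inv_mem' := by
      rintro p ⟨hp1, hp2⟩
      exact ⟨by rw [inv_smul_eq_iff, hp1], by rw [hχ.inv hp1, hp2]⟩ }
  have hV : ∀ u q : G, u • c = c → q ∈ Fix G Ad (K \ {k}) c → u⁻¹ * q * u * q⁻¹ ∈ V := by
    intro u q hu hq
    have hqc := Fix_le hq
    have hu' : u⁻¹ • c = c := by rw [inv_smul_eq_iff, hu]
    have hq' : q⁻¹ • c = c := by rw [inv_smul_eq_iff, hqc]
    have e1 : (u⁻¹ * q) • c = c := by rw [mul_smul, hqc, hu']
    have e2 : (u⁻¹ * q * u) • c = c := by rw [mul_smul, hu, e1]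
    refine ⟨by rw [mul_smul, hq', e2], ?_⟩
    rw [hχ _ _ e2 hq', hχ _ _ e1 hu, hχ _ _ hu' hqc, hχ.inv hu, hχ.inv hqc]
    have : ∀ x y : ZMod 2, x + y + x + y = 0 := by decide
    exact this _ _
  have hbase : lamP cs h Ad K k a (sr k) q = lam Ad k c q := by
    have := lamP_eq h hsl H ha (one_mem _) hq
    rwa [map_one, Module.End.one_apply, ha.one] at this
  obtain ⟨v, hvV, hv1, hv2⟩ := exists_of_fun h hsl H hk ha hV hq0 hq0l
    (fun β => lamP cs h Ad K k a β q) (Or.inl (by rw [← hl, ← hbase]))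
  have h1 : q * v⁻¹ ∈ Fix G Ad K c := by
    refine ker_eq h H hsl hk hK hmf ha (mul_mem hq (inv_mem hv1)) fun β hβ => ?_
    rw [lamP_mul h hsl H hk ha hβ hq (inv_mem hv1), lamP_inv h hsl H hk ha hβ hv1, hv2 ⟨β, hβ⟩]
    have : ∀ x : ZMod 2, x + x = 0 := by decide
    exact this _
  have h2 := h0 _ h1
  rw [hχ _ _ (Fix_le hq) (by rw [inv_smul_eq_iff, hvV.1]), hχ.inv hvV.1, hvV.2, add_zero] at h2
  exact h2

/-- connected diagram -/
def Conn (M : CoxeterMatrix I) : Prop :=
  ∀ J : Set I, J.Nonempty → Jᶜ.Nonempty → ∃ a ∈ J, ∃ b ∈ Jᶜ, M a b ≠ 2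

include h hsl H in
/-- **the characters of `B / Q_K`** -/
theorem exists_coeff (hconn : Conn M) (h3 : 3 ≤ Fintype.card I) (c : C) (n : ℕ) : ∀ K : Set I, K.ncard = n →
    K ≠ Set.univ → Hon G cs Ad K → ∀ χ : G → ZMod 2, IsCh G c χ → (∀ g ∈ Fix G Ad K c, χ g = 0) →
    ∃ ε : I → ZMod 2, (∀ i, i ∉ K → ε i = 0) ∧ ∀ g, g • c = c → χ g = ∑ i, ε i * lam Ad i c g := by
  induction n with
  | zero =>
    intro K hn _ _ χ _ h0
    rw [Set.ncard_eq_zero] at hn
    subst hn
    refine ⟨fun _ => 0, fun _ _ => rfl, fun g hg => ?_⟩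
    rw [h0 g]
    · simp
    · intro x hx
      have : x = c := by
        induction hx with
        | refl => rfl
        | tail _ hbc _ =>
          obtain ⟨i, hi, -⟩ := hbc
          exact absurd hi (by simp)
      rw [this, hg]
  | succ n ih =>
    intro K hn hKu hK χ hχ h0
    have hne : K.Nonempty := by
      rw [Set.nonempty_iff_ne_empty]
      rintro rfl
      rw [Set.ncard_empty] at hn
      omega
    obtain ⟨k, hk, hmf⟩ := exists_mfree cs h hsl hconn h3 hne hKu
    obtain ⟨q0, hq0, hq0l, -⟩ := exists_root h H hK c hk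
    have hJ : Hon G cs Ad (K \ {k}) := hK.mono Set.sdiff_subset
    set χ' : G → ZMod 2 := fun g => χ g + χ q0 * lam Ad k c g with hχ'
    have hch : IsCh G c χ' := by
      intro g g' hg hg'
      rw [hχ']
      simp only
      rw [hχ g g' hg hg', H.lam_mul hg hg']
      ring
    have h0' : ∀ g ∈ Fix G Ad (K \ {k}) c, χ' g = 0 := by
      intro g hg
      rw [hχ']
      simp only
      have z2 : ∀ x : ZMod 2, x = 0 ∨ x = 1 := by decide
      have hgc := Fix_le hg
      rcases z2 (lam Ad k c g) with h1 | h1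
      · rw [h1, mul_zero, add_zero]
        exact ch_eq_zero h H hsl hK hmf hk hχ h0 hg h1
      · have hq0c := Fix_le hq0
        have h2 : lam Ad k c (g * q0) = 0 := by
          rw [H.lam_mul hgc hq0c, h1, hq0l]
          decide
        have h4 := ch_eq_zero h H hsl hK hmf hk hχ h0 (mul_mem hg hq0) h2
        rw [hχ g q0 hgc hq0c] at h4
        rw [h1, mul_one, h4]
    have hcard : (K \ {k}).ncard = n := by
      have := Set.ncard_sdiff_singleton_add_one hk (Set.toFinite K)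
      omega
    obtain ⟨ε, hε1, hε2⟩ := ih (K \ {k}) hcard (fun he => by
      have : k ∈ K \ {k} := by rw [he]; trivial
      exact this.2 rfl) hJ χ' hch h0'
    refine ⟨fun i => if i = k then χ q0 else ε i, fun i hi => ?_, fun g hg => ?_⟩
    · show (if i = k then χ q0 else ε i) = 0
      rw [if_neg (fun hik : i = k => hi (by rw [hik]; exact hk))]
      exact hε1 i fun hi' => hi hi'.1
    · have h1 := hε2 g hg
      rw [hχ'] at h1
      simp only at h1
      have h2 : ∑ i, (if i = k then χ q0 else ε i) * lam Ad i c g = χ q0 * lam Ad k c g + ∑ i, ε i * lam Ad i c g := by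
        have h3 : ∀ i, (if i = k then χ q0 else ε i) * lam Ad i c g =
            (if i = k then χ q0 * lam Ad k c g else 0) + ε i * lam Ad i c g := by
          intro i
          by_cases hik : i = k
          · subst hik
            rw [if_pos rfl, if_pos rfl, hε1 i (fun hi => hi.2 rfl), zero_mul, add_zero]
          · rw [if_neg hik, if_neg hik, zero_add]
        rw [Finset.sum_congr rfl fun i _ => h3 i, Finset.sum_add_distrib, Finset.sum_ite_eq' Finset.univ k,
          if_pos (Finset.mem_univ k)]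
      rw [h2, ← h1]
      have : ∀ x y : ZMod 2, x = y + (x + y) := by decide
      exact this _ _

end Cfsg.Agent.ParSys.Wt.Hom
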