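import Mathlib
import Cfsg.Agent.ParSys.Wt.Lam
import Cfsg.Agent.ParSys.Free

/-!
# THEOREM W, PAR: parallel panels

If `g` fixes a gallery of reduced type `f` from `c` to `d`, `v` is the product of `f`, `s_k v = v s_i` and `i` is no right
descent of `v`, then the `k`-panel of `c` and the `i`-panel of `d` are opposite and `g` acts on them in the same way.
-/

set_option autoImplicit false

namespace Cfsg.Agent.ParSys.Wt.Par

open Cfsg.Agent.ParSys Cfsg.Agent.ParSys.Free Cfsg.Agent.ParSys.Wt

variable {I : Type*}

theorem reverse_alt (k : ℕ) : ∀ i j : I, i ≠ j → ∃ a b, a ≠ b ∧ ((a = i ∧ b = j) ∨ (a = j ∧ b = i)) ∧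
    (alt j i k).reverse = alt a b k ∧ nxt a b k = i ∧ nxt a b (k + 1) = j := by
  induction k with
  | zero =>
    intro i j h
    exact ⟨i, j, h, Or.inl ⟨rfl, rfl⟩, rfl, rfl, rfl⟩
  | succ k ih =>
    intro i j h
    obtain ⟨a, b, hab, hor, hrev, hn, hn'⟩ := ih j i h.symm
    refine ⟨a, b, hab, hor.symm, ?_, hn', hn⟩
    rw [alt_cons, List.reverse_cons, hrev, alt_snoc, hn]

theorem length_alt (a b : I) (k : ℕ) : (alt a b k).length = k := by
  induction k generalizing a b with
  | zero => rfl
  | succ k ih => rw [alt_cons, List.length_cons, ih]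

variable {M : CoxeterMatrix I} {W : Type*} [Group W] (cs : CoxeterSystem M W)

theorem wordProd_alt (a b : I) : cs.wordProd (alt a b (M a b)) = cs.wordProd (alt b a (M a b)) := by
  have h := (LieExceptional.CoxeterExchange.pow_eq_one_iff (σ := cs.simple) cs.simple_mul_simple_self (x := a) (y := b)
    (M a b)).1 (cs.simple_mul_simple_pow a b)
  rw [alt_eq, alt_eq] at h
  exact h

variable [Finite I] [Finite W]

/-- an element with the left descents `i ≠ j` -/
theorem two_descents {i j : I} (hij : i ≠ j) {w : W} (hi : cs.length (cs.simple i * w) < cs.length w)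
    (hj : cs.length (cs.simple j * w) < cs.length w) :
    ∃ ρ : List I, cs.wordProd (alt i j (M i j) ++ ρ) = w ∧ ρ.length + M i j = cs.length w := by
  have hL : ∀ ω : List I, LieExceptional.CoxeterExchange.wp cs.simple ω = w → cs.length w ≤ ω.length := by
    intro ω hω
    have h1 : cs.wordProd ω = w := hω
    rw [← h1]
    exact cs.length_wordProd_le ω
  have key : ∀ i : I, cs.length (cs.simple i * w) < cs.length w →
      ∃ ω, LieExceptional.CoxeterExchange.wp cs.simple (i :: ω) = w ∧ (i :: ω).length = cs.length w := by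
    intro i hi
    obtain ⟨ω, hω, he⟩ := cs.exists_isReduced (cs.simple i * w)
    have h1 : cs.length (cs.simple i * w) + 1 = cs.length w := by
      rcases cs.length_simple_mul w i with h | h <;> omega
    refine ⟨ω, ?_, ?_⟩
    · have h2 : cs.wordProd (i :: ω) = w := by
        rw [cs.wordProd_cons, ← he, cs.simple_mul_simple_cancel_left]
      exact h2
    · rw [List.length_cons, ← h1, he, hω.eq]
  obtain ⟨ωi, h1, h2⟩ := key i hi
  obtain ⟨ωj, h3, h4⟩ := key j hj
  obtain ⟨-, ρ, h5, h6⟩ := LieExceptional.CoxeterExchange.dihedral (σ := cs.simple) cs.simple_mul_simple_self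
    (Tits.OppRes.Cox.inj (cs := cs)) (exchange cs) hL hij h1 h2 h3 h4
  rw [Tits.Generic.orderOf_eq cs i j] at h5 h6
  rw [alt_eq] at h5
  exact ⟨ρ, h5, h6⟩

/-- the last residue of rank two of a gallery from a panel to an opposite one -/
theorem decomp {i j k : I} (hij : i ≠ j) {v : W} (hk : cs.simple k * v = v * cs.simple i)
    (hi : cs.length v < cs.length (v * cs.simple i)) (hj : cs.length (v * cs.simple j) < cs.length v) :
    ∃ a b f1, a ≠ b ∧ ((a = i ∧ b = j) ∨ (a = j ∧ b = i)) ∧ nxt a b (M a b - 1) = i ∧
      cs.IsReduced (f1 ++ alt a b (M a b - 1)) ∧ cs.wordProd (f1 ++ alt a b (M a b - 1)) = v ∧ cs.IsReduced f1 ∧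
      cs.simple k * cs.wordProd f1 = cs.wordProd f1 * cs.simple b ∧
      cs.length (cs.wordProd f1) < cs.length (cs.wordProd f1 * cs.simple b) ∧ f1.length < cs.length v := by
  set w := v * cs.simple i with hw
  have hlw : cs.length w = cs.length v + 1 := by
    rcases cs.length_mul_simple v i with h | h
    · exact h
    · rw [← hw] at h; omega
  have hwi : cs.length (w * cs.simple i) < cs.length w := by
    rw [hw, cs.simple_mul_simple_cancel_right, ← hw]; omega
  have hwj : cs.length (w * cs.simple j) < cs.length w := by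
    rw [← hk, mul_assoc]
    have h1 := cs.length_mul_le (cs.simple k) (v * cs.simple j)
    rw [cs.length_simple] at h1
    rw [hk, hlw]
    omega
  have hinv : ∀ l : I, cs.length (w * cs.simple l) < cs.length w → cs.length (cs.simple l * w⁻¹) < cs.length w⁻¹ := by
    intro l hl
    have e : cs.simple l * w⁻¹ = (w * cs.simple l)⁻¹ := by rw [mul_inv_rev w (cs.simple l), cs.inv_simple]
    rw [e, cs.length_inv, cs.length_inv]
    exact hl
  obtain ⟨ρ, h1, h2⟩ := two_descents cs hij (hinv i hwi) (hinv j hwj)
  rw [cs.length_inv] at h2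
  obtain ⟨n, hn⟩ : ∃ n, M i j = n + 1 := by
    have h3 : M i j ≠ 0 := by
      rw [← Tits.Generic.orderOf_eq cs i j]
      exact (orderOf_pos _).ne'
    exact ⟨M i j - 1, by omega⟩
  have hn0 : n ≠ 0 := by
    rintro rfl
    exact M.off_diagonal i j hij hn
  obtain ⟨a, b, hab, hor, hrev, hnx, hnx'⟩ := reverse_alt n i j hij
  have hMab : M a b = n + 1 := by
    rcases hor with ⟨rfl, rfl⟩ | ⟨rfl, rfl⟩
    · exact hn
    · rw [M.symmetric]; exact hn
  have hv : cs.wordProd (ρ.reverse ++ alt a b n) = v := by
    have e1 : w = cs.wordProd (ρ.reverse ++ alt a b n) * cs.simple i := by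
      have h3 : w = (cs.wordProd (alt i j (M i j) ++ ρ))⁻¹ := by rw [h1, inv_inv]
      rw [h3, ← cs.wordProd_reverse, List.reverse_append, hn, alt_cons, List.reverse_cons, hrev, ← List.append_assoc,
        cs.wordProd_append _ [i], cs.wordProd_singleton]
    rw [hw] at e1
    exact (mul_right_cancel e1).symm
  have hlen : (ρ.reverse ++ alt a b n).length = cs.length v := by
    rw [List.length_append, List.length_reverse, length_alt]
    omega
  have hred : cs.IsReduced (ρ.reverse ++ alt a b n) := by
    show cs.length _ = _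
    rw [hv, hlen]
  have hred1 : cs.IsReduced ρ.reverse := by
    have := hred.take ρ.reverse.length
    rwa [List.take_left] at this
  refine ⟨a, b, ρ.reverse, hab, hor, ?_, ?_, ?_, hred1, ?_, ?_, ?_⟩
  · rw [hMab]; exact hnx
  · rw [hMab]; exact hred
  · rw [hMab]; exact hv
  · have e1 : v * cs.simple i = cs.wordProd ρ.reverse * cs.wordProd (alt a b (M a b)) := by
      rw [← hv, hMab, alt_snoc, hnx, cs.wordProd_append, cs.wordProd_append, cs.wordProd_singleton, mul_assoc]
    rw [wordProd_alt, hMab, alt_cons, cs.wordProd_cons, ← hw, ← hk, ← hv, cs.wordProd_append, ← mul_assoc,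
      ← mul_assoc] at e1
    exact mul_right_cancel e1
  · have e1 : w = cs.wordProd ρ.reverse * cs.simple b * cs.wordProd (alt a b n) := by
      have e2 : w = cs.wordProd ρ.reverse * cs.wordProd (alt a b (M a b)) := by
        rw [hw, ← hv, hMab, alt_snoc, hnx, cs.wordProd_append, cs.wordProd_append, cs.wordProd_singleton, mul_assoc]
      rw [e2, wordProd_alt, hMab, alt_cons, cs.wordProd_cons, mul_assoc]
    have h3 := cs.length_mul_le (cs.wordProd ρ.reverse * cs.simple b) (cs.wordProd (alt a b n))
    have h4 := cs.length_wordProd_le (alt a b n)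
    rw [length_alt] at h4
    rw [← e1] at h3
    have h5 := hred1.eq
    rw [List.length_reverse] at h5
    omega
  · rw [← hlen, List.length_append, length_alt]
    omega

section gal

variable {C X : Type*} {A : I → C → C → Prop}

/-- **PAR**, for an arbitrary function `L` on the panels which takes the same values on opposite panels of the residues of
rank two -/
theorem par_gen (hC : Cham A (fun i j => M i j)) {g : C → C} (hg : ∀ i c d, A i c d → A i (g c) (g d)) (L : I → C → X)
    (opp : ∀ a b, a ≠ b → ∀ c d, FG A g (alt a b (M a b - 1)) c d → L b c = L (nxt a b (M a b - 1)) d)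
    {f : List I} (hf : cs.IsReduced f) {i k : I}
    (hk : cs.simple k * cs.wordProd f = cs.wordProd f * cs.simple i)
    (hi : cs.length (cs.wordProd f) < cs.length (cs.wordProd f * cs.simple i)) {c d : C} (h : FG A g f c d) :
    L k c = L i d := by
  induction hn : f.length using Nat.strong_induction_on generalizing f i d with
  | _ n ih =>
    rcases List.eq_nil_or_concat' f with rfl | ⟨f', j, rfl⟩
    · obtain ⟨-, rfl⟩ := fg_nil.1 h
      rw [cs.wordProd_nil, mul_one, one_mul] at hk
      rw [(Tits.OppRes.Cox.inj (cs := cs)) hk]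
    · have hj : cs.length (cs.wordProd (f' ++ [j]) * cs.simple j) < cs.length (cs.wordProd (f' ++ [j])) := by
        rw [cs.wordProd_append, cs.wordProd_singleton, cs.simple_mul_simple_cancel_right, ← cs.wordProd_singleton,
          ← cs.wordProd_append, hf.eq]
        have := cs.length_wordProd_le f'
        rw [List.length_append, List.length_singleton]
        omega
      have hij : i ≠ j := by
        rintro rfl
        omega
      obtain ⟨a, b, f1, hab, -, hnx, hred, hprod, hred1, h1, h2, h3⟩ := decomp cs hij hk hi hj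
      have hbr := br_of_reduced cs hf hred hprod.symm
      obtain ⟨e, h4, h5⟩ := fg_append.1 (FG.br hC hg hbr h)
      rw [hf.eq] at h3
      have h6 := ih f1.length (by omega) hred1 h1 h2 h4 rfl
      rw [h6, opp a b hab e d h5, hnx]

/-- **PAR** for simply laced diagrams -/
theorem par {G : Type*} [Group G] [MulAction G C] (h : CS G A (fun i j => M i j))
    (hl : ∀ i j, i ≠ j → M i j = 2 ∨ M i j = 3) {g : G} {f : List I} (hf : cs.IsReduced f) {i k : I}
    (hk : cs.simple k * cs.wordProd f = cs.wordProd f * cs.simple i)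
    (hi : cs.length (cs.wordProd f) < cs.length (cs.wordProd f * cs.simple i)) {c d : C}
    (hfg : FG A (fun x => g • x) f c d) : lam A k c g = lam A i d g := by
  refine par_gen cs h.cham (h.act g) (fun i c => lam A i c g) ?_ hf hk hi hfg
  intro a b hab c d hcd
  rcases hl a b hab with hm | hm
  · rw [hm] at hcd ⊢
    obtain ⟨e, ⟨h1, h2⟩, h3⟩ := fg_cons.1 hcd
    obtain ⟨h4, rfl⟩ := fg_nil.1 h3
    exact h.par2 hab hm h2 h1 h4
  · rw [hm] at hcd ⊢
    obtain ⟨e, ⟨h1, h2⟩, h3⟩ := fg_cons.1 hcd
    obtain ⟨e', ⟨h4, h5⟩, h6⟩ := fg_cons.1 h3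
    obtain ⟨h7, rfl⟩ := fg_nil.1 h6
    exact h.par3 hab hm h2 h5 h1 h4 h7

end gal

end Cfsg.Agent.ParSys.Wt.Par
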