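import Mathlib
import Cfsg.Agent.ParSys.Wt.Par
import Cfsg.Agent.ParSys.Wt.RootComb

/-!
# THEOREM W, (W3): one more dimension

`J = {k}ᶜ`, `θ` a root which is orthogonal to `α_s`, `s ≠ k`, and has `⟨θ, α_k⟩ = 1` (`E8`).  If the functionals
`lam k (e β)`, `β` a root with `β k = 1`, are independent on `Q`, `Q` fixes the residue of type `J` of `c`, then `Q` is not
abelian.
-/

set_option autoImplicit false

namespace Cfsg.Agent.ParSys.Wt.E8

open Cfsg.Agent.ParSys Cfsg.Agent.ParSys.Free Cfsg.Agent.ParSys.Wt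
open Cfsg.Agent.ChevalleyStructure.CoxeterGeom Cfsg.Agent.Tits.Roots Cfsg.Agent.Tits.Core Cfsg.Agent.Tits.Exchange
  Cfsg.Agent.ParSys.Wt.RootComb

section comb

variable {I W : Type*} [Fintype I] [DecidableEq I] [Group W] {M : CoxeterMatrix I} (cs : CoxeterSystem M W)
  {A : I → I → ℤ} (h : IsCartan M A)

theorem mul_simple_of_rep {w : W} {i k : I} (hw : rep cs h w (sr i) = sr k) :
    cs.simple k * w = w * cs.simple i := by
  have h1 : cs.length w < cs.length (w * cs.simple i) := by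
    rw [lt_iff' cs h]
    show 0 ≤ rep cs h w (sr i)
    rw [hw]; exact sr_nonneg k
  have h2 : cs.length w < cs.length (cs.simple k * w) := by
    have h3 : cs.length w⁻¹ < cs.length (w⁻¹ * cs.simple k) := by
      rw [lt_iff' cs h]
      show 0 ≤ rep cs h w⁻¹ (sr k)
      rw [← hw, rep_inv_apply]; exact sr_nonneg i
    have e : cs.simple k * w = (w⁻¹ * cs.simple k)⁻¹ := by rw [mul_inv_rev, inv_inv, cs.inv_simple]
    rw [e, cs.length_inv]
    rwa [cs.length_inv] at h3
  have h4 : cs.length (cs.simple k * w * cs.simple i) < cs.length (cs.simple k * w) := by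
    rw [lt_iff cs h]
    show rep cs h (cs.simple k * w) (sr i) ≤ 0
    rw [rep_mul_apply, hw, rep_simple_sr]; exact neg_nonpos.2 (sr_nonneg k)
  have h5 := cs.length_mul_simple w i
  have h6 := cs.length_simple_mul w k
  rcases fold cs (w := w) (i := k) (j := i) (by omega) (by omega) with h7 | h7
  · omega
  · exact h7

theorem length_lt_of_rep {w : W} {i k : I} (hw : rep cs h w (sr i) = sr k) :
    cs.length w < cs.length (w * cs.simple i) := by
  rw [lt_iff' cs h]
  show 0 ≤ rep cs h w (sr i)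
  rw [hw]; exact sr_nonneg k

/-- a positive root made negative by the inverse of a word is crossed by the word -/
theorem exists_split {f : List I} {x : I → ℤ} (hx : IsRoot cs h x) (h0 : 0 ≤ x)
    (h1 : rep cs h (cs.wordProd f)⁻¹ x ≤ 0) :
    ∃ f1 t f2, f = f1 ++ t :: f2 ∧ x = rep cs h (cs.wordProd f1) (sr t) := by
  induction f generalizing x with
  | nil =>
    rw [cs.wordProd_nil, inv_one, map_one, Module.End.one_apply] at h1
    exact absurd h1 (hx.not_pos_neg h0)
  | cons a f ih =>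
    by_cases hxa : x = sr a
    · exact ⟨[], a, f, rfl, by rw [cs.wordProd_nil, map_one, Module.End.one_apply, hxa]⟩
    · obtain ⟨f1, t, f2, rfl, e⟩ := ih (hx.act (cs.simple a)) (hx.simple_nonneg h0 a hxa) (by
        rw [← rep_mul_apply]
        rw [cs.wordProd_cons, mul_inv_rev, cs.inv_simple] at h1
        exact h1)
      refine ⟨a :: f1, t, f2, rfl, ?_⟩
      rw [cs.wordProd_cons, rep_mul_apply, ← e, ← rep_mul_apply, cs.simple_mul_simple_self, map_one,
        Module.End.one_apply]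

/-- the word `f` moves `x` down by simple roots -/
def Ch (x : I → ℤ) (f : List I) : Prop :=
  ∀ f1 t f2, f = f1 ++ t :: f2 → pairing A t (rep cs h (cs.wordProd f1)⁻¹ x) = 1

variable {cs h}

theorem ch_cons {x : I → ℤ} {t : I} {f : List I} (h1 : pairing A t x = 1)
    (h2 : Ch cs h (rep cs h (cs.simple t) x) f) : Ch cs h x (t :: f) := by
  rintro (_ | ⟨a, f1⟩) u f2 hf
  · rw [List.nil_append, List.cons.injEq] at hf
    rw [cs.wordProd_nil, inv_one, map_one, Module.End.one_apply, ← hf.1]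
    exact h1
  · rw [List.cons_append, List.cons.injEq] at hf
    rw [cs.wordProd_cons, mul_inv_rev, cs.inv_simple, rep_mul_apply, ← hf.1]
    exact h2 f1 u f2 hf.2

theorem ch_nil {x : I → ℤ} : Ch cs h x [] := by
  intro f1 t f2 hf
  simp at hf

theorem Ch.left {x : I → ℤ} {f g : List I} (hf : Ch cs h x (f ++ g)) : Ch cs h x f := by
  rintro f1 t f2 rfl
  exact hf f1 t (f2 ++ g) (by simp)

theorem Ch.last {x : I → ℤ} {f : List I} {t : I} (hf : Ch cs h x (f ++ [t])) :
    pairing A t (rep cs h (cs.wordProd f)⁻¹ x) = 1 := hf f t [] rfl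

end comb

section form

variable {I W : Type*} [Fintype I] [DecidableEq I] [Group W] {M : CoxeterMatrix I} {cs : CoxeterSystem M W}
  {A : I → I → ℤ} {h : IsCartan M A}

/-- **descent to height two** -/
theorem descend [Finite W] (hsl : SL M) (n : ℕ) : ∀ x : I → ℤ, IsRoot cs h x → 0 ≤ x → (∀ i, x ≠ sr i) →
    ht x = n → ∃ f i j, i ≠ j ∧ M i j = 3 ∧ Ch cs h x (f ++ [i]) ∧ Ch cs h x (f ++ [j]) := by
  have := Fintype.ofFinite W
  induction n with
  | zero =>
    intro x hx h0 _ hn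
    exfalso
    apply hx.ne_zero
    funext b
    have h1 : ∀ b ∈ Finset.univ, x b = 0 :=
      (Finset.sum_eq_zero_iff_of_nonneg fun b _ => h0 b).1 hn
    exact h1 b (Finset.mem_univ b)
  | succ n ih =>
    intro x hx h0 hs hn
    obtain ⟨t, ht0, htp⟩ := exists_pairing_pos cs h h0 hx.ne_zero
    have h1 : pairing A t x = 1 := by
      have := pairing_le_one (cs := cs) (h := h) hsl hx (hs t)
      omega
    have h2 : rep cs h (cs.simple t) x = x - sr t := by
      rw [rep_simple_eq, h1, one_smul]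
    have h3 := hx.act (cs.simple t)
    have h4 := hx.simple_nonneg h0 t (hs t)
    have h5 : ht (rep cs h (cs.simple t) x) = n := by
      rw [ht_simple, h1, hn]
      push_cast
      ring
    by_cases h6 : ∃ j, rep cs h (cs.simple t) x = sr j
    · obtain ⟨j, hj⟩ := h6
      have h7 : x = sr t + sr j := by
        rw [← hj, h2]; abel
      have htj : t ≠ j := by
        rintro rfl
        have h8 := isUnit_of_smul cs h hx 2 (y := sr t) (by rw [h7, two_smul])
        rw [Int.isUnit_iff] at h8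
        omega
      have h8 : A t j = -1 := by
        have h9 := h1
        rw [h7, pairing_add, sr, sr, pairing_single, pairing_single, h.diag] at h9
        linarith
      refine ⟨[], t, j, htj, label_of_neg_one h hsl h8, ch_cons h1 ch_nil, ch_cons ?_ ch_nil⟩
      rw [h7, pairing_add, sr, sr, pairing_single, pairing_single, h.diag, cartan_symm h hsl, h8]
      norm_num
    · push Not at h6
      obtain ⟨f, i, j, hij, hm, h7, h8⟩ := ih _ h3 h4 h6 h5
      exact ⟨t :: f, i, j, hij, hm, ch_cons h1 h7, ch_cons h1 h8⟩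

variable {θ : I → ℤ} {k : I}

omit [DecidableEq I] in
/-- the coefficient at `k` is the product with `θ` -/
theorem coord (hθ : ∀ s, s ≠ k → pairing A s θ = 0) (hk : pairing A k θ = 1) (b : I → ℤ) : bil A b θ = b k := by
  unfold bil
  rw [Finset.sum_eq_single k]
  · rw [hk, mul_one]
  · intro s _ hs
    rw [hθ s hs, mul_zero]
  · intro h1
    exact absurd (Finset.mem_univ k) h1

/-- the crossed roots have coefficient one at `k` -/
theorem crossed (hsl : SL M) (hθ : ∀ s, s ≠ k → pairing A s θ = 0) (hk : pairing A k θ = 1) {f1 f2 : List I}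
    {t : I} (hf : Ch cs h θ (f1 ++ t :: f2)) : rep cs h (cs.wordProd f1) (sr t) k = 1 := by
  rw [← coord hθ hk (rep cs h (cs.wordProd f1) (sr t))]
  have h1 := bil_rep cs h hsl (cs.wordProd f1) (sr t) (rep cs h (cs.wordProd f1)⁻¹ θ)
  rw [rep_apply_inv] at h1
  rw [h1, bil_sr_left]
  exact hf f1 t f2 rfl

theorem nonneg_of_coord {b : I → ℤ} (hb : IsRoot cs h b) (h1 : b k = 1) : 0 ≤ b := by
  rcases hb.pos_or_neg with h2 | h2
  · exact h2
  · have h3 : b k ≤ (0 : ℤ) := h2 k
    omega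

theorem isRoot_rep (w : W) (i : I) : IsRoot cs h (rep cs h w (sr i)) := ⟨w, i, rfl⟩

theorem Ch.isReduced (hsl : SL M) (hθ : ∀ s, s ≠ k → pairing A s θ = 0) (hk : pairing A k θ = 1)
    {f : List I} (hf : Ch cs h θ f) : cs.IsReduced f := by
  induction f using List.reverseRecOn with
  | nil => show cs.length (cs.wordProd []) = 0; rw [cs.wordProd_nil, cs.length_one]
  | append_singleton f t ih =>
    have h1 := ih hf.left
    have h2 := crossed hsl hθ hk hf
    have h3 := nonneg_of_coord (isRoot_rep _ _) h2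
    have h4 : cs.length (cs.wordProd f) < cs.length (cs.wordProd f * cs.simple t) := (lt_iff' cs h _ _).2 h3
    have h5 := cs.length_mul_simple (cs.wordProd f) t
    show cs.length (cs.wordProd (f ++ [t])) = _
    rw [cs.wordProd_append, cs.wordProd_singleton, List.length_append, List.length_singleton, ← h1.eq]
    omega

theorem Ch.isMinL (hsl : SL M) (hθ : ∀ s, s ≠ k → pairing A s θ = 0) (hk : pairing A k θ = 1)
    {f : List I} (hf : Ch cs h θ f) : IsMinL cs {k}ᶜ (cs.wordProd f) := by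
  rw [isMinL_iff]
  intro s hs
  have hs' : s ≠ k := hs
  have h1 : 0 ≤ rep cs h (cs.wordProd f)⁻¹ (sr s) := by
    rcases (isRoot_rep (h := h) (cs := cs) (cs.wordProd f)⁻¹ s).pos_or_neg with h2 | h2
    · exact h2
    · exfalso
      obtain ⟨f1, t, f2, rfl, h3⟩ := exists_split cs h (isRoot_sr cs h s) (sr_nonneg s) h2
      have h4 := crossed hsl hθ hk hf
      rw [← h3, sr_ne (Ne.symm hs')] at h4
      exact absurd h4 (by decide)
  have h2 : cs.length (cs.wordProd f)⁻¹ < cs.length ((cs.wordProd f)⁻¹ * cs.simple s) := (lt_iff' cs h _ _).2 h1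
  have e : cs.simple s * cs.wordProd f = ((cs.wordProd f)⁻¹ * cs.simple s)⁻¹ := by
    rw [mul_inv_rev, inv_inv, cs.inv_simple]
  rw [e, cs.length_inv]
  rwa [cs.length_inv] at h2

/-- the root of the last letter is not crossed before -/
theorem Ch.ne (hsl : SL M) (hθ : ∀ s, s ≠ k → pairing A s θ = 0) (hk : pairing A k θ = 1)
    {f1 f2 : List I} {t i : I} (hf : Ch cs h θ (f1 ++ t :: f2 ++ [i])) :
    rep cs h (cs.wordProd f1) (sr t) ≠ rep cs h (cs.wordProd (f1 ++ t :: f2)) (sr i) := by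
  intro he
  have h1 := hf.isReduced hsl hθ hk
  rw [cs.wordProd_append, rep_mul_apply] at he
  have h2 := rep_injective_apply cs h _ he
  rw [cs.wordProd_cons, rep_mul_apply] at h2
  have h3 := congrArg (rep cs h (cs.simple t)) h2
  rw [← rep_mul_apply cs h (cs.simple t) (cs.simple t), cs.simple_mul_simple_self, map_one, Module.End.one_apply,
    rep_simple_sr] at h3
  have h4 : cs.IsReduced (f2 ++ [i]) := by
    have h5 := h1.drop (f1.length + 1)
    have e : (f1 ++ t :: f2 ++ [i]).drop (f1.length + 1) = f2 ++ [i] := by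
      rw [List.append_assoc, List.cons_append, ← List.drop_drop, List.drop_left]
      rfl
    rwa [e] at h5
  have h5 : cs.length (cs.wordProd f2) < cs.length (cs.wordProd f2 * cs.simple i) := by
    have h6 := h4.eq
    have h7 := cs.length_wordProd_le f2
    rw [cs.wordProd_append, cs.wordProd_singleton, List.length_append, List.length_singleton] at h6
    omega
  have h6 : 0 ≤ rep cs h (cs.wordProd f2) (sr i) := (lt_iff' cs h _ _).1 h5
  rw [← h3] at h6
  have h7 : (0 : ℤ) ≤ (-sr t : I → ℤ) t := h6 t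
  rw [Pi.neg_apply, sr_self] at h7
  omega

end form

section gal

variable {C G : Type*} [Group G] [MulAction G C]

/-- elements which act on an edge residue like `x_i` and `x_j` do not commute -/
theorem noncomm {I : Type*} {m : I → I → ℕ} {Ad : I → C → C → Prop} (H : CS G Ad m) {i j : I} (hij : i ≠ j)
    (hm : m i j = 3) {d : C} {t1 t2 : G} (h1 : t1 • d = d) (h2 : t2 • d = d) (h3 : lam Ad i d t1 = 1)
    (h4 : lam Ad i d t2 = 0) (h5 : lam Ad j d t2 = 1) : t1 * t2 ≠ t2 * t1 := by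
  intro hc
  obtain ⟨x, x', hne, hx, hx', -⟩ := H.exists_two i d
  have h6 := H.lam_one_eq h1 h3 hx hx' hne
  have h7 := H.fano hij hm hx hx' hne h2 (lam_eq_zero.1 h4 x hx) (lam_eq_zero.1 h4 x' hx')
  have h8 : lam Ad j x' t2 = lam Ad j x t2 := by
    rw [← h6, H.lam_smul, mul_assoc, ← hc, inv_mul_cancel_left]
  rw [h8, h5, add_assoc] at h7
  have z2 : ∀ a : ZMod 2, 1 + (a + a) ≠ 0 := by decide
  exact z2 _ h7

theorem fg_reverse {I : Type*} {Ad : I → C → C → Prop} (hs : ∀ i c d, Ad i c d → Ad i d c) {g : C → C} {f : List I}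
    {c d : C} (hf : FG Ad g f c d) : FG Ad g f.reverse d c := by
  induction f generalizing c with
  | nil =>
    obtain ⟨h1, rfl⟩ := fg_nil.1 hf
    exact fg_nil.2 ⟨h1, rfl⟩
  | cons i f ih =>
    obtain ⟨e, ⟨h1, h2⟩, h3⟩ := fg_cons.1 hf
    rw [List.reverse_cons]
    exact fg_snoc.2 ⟨e, ih h3, hs _ _ _ h2, h1⟩

variable {I W : Type*} [Fintype I] [DecidableEq I] [Group W] [Finite W] {M : CoxeterMatrix I} {cs : CoxeterSystem M W}
  {A : I → I → ℤ} {h : IsCartan M A} {Ad : I → C → C → Prop}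

/-- a transversal of the cosets of the stabiliser of `α_k` in `W_J`: reduced words `y β` in `J` with `y β α_k = β` -/
structure Tv (cs : CoxeterSystem M W) (h : IsCartan M A) (k : I) (y : (I → ℤ) → List I) : Prop where
  red : ∀ β, IsRoot cs h β → β k = 1 → cs.IsReduced (y β)
  ne : ∀ β, IsRoot cs h β → β k = 1 → ∀ s ∈ y β, s ≠ k
  eq : ∀ β, IsRoot cs h β → β k = 1 → rep cs h (cs.wordProd (y β)) (sr k) = β

variable {θ : I → ℤ} {k : I} {y : (I → ℤ) → List I} {e : (I → ℤ) → C} {c : C} {q : G}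

theorem val (H : CS G Ad (fun i j => M i j)) (hsl : SL M)
    (hθ : ∀ s, s ≠ k → pairing A s θ = 0) (hk : pairing A k θ = 1) (hy : Tv cs h k y)
    (he : ∀ β, IsRoot cs h β → β k = 1 → FG Ad (fun x => q • x) (y β) c (e β)) {f : List I} {t : I}
    (hf : Ch cs h θ (f ++ [t])) {d : C} (hfg : FG Ad (fun x => q • x) f c d) :
    lam Ad t d q = lam Ad k (e (rep cs h (cs.wordProd f) (sr t))) q := by
  have hb := crossed hsl hθ hk (f1 := f) (f2 := []) hf
  have hr := isRoot_rep (cs := cs) (h := h) (cs.wordProd f) t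
  set b := rep cs h (cs.wordProd f) (sr t) with hbd
  have h1 := hy.red b hr hb
  have h2 : (cs.wordProd (y b))⁻¹ ∈ WJ cs {k}ᶜ :=
    inv_mem (wordProd_mem_WJ cs fun s hs => hy.ne b hr hb s hs)
  have h3 := (hf.left.isMinL hsl hθ hk) _ h2
  have h4 : cs.wordProd ((y b).reverse ++ f) = (cs.wordProd (y b))⁻¹ * cs.wordProd f := by
    rw [cs.wordProd_append, cs.wordProd_reverse]
  have h5 : cs.IsReduced ((y b).reverse ++ f) := by
    show cs.length _ = _
    rw [h4, h3, cs.length_inv, h1.eq, (hf.left.isReduced hsl hθ hk).eq, List.length_append, List.length_reverse]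
  have h6 : rep cs h (cs.wordProd ((y b).reverse ++ f)) (sr t) = sr k := by
    rw [h4, rep_mul_apply, ← hbd]
    have h8 := rep_inv_apply cs h (cs.wordProd (y b)) (sr k)
    rwa [hy.eq b hr hb] at h8
  have h7 := fg_reverse (Ad := Ad) (fun _ _ _ h => H.cham.symm h) (he b hr hb)
  exact (Par.par cs H hsl h5 (mul_simple_of_rep cs h h6) (length_lt_of_rep cs h h6) (fg_append.2 ⟨c, h7, hfg⟩)).symm

/-- `q` fixes a gallery if it does not move the crossed panels -/
theorem fix_gallery (H : CS G Ad (fun i j => M i j)) (hsl : SL M) (hθ : ∀ s, s ≠ k → pairing A s θ = 0) (hk : pairing A k θ = 1) (hy : Tv cs h k y)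
    (he : ∀ β, IsRoot cs h β → β k = 1 → FG Ad (fun x => q • x) (y β) c (e β)) (hqc : q • c = c) {f : List I}
    (hf : Ch cs h θ f)
    (h0 : ∀ f1 t f2, f = f1 ++ t :: f2 → lam Ad k (e (rep cs h (cs.wordProd f1) (sr t))) q = 0) {d : C}
    (hfg : FG Ad id f c d) : FG Ad (fun x => q • x) f c d := by
  induction f using List.reverseRecOn generalizing d with
  | nil =>
    obtain ⟨-, rfl⟩ := fg_nil.1 hfg
    exact fg_nil.2 ⟨hqc, rfl⟩
  | append_singleton f t ih =>
    obtain ⟨d', h1, h2, -⟩ := fg_snoc.1 hfg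
    have h3 := ih hf.left (fun f1 u f2 hff => h0 f1 u (f2 ++ [t]) (by rw [hff]; simp)) h1
    have h4 := val H hsl hθ hk hy he hf h3
    rw [h0 f t [] rfl] at h4
    exact fg_snoc.2 ⟨d', h3, h2, lam_eq_zero.1 h4 d h2⟩

theorem exists_fg {I : Type*} {Ad : I → C → C → Prop} (hex : ∀ i c, ∃ d, Ad i c d) (f : List I) (c : C) :
    ∃ d, FG Ad id f c d := by
  induction f generalizing c with
  | nil => exact ⟨c, fg_nil.2 ⟨rfl, rfl⟩⟩
  | cons i f ih =>
    obtain ⟨e, he⟩ := hex i c
    obtain ⟨d, hd⟩ := ih e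
    exact ⟨d, fg_cons.2 ⟨e, ⟨rfl, he⟩, hd⟩⟩

/-- **(W3)** -/
theorem exists_noncomm (H : CS G Ad (fun i j => M i j)) (hsl : SL M) (hr : IsRoot cs h θ) (h0 : 0 ≤ θ) (hs : ∀ i, θ ≠ sr i) (hθ : ∀ s, s ≠ k → pairing A s θ = 0)
    (hk : pairing A k θ = 1) (hy : Tv cs h k y) {Q : Subgroup G} (hQc : ∀ q ∈ Q, q • c = c)
    (he : ∀ q ∈ Q, ∀ β, IsRoot cs h β → β k = 1 → FG Ad (fun x => q • x) (y β) c (e β))
    (surj : ∀ φ : (I → ℤ) → ZMod 2, ∃ q ∈ Q, ∀ β, IsRoot cs h β → β k = 1 → lam Ad k (e β) q = φ β) :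
    ∃ t1 ∈ Q, ∃ t2 ∈ Q, t1 * t2 ≠ t2 * t1 := by
  classical
  have hht : (0 : ℤ) ≤ ht θ := Finset.sum_nonneg fun b _ => h0 b
  obtain ⟨f, i, j, hij, hm, hi, hj⟩ := descend (cs := cs) (h := h) hsl (ht θ).toNat θ hr h0 hs (by rw [Int.toNat_of_nonneg hht])
  obtain ⟨d, hd⟩ := exists_fg (Ad := Ad) H.cham.ex f c
  set bi := rep cs h (cs.wordProd f) (sr i) with hbi
  set bj := rep cs h (cs.wordProd f) (sr j) with hbj
  have hne : bi ≠ bj := by
    intro he
    have h1 := rep_injective_apply cs h _ he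
    have h2 := congrFun h1 i
    rw [sr_self, sr_ne hij] at h2
    exact one_ne_zero h2
  have hbi1 : bi k = 1 := crossed hsl hθ hk (f1 := f) (f2 := []) hi
  have hbj1 : bj k = 1 := crossed hsl hθ hk (f1 := f) (f2 := []) hj
  have hbir : IsRoot cs h bi := isRoot_rep _ _
  have hbjr : IsRoot cs h bj := isRoot_rep _ _
  have ci : ∀ f1 t f2, f = f1 ++ t :: f2 → rep cs h (cs.wordProd f1) (sr t) ≠ bi := by
    rintro f1 t f2 rfl
    exact Ch.ne hsl hθ hk hi
  have cj : ∀ f1 t f2, f = f1 ++ t :: f2 → rep cs h (cs.wordProd f1) (sr t) ≠ bj := by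
    rintro f1 t f2 rfl
    exact Ch.ne hsl hθ hk hj
  have cc : ∀ f1 t f2, f = f1 ++ t :: f2 → rep cs h (cs.wordProd f1) (sr t) k = 1 := by
    rintro f1 t f2 rfl
    exact crossed hsl hθ hk hi.left
  obtain ⟨t1, ht1, h1⟩ := surj fun β => if β = bi then 1 else 0
  obtain ⟨t2, ht2, h2⟩ := surj fun β => if β = bj then 1 else 0
  have g1 : FG Ad (fun x => t1 • x) f c d :=
    fix_gallery H hsl hθ hk hy (he t1 ht1) (hQc t1 ht1) hi.left (fun f1 t f2 hff => by
      rw [h1 _ (isRoot_rep _ _) (cc f1 t f2 hff), if_neg (ci f1 t f2 hff)]) hd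
  have g2 : FG Ad (fun x => t2 • x) f c d :=
    fix_gallery H hsl hθ hk hy (he t2 ht2) (hQc t2 ht2) hi.left (fun f1 t f2 hff => by
      rw [h2 _ (isRoot_rep _ _) (cc f1 t f2 hff), if_neg (cj f1 t f2 hff)]) hd
  refine ⟨t1, ht1, t2, ht2, noncomm H hij hm g1.right g2.right ?_ ?_ ?_⟩
  · rw [val H hsl hθ hk hy (he t1 ht1) hi g1, h1 bi hbir hbi1, if_pos rfl]
  · rw [val H hsl hθ hk hy (he t2 ht2) hi g2, h2 bi hbir hbi1, if_neg hne]
  · rw [val H hsl hθ hk hy (he t2 ht2) hj g2, h2 bj hbjr hbj1, if_pos rfl]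

theorem finite_roots : Finite {β // IsRoot cs h β ∧ β k = 1} := by
  have h1 : (Set.range fun p : W × I => rep cs h p.1 (sr p.2)).Finite := Set.finite_range _
  refine Set.Finite.to_subtype (s := {β | IsRoot cs h β ∧ β k = 1}) (h1.subset ?_)
  rintro β ⟨⟨w, i, rfl⟩, -⟩
  exact ⟨(w, i), rfl⟩

/-- the count -/
theorem card_le [Finite G] (H : CS G Ad (fun i j => M i j)) {Q : Subgroup G}
    (hQe : ∀ q ∈ Q, ∀ β, IsRoot cs h β → β k = 1 → q • e β = e β)
    (surj : ∀ φ : (I → ℤ) → ZMod 2, ∃ q ∈ Q, ∀ β, IsRoot cs h β → β k = 1 → lam Ad k (e β) q = φ β)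
    (hnc : ∃ t1 ∈ Q, ∃ t2 ∈ Q, t1 * t2 ≠ t2 * t1) :
    2 ^ (Nat.card {β // IsRoot cs h β ∧ β k = 1} + 1) ≤ Nat.card Q := by
  classical
  have := finite_roots (cs := cs) (h := h) (k := k)
  let F : Q →* Multiplicative ({β // IsRoot cs h β ∧ β k = 1} → ZMod 2) := MonoidHom.mk'
    (fun q => Multiplicative.ofAdd fun β => lam Ad k (e β.1) (q : G)) (fun a b => by
      rw [← ofAdd_add]
      congr 1
      funext β
      exact H.lam_mul (hQe a a.2 β.1 β.2.1 β.2.2) (hQe b b.2 β.1 β.2.1 β.2.2))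
  have hF : Function.Surjective F := by
    intro ψ
    obtain ⟨q, hq, h1⟩ := surj fun β => if hβ : IsRoot cs h β ∧ β k = 1 then Multiplicative.toAdd ψ ⟨β, hβ⟩ else 0
    refine ⟨⟨q, hq⟩, ?_⟩
    show Multiplicative.ofAdd (fun β : {β // IsRoot cs h β ∧ β k = 1} => lam Ad k (e β.1) q) = ψ
    rw [← ofAdd_toAdd ψ]
    congr 1
    funext β
    rw [h1 β.1 β.2.1 β.2.2, dif_pos β.2]
  have h1 := Subgroup.card_eq_card_quotient_mul_card_subgroup F.ker
  rw [Nat.card_congr (QuotientGroup.quotientKerEquivOfSurjective F hF).toEquiv] at h1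
  have h2 : Nat.card (Multiplicative ({β // IsRoot cs h β ∧ β k = 1} → ZMod 2)) =
      2 ^ Nat.card {β // IsRoot cs h β ∧ β k = 1} := by
    rw [Nat.card_congr Multiplicative.toAdd, Nat.card_fun, Nat.card_zmod]
  have h3 : 1 < Nat.card F.ker := by
    rw [Subgroup.one_lt_card_iff_ne_bot]
    intro hbot
    rw [MonoidHom.ker_eq_bot_iff] at hbot
    obtain ⟨t1, ht1, t2, ht2, hne⟩ := hnc
    apply hne
    have h4 : F (⟨t1, ht1⟩ * ⟨t2, ht2⟩) = F (⟨t2, ht2⟩ * ⟨t1, ht1⟩) := by
      rw [map_mul, map_mul, mul_comm]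
    exact congrArg Subtype.val (hbot h4)
  rw [h1, h2, pow_succ]
  exact Nat.mul_le_mul_left _ h3

end gal

end Cfsg.Agent.ParSys.Wt.E8
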