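import Mathlib
import Cfsg.Agent.ParSys.Wt.E8
import Cfsg.Agent.ParSys.Wt.MFree
import Cfsg.Agent.ParSys.Wt.Res

/-!
# THEOREM W, (W3): the data for `E₈`
-/

set_option autoImplicit false

namespace Cfsg.Agent.ParSys.Wt.E8

open Cfsg.Agent.ParSys Cfsg.Agent.ParSys.Free Cfsg.Agent.ParSys.Wt
open Cfsg.Agent.ChevalleyStructure.CoxeterGeom Cfsg.Agent.Tits.Roots Cfsg.Agent.Tits.Core Cfsg.Agent.Tits.Exchange
  Cfsg.Agent.ParSys.Wt.RootComb Cfsg.Agent.LieRecognition.CoxClass

variable {I W : Type*} [Fintype I] [DecidableEq I] [Group W] {M : CoxeterMatrix I} (cs : CoxeterSystem M W)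
  {A : I → I → ℤ} (h : IsCartan M A)

/-- the words of a transversal -/
theorem exists_tv [Finite W] (hsl : SL M) (k : I) : ∃ y, Tv cs h k y := by
  have key : ∀ β : I → ℤ, ∃ f : List I, IsRoot cs h β → β k = 1 →
      cs.IsReduced f ∧ (∀ s ∈ f, s ≠ k) ∧ rep cs h (cs.wordProd f) (sr k) = β := by
    intro β
    by_cases hβ : IsRoot cs h β ∧ β k = 1
    · have h1 : β ∈ Psi cs h Set.univ k := ⟨hβ.1, hβ.2, fun i hi => absurd (Set.mem_univ i) hi⟩
      obtain ⟨y, hy, hyβ⟩ := (mem_Psi_iff hsl (Set.mem_univ k)).1 h1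
      obtain ⟨f, hf, hred, rfl⟩ := exists_reduced_of_mem_WJ cs hy
      exact ⟨f, fun _ _ => ⟨hred, fun s hs => (hf s hs).2, hyβ.symm⟩⟩
    · exact ⟨[], fun h1 h2 => absurd ⟨h1, h2⟩ hβ⟩
  choose y hy using key
  exact ⟨y, fun β h1 h2 => (hy β h1 h2).1, fun β h1 h2 => (hy β h1 h2).2.1, fun β h1 h2 => (hy β h1 h2).2.2⟩

/-- positive vectors of norm two are roots -/
theorem isRoot_of_bil [Finite W] (hsl : SL M) (n : ℕ) : ∀ x : I → ℤ, 0 ≤ x → ht x = n → bil A x x = 2 →
    IsRoot cs h x := by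
  have := Fintype.ofFinite W
  induction n with
  | zero =>
    intro x h0 hn hb
    exfalso
    have hx : x = 0 := by
      funext b
      have h1 : ∀ b ∈ Finset.univ, x b = 0 :=
        (Finset.sum_eq_zero_iff_of_nonneg fun b _ => h0 b).1 hn
      exact h1 b (Finset.mem_univ b)
    subst hx
    unfold bil at hb
    simp at hb
  | succ n ih =>
    intro x h0 hn hb
    have hne : x ≠ 0 := by
      rintro rfl
      unfold bil at hb
      simp at hb
    obtain ⟨t, ht0, htp⟩ := exists_pairing_pos cs h h0 hne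
    by_cases hxt : x = sr t
    · rw [hxt]; exact isRoot_sr cs h t
    have h1 := bil_pos cs h hsl (sub_ne_zero.2 hxt)
    have e1 : bil A (x - sr t) (x - sr t) = 4 - 2 * pairing A t x := by
      rw [bil_sub_left, bil_sub_right, bil_sub_right, hb, bil_sr_left, bil_sr_right h hsl, bil_sr_self h]
      ring
    have h2 : pairing A t x = 1 := by omega
    rw [e1] at h1
    have h3 : rep cs h (cs.simple t) x = x - sr t := by
      rw [rep_simple_eq, h2, one_smul]
    have h4 : 0 ≤ x - sr t := by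
      intro b
      by_cases hbt : b = t
      · subst hbt
        show (0 : ℤ) ≤ (x - sr b) b
        rw [Pi.sub_apply, sr_self]
        omega
      · rw [Pi.sub_apply, sr_ne hbt, sub_zero]
        exact h0 b
    have h5 : IsRoot cs h (x - sr t) := by
      refine ih _ h4 ?_ (by rw [e1, h2]; norm_num)
      rw [← h3, ht_simple, h2, hn]
      push_cast
      ring
    have h6 := h5.act (cs.simple t)
    rwa [← h3, ← rep_mul_apply, cs.simple_mul_simple_self, map_one, Module.End.one_apply] at h6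

/-- the highest root of `E₈` -/
theorem exists_theta [Finite W] (hsl : SL M) {v : Fin 8 ≃ I} (hv : Lab M v (mE 8)) :
    ∃ θ : I → ℤ, IsRoot cs h θ ∧ 0 ≤ θ ∧ (∀ i, θ ≠ sr i) ∧ (∀ s, s ≠ v 6 → pairing A s θ = 0) ∧
      pairing A (v 6) θ = 1 ∧ θ (v 6) = 2 := by
  let x : Fin 8 → ℤ := ![2, 4, 6, 5, 4, 3, 2, 3]
  have hp : ∀ i : Fin 8, pairing A (v i) (fun j => x (v.symm j)) = if i = 6 then 1 else 0 := by
    intro i
    rw [pairing_lab h hsl hv]
    revert i
    decide +kernel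
  have h0 : (0 : I → ℤ) ≤ fun j => x (v.symm j) := by
    intro j
    show 0 ≤ x (v.symm j)
    generalize v.symm j = i
    revert i
    decide +kernel
  have hs : ∀ s, s ≠ v 6 → pairing A s (fun j => x (v.symm j)) = 0 := by
    intro s hs
    obtain ⟨i, rfl⟩ := v.surjective s
    rw [hp, if_neg (fun h6 => hs (by rw [h6]))]
  have h6 : pairing A (v 6) (fun j => x (v.symm j)) = 1 := by rw [hp, if_pos rfl]
  have hx6 : (fun j => x (v.symm j)) (v 6) = 2 := by
    show x (v.symm (v 6)) = 2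
    rw [v.symm_apply_apply]
    rfl
  refine ⟨fun j => x (v.symm j), ?_, h0, ?_, hs, h6, hx6⟩
  · have hn : (0 : ℤ) ≤ ht (fun j => x (v.symm j)) := Finset.sum_nonneg fun b _ => h0 b
    refine isRoot_of_bil cs h hsl (ht (fun j => x (v.symm j))).toNat _ h0 (by rw [Int.toNat_of_nonneg hn]) ?_
    rw [coord hs h6]
    exact hx6
  · intro i he
    have h1 := congrFun he (v 6)
    change (fun j => x (v.symm j)) (v 6) = sr i (v 6) at h1
    rw [hx6] at h1
    by_cases hi : v 6 = i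
    · rw [hi, sr_self] at h1
      omega
    · rw [sr_ne hi] at h1
      omega

/-- the number of roots -/
theorem card_top [Finite W] (hsl : SL M) {θ : I → ℤ} {k : I} (hr : IsRoot cs h θ) (h0 : 0 ≤ θ)
    (hθ : ∀ s, s ≠ k → pairing A s θ = 0) (hk : pairing A k θ = 1) :
    Nat.card (Psi cs h Set.univ k) + cs.length (wJ cs (Set.univ \ {k})) + 1 = cs.length (wJ cs Set.univ) := by
  have hθ2 : θ k = 2 := by
    rw [← coord hθ hk θ, bil_root (cs := cs) (h := h) hsl hr]
  have hU : Pos cs h Set.univ = insert θ (Psi cs h Set.univ k ∪ Pos cs h (Set.univ \ {k})) := by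
    ext β
    rw [Set.mem_insert_iff]
    constructor
    · rintro ⟨h1, h2, h3⟩
      by_cases hβ : β = θ
      · exact Or.inl hβ
      right
      have h4 := bil_le_one (cs := cs) (h := h) hsl h1 hr hβ
      rw [coord hθ hk] at h4
      have h5 : 0 ≤ β k := h2 k
      by_cases h6 : β k = 1
      · exact Or.inl ⟨h1, h6, h3⟩
      · refine Or.inr ⟨h1, h2, fun i hi => ?_⟩
        by_cases hik : i = k
        · rw [hik]
          omega
        · exact absurd ⟨Set.mem_univ i, hik⟩ hi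
    · rintro (rfl | hβ | ⟨h1, h2, h3⟩)
      · exact ⟨hr, h0, fun i hi => absurd (Set.mem_univ i) hi⟩
      · exact ⟨hβ.1, Psi.nonneg hβ, hβ.2.2⟩
      · exact ⟨h1, h2, fun i hi => absurd (Set.mem_univ i) hi⟩
  have hD : Disjoint (Psi cs h Set.univ k) (Pos cs h (Set.univ \ {k})) := by
    rw [Set.disjoint_left]
    intro β h1 h2
    have h3 := h2.2.2 k (fun hk => hk.2 rfl)
    rw [h1.2.1] at h3
    exact absurd h3 (by decide)
  have hF1 := finite_Pos cs h Set.univ
  have hF2 := finite_Pos cs h (Set.univ \ {k})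
  have hF3 : (Psi cs h Set.univ k).Finite := hF1.subset (by
    rw [hU]; exact Set.subset_union_left.trans (Set.subset_insert _ _))
  have hnot : θ ∉ Psi cs h Set.univ k ∪ Pos cs h (Set.univ \ {k}) := by
    rintro (h1 | h1)
    · have := h1.2.1
      omega
    · have := h1.2.2 k (fun hk => hk.2 rfl)
      omega
  rw [← ncard_Pos cs h Set.univ, ← ncard_Pos cs h (Set.univ \ {k}), hU, Set.ncard_insert_of_notMem hnot (hF3.union hF2),
    Set.ncard_union_eq hD hF3 hF2]
  rfl

section final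

variable {C G : Type*} [Group G] [MulAction G C] {Ad : I → C → C → Prop} {cs h}

omit [Fintype I] [DecidableEq I] in
/-- an element which fixes the `J`-residue of `c` fixes the galleries in it -/
theorem fg_of_fix {J : Set I} {c : C} {q : G} (hq : ∀ x, InRes Ad J c x → q • x = x) {f : List I}
    (hf : ∀ i ∈ f, i ∈ J) {x d : C} (hx : InRes Ad J c x) (hd : FG Ad id f x d) : FG Ad (fun x => q • x) f x d := by
  induction f generalizing x with
  | nil =>
    obtain ⟨-, rfl⟩ := fg_nil.1 hd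
    exact fg_nil.2 ⟨hq x hx, rfl⟩
  | cons i f ih =>
    obtain ⟨e, ⟨-, h1⟩, h2⟩ := fg_cons.1 hd
    have he : InRes Ad J c e := hx.tail ⟨i, hf i (by simp), h1⟩
    exact fg_cons.2 ⟨e, ⟨hq x hx, h1⟩, ih (fun j hj => hf j (by simp [hj])) he h2⟩

/-- **(W3), final form** -/
theorem w3 [Finite W] [Finite G] (H : Sy G cs Ad) (hsl : SL M) {θ : I → ℤ} {k : I} (hr : IsRoot cs h θ) (h0 : 0 ≤ θ)
    (hs : ∀ i, θ ≠ sr i) (hθ : ∀ s, s ≠ k → pairing A s θ = 0) (hk : pairing A k θ = 1) {c : C} {Q : Subgroup G}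
    (hQ : ∀ q ∈ Q, ∀ x, InRes Ad (Set.univ \ {k}) c x → q • x = x) {a : W → C}
    (ha : ∀ y ∈ WJ cs (Set.univ \ {k}), Gl cs Ad y c (a y))
    (surj : ∀ φ : (I → ℤ) → ZMod 2, ∃ q ∈ Q, ∀ y ∈ WJ cs (Set.univ \ {k}),
      lam Ad k (a y) q = φ (rep cs h y (sr k))) :
    2 ^ (Nat.card (Psi cs h Set.univ k) + 1) ≤ Nat.card Q := by
  obtain ⟨y, hy⟩ := exists_tv cs h hsl k
  have hmem : ∀ β, IsRoot cs h β → β k = 1 → cs.wordProd (y β) ∈ WJ cs (Set.univ \ {k}) := fun β h1 h2 =>
    wordProd_mem_WJ cs fun s hs => ⟨Set.mem_univ s, hy.ne β h1 h2 s hs⟩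
  have he : ∀ q ∈ Q, ∀ β, IsRoot cs h β → β k = 1 →
      FG Ad (fun x => q • x) (y β) c (a (cs.wordProd (y β))) := by
    intro q hq β h1 h2
    refine fg_of_fix (hQ q hq) (fun s hs => ⟨Set.mem_univ s, hy.ne β h1 h2 s hs⟩) (InRes.refl _ c) ?_
    exact (H.gl_iff (hy.red β h1 h2)).1 (ha _ (hmem β h1 h2))
  have hsurj : ∀ φ : (I → ℤ) → ZMod 2, ∃ q ∈ Q, ∀ β, IsRoot cs h β → β k = 1 →
      lam Ad k ((fun β => a (cs.wordProd (y β))) β) q = φ β := by
    intro φ
    obtain ⟨q, hq, h1⟩ := surj φ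
    refine ⟨q, hq, fun β h2 h3 => ?_⟩
    have h4 := h1 _ (hmem β h2 h3)
    rwa [hy.eq β h2 h3] at h4
  have hnc := exists_noncomm (e := fun β => a (cs.wordProd (y β))) H.toCS hsl hr h0 hs hθ hk hy
    (fun q hq => hQ q hq c (InRes.refl _ c)) he hsurj
  have h5 := card_le (cs := cs) (h := h) (k := k) (e := fun β => a (cs.wordProd (y β))) H.toCS
    (fun q hq β h1 h2 => (he q hq β h1 h2).right) hsurj hnc
  have h6 : Nat.card (Psi cs h Set.univ k) = Nat.card {β // IsRoot cs h β ∧ β k = 1} := by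
    refine Nat.card_congr (Equiv.subtypeEquivRight fun β => ?_)
    constructor
    · rintro ⟨h1, h2, -⟩
      exact ⟨h1, h2⟩
    · rintro ⟨h1, h2⟩
      exact ⟨h1, h2, fun i hi => absurd (Set.mem_univ i) hi⟩
  rw [h6]
  exact h5

end final

end Cfsg.Agent.ParSys.Wt.E8
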