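import Mathlib
import Cfsg.Agent.ParSys.Wt.Hom
import Cfsg.Agent.ParSys.Wt.E8Inst
import Cfsg.Agent.ParSys.FreeMain

/-!
# THEOREM W (bb #12324): simply laced parabolic systems with three chambers per panel are BN-pairs

The order of the Borel subgroup is not given: it follows from the linear functionals on the kernels of the honest residues.

* `exists_moving` : (W1), nondegeneracy;
* `two_pow_le` : `2 ^ ℓ(w0) ≤ |B|`;
* `exists_bnPair` : the BN-pair.
-/

set_option autoImplicit false
set_option linter.unusedSectionVars false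

namespace Cfsg.Agent.ParSys.Wt.Main

open Cfsg.Agent.ParSys Cfsg.Agent.ParSys.Free Cfsg.Agent.Tits.Core Cfsg.Agent.Tits.Exchange
  Cfsg.Agent.ChevalleyStructure.CoxeterGeom Cfsg.Agent.Tits.Roots Cfsg.Agent.ParSys.Wt.RootComb
  Cfsg.Agent.ParSys.Wt.W2 Cfsg.Agent.ParSys.Wt.Hom Cfsg.Agent.LieRecognition.CoxClass

variable {I : Type*} [Fintype I] [DecidableEq I] {M : CoxeterMatrix I} {W : Type*} [Group W] [Finite W]
  {cs : CoxeterSystem M W} {A : I → I → ℤ} (h : IsCartan M A)

include h cs in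
/-- the diagram of a finite Coxeter group is a forest (as far as we need it) -/
theorem dia (hsl : SL M) : Deg.Dia (fun i j => M i j) := by
  have hne : ∀ i j, M i j = 3 → i ≠ j := by
    rintro i j hij rfl
    rw [M.diagonal] at hij
    omega
  have hA : ∀ i j, M i j = 3 → A i j = -1 ∧ A j i = -1 := fun i j hij =>
    ⟨cartan_neg_one h (hne i j hij) hij, cartan_neg_one h (hne i j hij).symm (by rw [M.symmetric]; exact hij)⟩
  have hb : ∀ i j, bil A (sr i) (sr j) = A i j := by
    intro i j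
    rw [bil_sr_left, sr, pairing_single, mul_one]
  have hpos : ∀ x : I → ℤ, x ≠ 0 → 0 < bil A x x := fun x hx => bil_pos cs h hsl hx
  refine ⟨fun i => by rw [M.diagonal]; omega, hsl, ?_, ?_⟩
  · intro i j k hij hjk hik
    have hx : sr i + sr j + sr k ≠ 0 := by
      intro h0
      have := congrFun h0 i
      rw [Pi.add_apply, Pi.add_apply, sr_self, sr_ne (hne i j hij), sr_ne (hne i k hik), Pi.zero_apply] at this
      omega
    have h1 := hpos _ hx
    simp only [bil_add_left, bil_add_right, hb, h.diag, hA i j hij, hA j k hjk, hA i k hik] at h1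
    omega
  · intro i j k l hik hjl hij hil hkj hkl
    have hx : sr i + sr j + sr k + sr l ≠ 0 := by
      intro h0
      have := congrFun h0 i
      rw [Pi.add_apply, Pi.add_apply, Pi.add_apply, sr_self, sr_ne (hne i j hij), sr_ne hik,
        sr_ne (hne i l hil), Pi.zero_apply] at this
      omega
    have h1 := hpos _ hx
    have h2 := cartan_nonpos h hik
    have h3 := cartan_nonpos h hjl
    have h4 := cartan_nonpos h hik.symm
    have h5 := cartan_nonpos h hjl.symm
    simp only [bil_add_left, bil_add_right, hb, h.diag, hA i j hij, hA i l hil, hA k j hkj, hA k l hkl] at h1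
    omega

section general

variable {C G : Type*} [Group G] [Finite G] [MulAction G C] [Finite C] {Ad : I → C → C → Prop}
  (H : Sy G cs Ad) (hsl : SL M) (hconn : Conn M) (h3 : 3 ≤ Fintype.card I)
  (hHon : ∀ K : Set I, K ≠ Set.univ → Hon G cs Ad K) {c : C}

include h H hsl hconn h3 hHon in
/-- either the panel `k` is moved by the kernel of the residue `I - k`, or the system is degenerate -/
theorem exists_moving_or (k : I) :
    (∃ q ∈ Fix G Ad (Set.univ \ {k}) c, lam Ad k c q = 1) ∨
      ∀ c' : C, ∀ g : G, g • c' = c' → ∑ i, lam Ad i c' g = 0 := by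
  by_cases hcase : ∃ q ∈ Fix G Ad (Set.univ \ {k}) c, lam Ad k c q = 1
  · exact Or.inl hcase
  right
  have z2 : ∀ x : ZMod 2, x ≠ 1 → x = 0 := by decide
  have h0 : ∀ g ∈ Fix G Ad (Set.univ \ {k}) c, lam Ad k c g = 0 := fun g hg =>
    z2 _ fun h1 => hcase ⟨g, hg, h1⟩
  have hne : ∀ i : I, (Set.univ \ {i} : Set I) ≠ Set.univ := fun i he => by
    have : i ∈ (Set.univ \ {i} : Set I) := by rw [he]; trivial
    exact this.2 rfl
  obtain ⟨ε, hε1, hε2⟩ := exists_coeff h H hsl hconn h3 c _ (Set.univ \ {k}) rfl (hne k) (hHon _ (hne k))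
    (lam Ad k c) (isCh_lam H c k) h0
  have hεk : ε k = 0 := hε1 k fun hk => hk.2 rfl
  have hε : ∀ i, i ≠ k → ε i = 1 := by
    intro i hik
    by_contra hcon
    have hi0 : ε i = 0 := z2 _ hcon
    obtain ⟨u, hu1, hu2, hu3⟩ := exists_root h H (hHon _ (hne i)) c (k := k) ⟨trivial, fun hk => hik hk.symm⟩
    have h1 := hε2 u (Fix_le hu1)
    rw [hu2] at h1
    have h2 : ∑ j, ε j * lam Ad j c u = 0 := by
      refine Finset.sum_eq_zero fun j _ => ?_
      by_cases hjk : j = k
      · rw [hjk, hεk, zero_mul]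
      · by_cases hji : j = i
        · rw [hji, hi0, zero_mul]
        · rw [hu3 j ⟨trivial, hji⟩ hjk, mul_zero]
    rw [h2] at h1
    exact absurd h1 (by decide)
  have hc : ∀ g : G, g • c = c → ∑ i, lam Ad i c g = 0 := by
    intro g hg
    have h1 := hε2 g hg
    have h2 : ∑ i, lam Ad i c g = lam Ad k c g + ∑ i, ε i * lam Ad i c g := by
      have h4 : ∀ i, lam Ad i c g = (if i = k then lam Ad k c g else 0) + ε i * lam Ad i c g := by
        intro i
        by_cases hik : i = k
        · subst hik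
          rw [if_pos rfl, hεk, zero_mul, add_zero]
        · rw [if_neg hik, hε i hik, one_mul, zero_add]
      rw [Finset.sum_congr rfl fun i _ => h4 i, Finset.sum_add_distrib, Finset.sum_ite_eq' Finset.univ k,
        if_pos (Finset.mem_univ k)]
    rw [h2, ← h1]
    have : ∀ x : ZMod 2, x + x = 0 := by decide
    exact this _
  intro c' g hg
  obtain ⟨g0, rfl⟩ := H.tr c c'
  have h1 : ∀ i, lam Ad i (g0 • c) g = lam Ad i c (g0⁻¹ * g * g0) := fun i => H.lam_smul
  rw [Finset.sum_congr rfl fun i _ => h1 i]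
  apply hc
  rw [mul_smul, mul_smul, hg, inv_smul_smul]

include h H hsl hconn h3 hHon in
/-- **nondegeneracy**: (W1) and the characters -/
theorem exists_moving (hfaith : Fix G Ad Set.univ c = ⊥) {m0 : I}
    (leaf : ∀ i j, M m0 i = 3 → M m0 j = 3 → i = j) (hm0 : Fix G Ad (Set.univ \ {m0}) c ≠ ⊥) (k : I) :
    ∃ q ∈ Fix G Ad (Set.univ \ {k}) c, lam Ad k c q = 1 := by
  rcases exists_moving_or h H hsl hconn h3 hHon (c := c) k with h1 | h1
  · exact h1
  exfalso
  apply hm0
  rw [eq_bot_iff, ← hfaith]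
  intro g hg x hx
  refine Deg.fix_all H.toCS (dia (cs := cs) h hsl) (m0 := m0) leaf (fun c' hc' => h1 c' g hc') (c0 := c) ?_ ?_
  · intro x hx
    apply hg
    induction hx with
    | refl => exact InRes.refl _ c
    | tail _ hbc ih =>
      obtain ⟨i, hi, hab⟩ := hbc
      exact ih.trans (Relation.ReflTransGen.single ⟨i, ⟨trivial, hi⟩, hab⟩)
  · induction hx with
    | refl => exact Relation.ReflTransGen.refl
    | tail _ hbc ih =>
      obtain ⟨i, _, hab⟩ := hbc
      exact ih.tail ⟨i, hab⟩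

include h H hsl in
/-- the lower bound for `|Q_J|` -/
theorem card_Fix_ge {K : Set I} {k : I} (hk : k ∈ K) (hJ : Hon G cs Ad (K \ {k})) {q0 : G}
    (hq0 : q0 ∈ Fix G Ad (K \ {k}) c) (hl : lam Ad k c q0 = 1) :
    2 ^ Nat.card (Psi cs h K k) ≤ Nat.card (Fix G Ad (K \ {k}) c) := by
  classical
  obtain ⟨a, ha, -⟩ := exists_apt H hJ c
  have key : ∀ φ : Psi cs h K k → ZMod 2, ∃ q ∈ (⊤ : Subgroup G), q ∈ Fix G Ad (K \ {k}) c ∧
      ∀ β : Psi cs h K k, lamP cs h Ad K k a β q = φ β := fun φ =>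
    exists_of_fun h hsl H hk ha (fun _ _ _ _ => Subgroup.mem_top _) hq0 hl φ (Or.inr (Subgroup.mem_top _))
  choose g _ hg1 hg2 using key
  have e : 2 ^ Nat.card (Psi cs h K k) = Nat.card (Psi cs h K k → ZMod 2) := by
    rw [Nat.card_fun, Nat.card_zmod]
  rw [e]
  refine Nat.card_le_card_of_injective (fun φ => (⟨g φ, hg1 φ⟩ : Fix G Ad (K \ {k}) c)) ?_
  intro φ ψ he
  have he' : g φ = g ψ := congrArg Subtype.val he
  funext β
  rw [← hg2 φ, ← hg2 ψ, he']

include h H hsl hconn h3 hHon in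
/-- **THEOREM W**: the order of the stabiliser of a chamber -/
theorem two_pow_le (hfaith : Fix G Ad Set.univ c = ⊥) {m0 : I}
    (leaf : ∀ i j, M m0 i = 3 → M m0 j = 3 → i = j) (hm0 : Fix G Ad (Set.univ \ {m0}) c ≠ ⊥) :
    2 ^ cs.length (w0 cs) ≤ Nat.card (MulAction.stabilizer G c) := by
  classical
  have hne : ∀ i : I, (Set.univ \ {i} : Set I) ≠ Set.univ := fun i he => by
    have : i ∈ (Set.univ \ {i} : Set I) := by rw [he]; trivial
    exact this.2 rfl
  have hnonempty : (Set.univ : Set I).Nonempty := by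
    have : Nonempty I := Fintype.card_pos_iff.1 (by omega)
    exact Set.univ_nonempty
  by_cases h8 : ∃ v : Fin 8 ≃ I, Lab M v (mE 8)
  · obtain ⟨v, hv⟩ := h8
    obtain ⟨θ, t1, t2, t3, t4, t5, -⟩ := E8.exists_theta (cs := cs) h hsl hv
    obtain ⟨q0, hq0, hl⟩ := exists_moving h H hsl hconn h3 hHon hfaith leaf hm0 (v 6)
    have hJ := hHon _ (hne (v 6))
    obtain ⟨a, ha, hgl⟩ := exists_apt H hJ c
    have h1 : 2 ^ (Nat.card (Psi cs h Set.univ (v 6)) + 1) ≤ Nat.card (Fix G Ad (Set.univ \ {v 6}) c) := by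
      refine E8.w3 H hsl t1 t2 t3 t4 t5 (fun q hq x hx => hq x hx) hgl ?_
      intro φ
      obtain ⟨q, -, hq1, hq2⟩ := exists_of_fun h hsl H (Set.mem_univ (v 6)) ha
        (V := ⊤) (fun _ _ _ _ => Subgroup.mem_top _) hq0 hl (fun β => φ β) (Or.inr (Subgroup.mem_top _))
      refine ⟨q, hq1, fun y hy => ?_⟩
      have h4 := hq2 ⟨rep cs h y (sr (v 6)), (mem_Psi_iff hsl (Set.mem_univ _)).2 ⟨y, hy, rfl⟩⟩
      rwa [lamP_eq h hsl H ha hy hq1] at h4
    have h2 := Count.card_ge H hJ c
    have h4 := E8.card_top (cs := cs) h hsl t1 t2 t4 t5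
    calc 2 ^ cs.length (w0 cs)
        = 2 ^ cs.length (wJ cs (Set.univ \ {v 6})) * 2 ^ (Nat.card (Psi cs h Set.univ (v 6)) + 1) := by
          rw [← pow_add]
          congr 1
          show cs.length (wJ cs Set.univ) = _
          omega
      _ ≤ 2 ^ cs.length (wJ cs (Set.univ \ {v 6})) * Nat.card (Fix G Ad (Set.univ \ {v 6}) c) :=
          Nat.mul_le_mul_left _ h1
      _ ≤ _ := h2
  · push Not at h8
    obtain ⟨k, hk, hmf⟩ := exists_mfree' cs h hsl hconn h3 h8 hnonempty
    obtain ⟨q0, hq0, hl⟩ := exists_moving h H hsl hconn h3 hHon hfaith leaf hm0 k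
    have hJ := hHon _ (hne k)
    have h1 := card_Fix_ge h H hsl hk hJ hq0 hl
    have h2 := Count.card_ge H hJ c
    have h4 := card_Psi cs h hmf
    calc 2 ^ cs.length (w0 cs)
        = 2 ^ cs.length (wJ cs (Set.univ \ {k})) * 2 ^ Nat.card (Psi cs h Set.univ k) := by
          rw [← pow_add]
          congr 1
          show cs.length (wJ cs Set.univ) = _
          omega
      _ ≤ 2 ^ cs.length (wJ cs (Set.univ \ {k})) * Nat.card (Fix G Ad (Set.univ \ {k}) c) :=
          Nat.mul_le_mul_left _ h1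
      _ ≤ _ := h2

end general

/-! ### The group form -/

section group

variable {G : Type*} [Group G] [Finite G] {B : Subgroup G} {P : I → Subgroup G}

theorem sy_of_sys (S : Free.Sys cs B P B (fun _ => 2)) : Sy G cs (adj B P) where
  cham := S.cham
  two := fun i c => S.card_adj' i c
  act := fun g _ _ _ hcd => adj_smul g hcd
  symm := fun i j => M.symmetric i j
  tr := fun x y => by
    induction x using QuotientGroup.induction_on with
    | _ x =>
    induction y using QuotientGroup.induction_on with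
    | _ y =>
    refine ⟨y * x⁻¹, ?_⟩
    show (((y * x⁻¹) * x : G) : G ⧸ B) = (y : G ⧸ B)
    rw [inv_mul_cancel_right]

/-- **THEOREM W**, the BN-pair.  `S` : the parabolic system, all panels have three chambers, `B` is the whole stabiliser of
a chamber; `hHon` : all proper residues are honest; `hm0` : `O_2` of the maximal parabolic opposite to a leaf is `≠ 1`. -/
theorem exists_bnPair (hsl : SL M) (hconn : Conn M) (h3 : 3 ≤ Fintype.card I)
    (S : Free.Sys cs B P B (fun _ => 2)) (hHon : ∀ K : Set I, K ≠ Set.univ → Hon G cs (adj B P) K) {m0 : I}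
    (leaf : ∀ i j, M m0 i = 3 → M m0 j = 3 → i = j)
    (hm0 : ∃ g : G, g ≠ 1 ∧ ∀ p ∈ (⨆ i ∈ (Set.univ \ {m0} : Set I), P i) ⊔ B, p⁻¹ * g * p ∈ B) :
    ∃ Q : Cfsg.BNPair G, Q.B = B ∧ Q.rank = Nat.card I ∧ (∃ e : I ≃ Q.S, ∀ i, (e i : G) ∈ P i) ∧ Q.Irreducible := by
  classical
  obtain ⟨A, h⟩ := exists_cartan M fun i j hij => by
    rcases hsl i j hij with h1 | h1
    · exact Or.inl h1
    · exact Or.inr (Or.inl h1)
  have H := sy_of_sys S
  have hall : ∀ x : G ⧸ B, InRes (adj B P) Set.univ ((1 : G) : G ⧸ B) x := by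
    intro x
    have h1 := conn S.le S.gen ((1 : G) : G ⧸ B) x
    induction h1 with
    | refl => exact InRes.refl _ _
    | tail _ hbc ih =>
      obtain ⟨i, hi⟩ := hbc
      exact ih.trans (Relation.ReflTransGen.single ⟨i, trivial, hi⟩)
  have hfaith : Fix G (adj B P) Set.univ ((1 : G) : G ⧸ B) = ⊥ := by
    rw [eq_bot_iff]
    intro g hg
    rw [Subgroup.mem_bot]
    have hg' : ∀ x : G, x⁻¹ * g * x ∈ B := fun x => Sys.smul_mk_eq.1 (hg _ (hall _))
    refine S.core g ?_ hg'
    simpa using hg' 1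
  have hm : Fix G (adj B P) (Set.univ \ {m0}) ((1 : G) : G ⧸ B) ≠ ⊥ := by
    obtain ⟨g, hg1, hg2⟩ := hm0
    intro hbot
    apply hg1
    rw [← Subgroup.mem_bot, ← hbot]
    intro x hx
    -- the chambers of the residue are the cosets of the parabolic
    have key : ∃ p ∈ (⨆ i ∈ (Set.univ \ {m0} : Set I), P i) ⊔ B, x = (p : G ⧸ B) := by
      induction hx with
      | refl => exact ⟨1, one_mem _, rfl⟩
      | @tail b d _ hbd ih =>
        obtain ⟨p, hp, rfl⟩ := ih
        obtain ⟨i, hi, hbd⟩ := hbd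
        induction d using QuotientGroup.induction_on with
        | _ y =>
        rw [adj_mk S.le] at hbd
        refine ⟨y, ?_, rfl⟩
        have e : y = p * (p⁻¹ * y) := by group
        rw [e]
        refine mul_mem hp (Subgroup.mem_sup_left ?_)
        exact (le_iSup₂_of_le (f := fun (i : I) (_ : i ∈ (Set.univ \ {m0} : Set I)) => P i) i hi le_rfl) hbd.1
    obtain ⟨p, hp, rfl⟩ := key
    rw [Sys.smul_mk_eq]
    exact hg2 p hp
  have h1 := two_pow_le h H hsl hconn h3 hHon hfaith leaf hm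
  have hstab : MulAction.stabilizer G ((1 : G) : G ⧸ B) = B := by
    ext g
    rw [MulAction.mem_stabilizer_iff, Sys.smul_mk_eq]
    simp
  rw [hstab] at h1
  obtain ⟨F, hF, hw⟩ := cs.exists_isReduced (w0 cs)
  have hlen : F.length = cs.length (w0 cs) := by rw [hw]; exact hF.eq.symm
  have hprod : (F.map fun _ => 2).prod = 2 ^ cs.length (w0 cs) := by
    rw [← hlen]; simp
  have h2 := S.card_le hF hw.symm
  rw [hprod] at h2
  obtain ⟨Q, hQ1, hQ2, hQ3, hQ4⟩ := S.exists_bnPair hF hw.symm (by rw [hprod]; exact le_antisymm h2 h1)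
  exact ⟨Q, hQ1, hQ2, hQ3, hQ4 hconn⟩

end group

end Cfsg.Agent.ParSys.Wt.Main
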